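import Cfsg.Agent.Lib.Linear.Pronormal.Wreath
import Cfsg.Agent.S1217

/-!
# The Sylow `2`-subgroups of `GL` and `SL` in dimension a power of two, in odd characteristic

They are iterated wreath products, and their normalisers add only scalars of odd order.
-/

set_option autoImplicit false

namespace Cfsg.Lib.Linear.Pronormal

open Module

section Arith

theorem sub_one_eq_mul (q : ℕ) (hq : 1 ≤ q) (i : ℕ) : ∃ s, q ^ i - 1 = (q - 1) * s ∧ (Odd q → s % 2 = i % 2) := by
  induction i with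
  | zero => exact ⟨0, by simp, fun _ => rfl⟩
  | succ i ih =>
    obtain ⟨s, hs, hpar⟩ := ih
    refine ⟨q * s + 1, ?_, fun hqo => ?_⟩
    · have h1 : 1 ≤ q ^ i := Nat.one_le_pow _ _ hq
      have h2 : q * q ^ i = q * ((q - 1) * s) + q := by
        rw [← hs, Nat.mul_sub, mul_one, Nat.sub_add_cancel (Nat.le_mul_of_pos_right _ h1)]
      rw [pow_succ', h2, mul_add, mul_one, ← mul_assoc, ← mul_assoc, mul_comm q (q - 1)]
      omega
    · have := hpar hqo
      rw [Nat.odd_iff] at hqo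
      rw [Nat.add_mod, Nat.mul_mod, hqo, this]
      omega

theorem padic_odd {q i : ℕ} (hq : Odd q) (hq1 : 1 < q) (hi : Odd i) :
    padicValNat 2 (q ^ i - 1) = padicValNat 2 (q - 1) := by
  obtain ⟨s, hs, hpar⟩ := sub_one_eq_mul q hq1.le i
  have hs1 : s % 2 = 1 := (hpar hq).trans (Nat.odd_iff.1 hi)
  rw [hs, padicValNat.mul (by omega) (by omega), padicValNat.eq_zero_of_not_dvd (n := s) (by omega), add_zero]

theorem padic_even {q i : ℕ} (hq : Odd q) (hq1 : 1 < q) (hi : Even i) (hi0 : i ≠ 0) :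
    padicValNat 2 (q ^ i - 1) + 1 = padicValNat 2 (q + 1) + padicValNat 2 (q - 1) + padicValNat 2 i := by
  rw [Nat.odd_iff] at hq
  have h := padicValNat.pow_two_sub_pow (x := q) (y := 1) hq1 (by omega) (by omega) hi0 hi
  rwa [one_pow] at h

theorem padic_add_two_pow {k i : ℕ} (hi0 : i ≠ 0) (hi : i < 2 ^ k) :
    padicValNat 2 (2 ^ k + i) = padicValNat 2 i := by
  obtain ⟨e, o, ho, rfl⟩ := Nat.exists_eq_two_pow_mul_odd hi0
  have hek : e < k := by
    by_contra h
    have h1 : 2 ^ k ≤ 2 ^ e := Nat.pow_le_pow_right (by norm_num) (by omega)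
    have h2 : 2 ^ e ≤ 2 ^ e * o := Nat.le_mul_of_pos_right _ ho.pos
    omega
  obtain ⟨d, rfl⟩ : ∃ d, k = e + (d + 1) := ⟨k - e - 1, by omega⟩
  rw [pow_add, ← mul_add, padicValNat.mul (b := 2 ^ (d + 1) + o) (pow_ne_zero e two_ne_zero) (Nat.add_pos_right _ ho.pos).ne',
    padicValNat.mul (by positivity) ho.pos.ne', padicValNat.eq_zero_of_not_dvd (n := o) (by rw [Nat.odd_iff] at ho; omega),
    padicValNat.eq_zero_of_not_dvd (n := 2 ^ (d + 1) + o) (by rw [Nat.odd_iff] at ho; rw [pow_succ]; omega)]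

/-- The exponent of two in the order of the general linear group. -/
def twoExp (q m : ℕ) : ℕ := ∑ j ∈ Finset.range m, padicValNat 2 (q ^ (j + 1) - 1)

theorem twoExp_double {q k : ℕ} (hq : Odd q) (hq1 : 1 < q) (h : 1 ≤ k ∨ q % 4 = 1) :
    twoExp q (2 ^ k + 2 ^ k) = twoExp q (2 ^ k) + twoExp q (2 ^ k) + 1 := by
  obtain ⟨m, hm⟩ : ∃ m, 2 ^ k = m + 1 := ⟨2 ^ k - 1, by have := Nat.one_le_two_pow (n := k); omega⟩
  have hsum : ∑ j ∈ Finset.range (2 ^ k), padicValNat 2 (q ^ (2 ^ k + j + 1) - 1) = twoExp q (2 ^ k) + 1 := by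
    rw [twoExp, hm, Finset.sum_range_succ, Finset.sum_range_succ]
    have k1 : ∑ j ∈ Finset.range m, padicValNat 2 (q ^ (m + 1 + j + 1) - 1) =
        ∑ j ∈ Finset.range m, padicValNat 2 (q ^ (j + 1) - 1) := by
      refine Finset.sum_congr rfl fun j hj => ?_
      rw [Finset.mem_range] at hj
      have hk : 1 ≤ k := by
        by_contra hk
        rw [show k = 0 by omega] at hm
        omega
      have hev : Even (2 ^ k) := Nat.even_pow.2 ⟨even_two, by omega⟩
      rw [show m + 1 + j + 1 = 2 ^ k + (j + 1) by omega]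
      rcases Nat.even_or_odd (j + 1) with hj' | hj'
      · have h1 := padic_even hq hq1 hj' (by omega)
        have h2 := padic_even hq hq1 (hev.add hj') (by omega)
        rw [padic_add_two_pow (k := k) (i := j + 1) (by omega) (by omega)] at h2
        omega
      · rw [padic_odd hq hq1 hj', padic_odd hq hq1 (hev.add_odd hj')]
    have k2 : padicValNat 2 (q ^ (m + 1 + m + 1) - 1) = padicValNat 2 (q ^ (m + 1) - 1) + 1 := by
      rw [show m + 1 + m + 1 = 2 * 2 ^ k by omega, show m + 1 = 2 ^ k by omega]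
      have h2 := padic_even hq hq1 (even_two_mul (2 ^ k)) (by omega)
      rw [padicValNat.mul (by norm_num) (by positivity), padicValNat.self (by norm_num)] at h2
      rcases Nat.eq_zero_or_pos k with rfl | hk
      · rw [pow_zero, pow_one] at *
        have h4 : q % 4 = 1 := by omega
        have h5 : padicValNat 2 (q + 1) = 1 := by
          obtain ⟨r, hr⟩ : ∃ r, q + 1 = 2 * r ∧ r % 2 = 1 := ⟨(q + 1) / 2, by omega⟩
          rw [hr.1, padicValNat.mul (by norm_num) (by omega), padicValNat.self (by norm_num),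
            padicValNat.eq_zero_of_not_dvd (n := r) (by omega)]
        rw [padicValNat.one] at h2
        omega
      · have h3 := padic_even hq hq1 (Nat.even_pow.2 ⟨even_two, by omega⟩ : Even (2 ^ k)) (by positivity)
        omega
    omega
  rw [twoExp, Finset.sum_range_add, hsum]
  rw [twoExp]
  omega

end Arith

variable {F : Type*} [Field F] [Fintype F]

section General

variable {U : Type*} [AddCommGroup U] [Module F U]

theorem finite_aut [Finite U] : Finite (U ≃ₗ[F] U) := Finite.of_injective _ DFunLike.coe_injective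

/-- The exponent of two in the order of the automorphism group of a space. -/
theorem factorization_card_aut [FiniteDimensional F U] {m : ℕ} (hm : Module.finrank F U = m) (hq : Odd (Fintype.card F)) :
    (Nat.card (U ≃ₗ[F] U)).factorization 2 = twoExp (Fintype.card F) m := by
  classical
  let b := Module.finBasisOfFinrankEq F U hm
  let e : (U ≃ₗ[F] U) ≃* GL (Fin m) F :=
    (LinearMap.GeneralLinearGroup.generalLinearEquiv F U).symm.trans (Units.mapEquiv (LinearMap.toMatrixAlgEquiv b).toMulEquiv)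
  have hq1 : 1 < Fintype.card F := Fintype.one_lt_card
  rw [Nat.card_congr e.toEquiv, Matrix.card_GL_field]
  have hne : ∀ i : Fin m, Fintype.card F ^ m - Fintype.card F ^ (i : ℕ) ≠ 0 := fun i =>
    (Nat.sub_pos_of_lt (Nat.pow_lt_pow_right hq1 i.isLt)).ne'
  rw [Nat.factorization_prod_apply (fun i _ => hne i), twoExp,
    ← Fin.sum_univ_eq_sum_range (fun j => padicValNat 2 (Fintype.card F ^ (j + 1) - 1)) m,
    ← Fintype.sum_equiv Fin.revPerm _ _ (fun i => rfl)]
  refine Finset.sum_congr rfl fun i _ => ?_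
  have hsplit : Fintype.card F ^ m - Fintype.card F ^ ((Fin.revPerm i : Fin m) : ℕ) =
      Fintype.card F ^ ((Fin.revPerm i : Fin m) : ℕ) * (Fintype.card F ^ ((i : ℕ) + 1) - 1) := by
    rw [Nat.mul_sub, mul_one, ← pow_add]
    congr 2
    simp only [Fin.revPerm_apply, Fin.val_rev]
    omega
  rw [Nat.factorization_def _ Nat.prime_two, hsplit, padicValNat.mul (by positivity)
    (Nat.sub_pos_of_lt (Nat.one_lt_pow (by omega) hq1)).ne', padicValNat.eq_zero_of_not_dvd, zero_add]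
  have := hq.pow (n := ((Fin.revPerm i : Fin m) : ℕ))
  rw [Nat.odd_iff] at this
  omega

/-- The determinant is onto. -/
theorem det_surjective [Nontrivial U] [FiniteDimensional F U] :
    Function.Surjective (LinearEquiv.det : (U ≃ₗ[F] U) →* Fˣ) := by
  classical
  intro c
  let b := Module.finBasis F U
  let i₀ : Fin (Module.finrank F U) := ⟨0, Module.finrank_pos⟩
  let f : U →ₗ[F] U := Matrix.toLin b b (Matrix.diagonal (Function.update 1 i₀ (c : F)))
  have hdet : LinearMap.det f = (c : F) := by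
    rw [LinearMap.det_toLin, Matrix.det_diagonal, Finset.prod_update_of_mem (Finset.mem_univ _)]
    simp
  have hu : IsUnit f := (LinearMap.isUnit_iff_isUnit_det f).2 (hdet.symm ▸ c.isUnit)
  refine ⟨LinearMap.GeneralLinearGroup.generalLinearEquiv F U hu.unit, Units.ext ?_⟩
  rw [LinearEquiv.coe_det, LinearMap.GeneralLinearGroup.generalLinearEquiv_to_linearMap]
  exact hdet

/-- A Sylow `2`-subgroup takes every determinant of two power order. -/
theorem exists_det_eq [Finite U] [Nontrivial U] {W : Subgroup (U ≃ₗ[F] U)} (h2 : IsPGroup 2 W)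
    (hc : Nat.card W = 2 ^ (Nat.card (U ≃ₗ[F] U)).factorization 2) {c : Fˣ} {k : ℕ} (hck : c ^ 2 ^ k = 1) :
    ∃ g ∈ W, LinearEquiv.det g = c := by
  haveI := finite_aut (F := F) (U := U)
  haveI : Fact (Nat.Prime 2) := ⟨Nat.prime_two⟩
  haveI : FiniteDimensional F U := Module.Finite.of_finite
  let P : Sylow 2 (U ≃ₗ[F] U) := Sylow.ofCard W hc
  let P' := P.mapSurjective (det_surjective (F := F) (U := U))
  have hz : IsPGroup 2 (Subgroup.zpowers c) := by
    rintro ⟨x, hx⟩
    obtain ⟨z, rfl⟩ := Subgroup.mem_zpowers_iff.1 hx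
    refine ⟨k, Subtype.ext ?_⟩
    show (c ^ z) ^ 2 ^ k = 1
    rw [← zpow_natCast (c ^ z), ← zpow_mul, mul_comm, zpow_mul, zpow_natCast, hck, one_zpow]
  have hsup : IsPGroup 2 ((Subgroup.zpowers c ⊔ (P' : Subgroup Fˣ) : Subgroup Fˣ)) := hz.to_sup_of_normal_right P'.2
  have heq := P'.is_maximal' hsup le_sup_right
  have hmem : c ∈ (P' : Subgroup Fˣ) :=
    heq ▸ (Subgroup.mem_sup_left (Subgroup.mem_zpowers c) : c ∈ Subgroup.zpowers c ⊔ (P' : Subgroup Fˣ))
  rw [Sylow.coe_mapSurjective] at hmem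
  obtain ⟨g, hg, rfl⟩ := Subgroup.mem_map.1 hmem
  exact ⟨g, hg, rfl⟩

/-- A two-power order unit. -/
theorem det_two_power {W : Subgroup (U ≃ₗ[F] U)} (h2 : IsPGroup 2 W) {g : U ≃ₗ[F] U} (hg : g ∈ W) :
    ∃ k : ℕ, LinearEquiv.det g ^ 2 ^ k = 1 := by
  obtain ⟨k, hk⟩ := h2 ⟨g, hg⟩
  refine ⟨k, ?_⟩
  rw [← map_pow, show g ^ 2 ^ k = 1 from congrArg Subtype.val hk, map_one]

theorem det_pr [FiniteDimensional F U] (a b : U ≃ₗ[F] U) :
    LinearEquiv.det (pr (a, b)) = LinearEquiv.det a * LinearEquiv.det b := by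
  refine Units.ext ?_
  rw [Units.val_mul, LinearEquiv.coe_det, LinearEquiv.coe_det, LinearEquiv.coe_det,
    show ((pr (a, b) : (U × U) ≃ₗ[F] (U × U)) : (U × U) →ₗ[F] (U × U)) = LinearMap.prodMap (a : U →ₗ[F] U) (b : U →ₗ[F] U)
      from rfl, LinearMap.det_prodMap]

/-- A `2`-subgroup with the properties of a Sylow `2`-subgroup of the general linear group. -/
structure Good (W : Subgroup (U ≃ₗ[F] U)) : Prop where
  two : IsPGroup 2 W
  card : Nat.card W = 2 ^ (Nat.card (U ≃ₗ[F] U)).factorization 2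
  irr : Irr (W : Set (U ≃ₗ[F] U))
  sq : ∃ a ∈ W, a * a ≠ 1
  scalar : ∀ x : U ≃ₗ[F] U, Odd (orderOf x) → (∀ g ∈ W, x * g * x⁻¹ ∈ W) → IsScalar x

/-- The additional properties in even dimension. -/
structure GoodTwo (W : Subgroup (U ≃ₗ[F] U)) : Prop extends Good W where
  irrSq : Irr {g : U ≃ₗ[F] U | g ∈ W ∧ IsSquare (LinearEquiv.det g)}
  sqOne : ∃ c ∈ W, LinearEquiv.det c = 1 ∧ c * c ≠ 1

/-- A subgroup of index two in the pairs has the whole kernel of the projection in its projection. -/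
theorem kernel_le_proj {W : Subgroup (U ≃ₗ[F] U)} {S L : Subgroup ((U × U) ≃ₗ[F] (U × U))} {p q : U ≃ₗ[F] U}
    (hp : p ∈ W) (hfull : ∀ a ∈ W, ∃ b ∈ W, pr (a, b) ∈ S)
    (hL : ∀ g ∈ L, ∃ a ∈ W, ∃ b ∈ W, g = pr (a, b) ∧ pr (a, b) ∈ S)
    (hprod : ∀ a ∈ W, ∀ b ∈ W, ∀ c ∈ W, ∀ d ∈ W, pr (a, b) ∈ S → pr (c, d) ∈ S → pr (a, b) ∉ L → pr (c, d) ∉ L →
      pr (a * c, b * d) ∈ L)
    (hswap : ∀ a b, pr (a, b) ∈ L → pr (p * b * p⁻¹, q * a * q⁻¹) ∈ L)
    {b : U ≃ₗ[F] U} (hb : b ∈ W) (hbS : pr (1, b) ∈ S) : ∃ c, pr (b, c) ∈ L := by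
  let P : (U ≃ₗ[F] U) → Prop := fun a => ∃ c, pr (a, c) ∈ L
  show P b
  have hmul : ∀ a c, P a → P c → P (a * c) := fun a c ⟨a', ha⟩ ⟨c', hc⟩ => ⟨a' * c', by
    rw [show ((a * c, a' * c') : (U ≃ₗ[F] U) × (U ≃ₗ[F] U)) = (a, a') * (c, c') from rfl, map_mul]
    exact mul_mem ha hc⟩
  have hinv : ∀ a, P a → P a⁻¹ := fun a ⟨a', ha⟩ => ⟨a'⁻¹, by
    rw [show ((a⁻¹, a'⁻¹) : (U ≃ₗ[F] U) × (U ≃ₗ[F] U)) = (a, a')⁻¹ from rfl, map_inv]
    exact inv_mem ha⟩
  by_contra hbP
  have hout : ∀ a ∈ W, ∀ c ∈ W, ¬ P a → ¬ P c → P (a * c) := by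
    intro a ha c hc hna hnc
    obtain ⟨a', ha', haS⟩ := hfull a ha
    obtain ⟨c', hc', hcS⟩ := hfull c hc
    exact ⟨_, hprod a ha a' ha' c hc c' hc' haS hcS (fun h => hna ⟨_, h⟩) (fun h => hnc ⟨_, h⟩)⟩
  have h1 : pr (1, b) ∈ L := by
    by_contra hno
    obtain ⟨b', hb', hbS'⟩ := hfull b hb
    have h2 := hprod b hb b' hb' 1 (one_mem _) b hb hbS' hbS (fun h => hbP ⟨_, h⟩) hno
    exact hbP ⟨b' * b, by rwa [mul_one] at h2⟩
  have h3 : P (p * b * p⁻¹) := ⟨_, hswap _ _ h1⟩
  by_cases hpP : P p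
  · have h4 := hmul _ _ (hmul _ _ (hinv _ hpP) h3) hpP
    rw [show p⁻¹ * (p * b * p⁻¹) * p = b by group] at h4
    exact hbP h4
  · have h4 := hmul _ _ (hinv _ (hout p hp b hb hpP hbP)) h3
    rw [show (p * b)⁻¹ * (p * b * p⁻¹) = p⁻¹ by group] at h4
    exact hpP (inv_inv p ▸ hinv _ h4)

variable [Nontrivial U] [Finite U]

theorem isPGroup_wr {W : Subgroup (U ≃ₗ[F] U)} (h : Good W) : IsPGroup 2 (wr W) := by
  haveI := finite_aut (F := F) (U := U)
  obtain ⟨e, he⟩ := (IsPGroup.iff_card (p := 2)).1 h.two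
  exact IsPGroup.of_card (n := e + e + 1) (by rw [card_wr, he, ← pow_mul, ← pow_succ']; congr 1; omega)

theorem exists_swap_det {W : Subgroup (U ≃ₗ[F] U)} (h : Good W) :
    ∃ p ∈ W, LinearEquiv.det (pr (p, 1) * sigma) = 1 := by
  haveI := finite_aut (F := F) (U := U)
  haveI : FiniteDimensional F U := Module.Finite.of_finite
  obtain ⟨p, hp, hpd⟩ := exists_det_eq h.two h.card (c := (LinearEquiv.det (sigma : (U × U) ≃ₗ[F] (U × U)))⁻¹) (k := 1)
    (by rw [pow_one, inv_pow, ← map_pow, pow_two, sigma_mul_self, map_one, inv_one])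
  exact ⟨p, hp, by rw [map_mul, det_pr, hpd, map_one, mul_one, inv_mul_cancel]⟩

/-- **The inductive step.** -/
theorem good_wr {W : Subgroup (U ≃ₗ[F] U)} (h : Good W)
    (hv : (Nat.card ((U × U) ≃ₗ[F] (U × U))).factorization 2 =
      (Nat.card (U ≃ₗ[F] U)).factorization 2 + (Nat.card (U ≃ₗ[F] U)).factorization 2 + 1) : GoodTwo (wr W) := by
  haveI := finite_aut (F := F) (U := U)
  haveI := finite_aut (F := F) (U := U × U)
  haveI : FiniteDimensional F U := Module.Finite.of_finite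
  obtain ⟨a, ha, ha2⟩ := h.sq
  obtain ⟨p, hp, hpd⟩ := exists_swap_det h
  have hirrSq : Irr {g : (U × U) ≃ₗ[F] (U × U) | g ∈ wr W ∧ IsSquare (LinearEquiv.det g)} := by
    refine irr_of_swap (c := a * a) ha2 ⟨pr_mem_wr (mul_mem ha ha) (one_mem _), ?_⟩ ?_ ?_ (p := p) (q := 1)
      ⟨swap_mem_wr hp (one_mem _), hpd ▸ IsSquare.one⟩
    · rw [det_pr, map_one, mul_one, map_mul]
      exact ⟨_, rfl⟩
    · exact h.irr.mono fun g hg => ⟨g, pr_mem_wr hg hg, det_pr g g ▸ ⟨_, rfl⟩⟩
    · exact h.irr.mono fun g hg => ⟨g, pr_mem_wr hg hg, det_pr g g ▸ ⟨_, rfl⟩⟩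
  refine { two := isPGroup_wr h, card := ?_, irr := hirrSq.mono fun g hg => hg.1,
           sq := ⟨pr (a, 1), pr_mem_wr ha (one_mem _), ?_⟩, scalar := ?_, irrSq := hirrSq, sqOne := ?_ }
  · rw [card_wr, h.card, hv, ← pow_mul, ← pow_succ']
    congr 1
    omega
  · rw [← map_mul]
    intro he
    exact ha2 (congrArg Prod.fst (pr_injective (he.trans (map_one pr).symm)))
  · intro x hx hn
    refine scalar_of_normalizes (isPGroup_wr h) h.scalar h.irr le_rfl (p := 1) (q := 1) (one_mem _) (one_mem _)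
      (swap_mem_wr (one_mem _) (one_mem _)) (fun g hg => ⟨1, one_mem _, pr_mem_wr hg (one_mem _)⟩)
      ⟨a, ha, 1, one_mem _, pr_mem_wr ha (one_mem _), ha2, one_mul 1⟩ (fun L hL _ hprod hswap => h.irr.mono ?_) hx hn
    intro b hb
    exact kernel_le_proj (one_mem _) (fun g hg => ⟨1, one_mem _, pr_mem_wr hg (one_mem _)⟩) hL hprod hswap hb
      (pr_mem_wr (one_mem _) hb)
  · obtain ⟨k, hk⟩ := det_two_power h.two ha
    obtain ⟨b, hb, hbd⟩ := exists_det_eq h.two h.card (c := (LinearEquiv.det a)⁻¹) (k := k) (by rw [inv_pow, hk, inv_one])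
    refine ⟨pr (a, b), pr_mem_wr ha hb, by rw [det_pr, hbd, mul_inv_cancel], ?_⟩
    rw [← map_mul]
    intro he
    exact ha2 (congrArg Prod.fst (pr_injective (he.trans (map_one pr).symm)))

/-- **In the special linear group only scalars of odd order normalise a Sylow `2`-subgroup.** -/
theorem scalar_det {W : Subgroup (U ≃ₗ[F] U)} (h : GoodTwo W) {x : (U × U) ≃ₗ[F] (U × U)} (hx : Odd (orderOf x))
    (hn : ∀ g ∈ wr W, LinearEquiv.det g = 1 → x * g * x⁻¹ ∈ wr W) : IsScalar x := by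
  haveI := finite_aut (F := F) (U := U)
  haveI := finite_aut (F := F) (U := U × U)
  haveI : FiniteDimensional F U := Module.Finite.of_finite
  let S : Subgroup ((U × U) ≃ₗ[F] (U × U)) := wr W ⊓ LinearEquiv.det.ker
  have hmem : ∀ {g}, g ∈ S ↔ g ∈ wr W ∧ LinearEquiv.det g = 1 := Iff.rfl
  obtain ⟨p, hp, hpd⟩ := exists_swap_det h.toGood
  have hfull : ∀ g ∈ W, ∃ b ∈ W, pr (g, b) ∈ S := fun g hg => by
    obtain ⟨k, hk⟩ := det_two_power h.two hg
    obtain ⟨b, hb, hbd⟩ := exists_det_eq h.two h.card (c := (LinearEquiv.det g)⁻¹) (k := k) (by rw [inv_pow, hk, inv_one])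
    exact ⟨b, hb, pr_mem_wr hg hb, by show LinearEquiv.det (pr (g, b)) = 1; rw [det_pr, hbd, mul_inv_cancel]⟩
  obtain ⟨c, hc, hcd, hc2⟩ := h.sqOne
  refine scalar_of_normalizes (isPGroup_wr h.toGood) h.scalar h.irr (S := S) inf_le_left (p := p) (q := 1) hp
    (one_mem _) ⟨swap_mem_wr hp (one_mem _), hpd⟩ hfull
    ⟨c, hc, 1, one_mem _, ⟨pr_mem_wr hc (one_mem _), by
      show LinearEquiv.det (pr (c, 1)) = 1; rw [det_pr, hcd, map_one, mul_one]⟩, hc2, one_mul 1⟩
    (fun L hL hsqL hprod hswap => h.irrSq.mono ?_) hx (fun g hg => ⟨hn g hg.1 hg.2, ?_⟩)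
  · rintro b ⟨hb, d, hd⟩
    obtain ⟨k, hk⟩ := det_two_power h.two hb
    obtain ⟨e, he, hed⟩ := exists_det_eq h.two h.card (c := d) (k := k + 1) (by
      rw [pow_succ', pow_mul, pow_two, ← hd, hk])
    have hker : ∃ c', pr (b * (e * e)⁻¹, c') ∈ L := by
      refine kernel_le_proj hp hfull hL hprod hswap (mul_mem hb (inv_mem (mul_mem he he)))
        ⟨pr_mem_wr (one_mem _) (mul_mem hb (inv_mem (mul_mem he he))), ?_⟩
      show LinearEquiv.det (pr (1, b * (e * e)⁻¹)) = 1
      rw [det_pr, map_one, one_mul, map_mul, map_inv, map_mul, hed, hd, mul_inv_cancel]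
    obtain ⟨c', hc'⟩ := hker
    obtain ⟨e', he', heS⟩ := hfull e he
    refine ⟨c' * (e' * e'), ?_⟩
    have := mul_mem hc' (hsqL e he e' he' heS)
    rw [← map_mul, ← map_mul] at this
    simpa [mul_assoc] using this
  · show LinearEquiv.det (x * g * x⁻¹) = 1
    rw [map_mul, map_mul, map_inv, (hg.2 : LinearEquiv.det g = 1), mul_one, mul_inv_cancel]

end General

section BaseOne

theorem good_one (h4 : Fintype.card F % 4 = 1) : ∃ W : Subgroup (F ≃ₗ[F] F), Good W := by
  haveI := finite_aut (F := F) (U := F)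
  haveI : Fact (Nat.Prime 2) := ⟨Nat.prime_two⟩
  obtain ⟨P⟩ := (inferInstance : Nonempty (Sylow 2 (F ≃ₗ[F] F)))
  have hcard := P.card_eq_multiplicity
  obtain ⟨g, hg⟩ := IsCyclic.exists_ofOrder_eq_natCard (α := Fˣ)
  obtain ⟨r, hr⟩ : 4 ∣ orderOf g := by
    rw [hg, Nat.card_units, Nat.card_eq_fintype_card]; omega
  have h4' : orderOf (g ^ r) = 4 := by
    have hr0 : r ≠ 0 := fun h => (orderOf_pos g).ne' (by rw [hr, h, mul_zero])
    rw [orderOf_pow, hr, Nat.gcd_eq_right (Dvd.intro_left _ rfl), Nat.mul_div_cancel _ (Nat.pos_of_ne_zero hr0)]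
  obtain ⟨a, ha, had⟩ := exists_det_eq P.2 hcard (c := g ^ r) (k := 2) (by
    rw [show (2 : ℕ) ^ 2 = orderOf (g ^ r) by rw [h4']; rfl, pow_orderOf_eq_one])
  refine ⟨P, P.2, hcard, fun A _ => eq_bot_or_eq_top A, ⟨a, ha, fun he => ?_⟩, fun x _ _ => ⟨x 1, fun u => ?_⟩⟩
  · have h1 := congrArg LinearEquiv.det he
    rw [map_mul, map_one, had, ← pow_two] at h1
    have := orderOf_dvd_of_pow_eq_one h1
    rw [h4'] at this
    omega
  · rw [smul_eq_mul, mul_comm, ← smul_eq_mul, ← map_smul, smul_eq_mul, mul_one]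

end BaseOne

section BaseTwo

variable {U : Type*} [AddCommGroup U] [Module F U]

/-- A `2`-element with an invariant line in a plane squares to one, for `q ≡ 3 (mod 4)`. -/
theorem sq_eq_one (h3 : Fintype.card F % 4 = 3) (h2 : Module.finrank F U = 2) [FiniteDimensional F U]
    {g : U ≃ₗ[F] U} {k : ℕ} (hk : g ^ 2 ^ k = 1) {A : Submodule F U} (h0 : A ≠ ⊥) (h1 : A ≠ ⊤)
    (hA : ∀ u ∈ A, g u ∈ A) : g * g = 1 := by
  have hscal : ∀ c : F, c ^ 2 ^ k = 1 → c * c = 1 := by
    intro c hc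
    have hc0 : c ≠ 0 := fun h => by rw [h, zero_pow (by positivity)] at hc; exact zero_ne_one hc
    have hq := FiniteField.pow_card_sub_one_eq_one c hc0
    obtain ⟨r, hr, hq2⟩ : ∃ r, r % 2 = 1 ∧ Fintype.card F - 1 = 2 * r :=
      ⟨(Fintype.card F - 1) / 2, by omega, by omega⟩
    rw [hq2, pow_mul] at hq
    have h5 : Units.mk0 (c ^ 2) (pow_ne_zero _ hc0) = 1 := by
      refine eq_one_of_two_power k (Units.ext ?_) (Nat.odd_iff.2 hr) (Units.ext ?_)
      · rw [Units.val_pow_eq_pow_val, Units.val_mk0, ← pow_mul, mul_comm, pow_mul, hc, one_pow, Units.val_one]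
      · rw [Units.val_pow_eq_pow_val, Units.val_mk0, hq, Units.val_one]
    rw [← pow_two]
    exact congrArg Units.val h5
  obtain ⟨v, hv, hv0⟩ := Submodule.exists_mem_ne_zero_of_ne_bot h0
  obtain ⟨u, -, hu⟩ := SetLike.exists_of_lt (lt_top_iff_ne_top.2 h1)
  have hA1 : Module.finrank F A = 1 := by
    have := Submodule.finrank_lt h1
    have h : Module.finrank F A ≠ 0 := fun h => h0 (Submodule.finrank_eq_zero.1 h)
    omega
  have hAv : A = Submodule.span F {v} := (Submodule.eq_of_le_of_finrank_eq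
    ((Submodule.span_singleton_le_iff_mem v A).2 hv) (by rw [finrank_span_singleton hv0, hA1])).symm
  have hind : LinearIndependent F ![v, u] := by
    rw [LinearIndependent.pair_iff' hv0]
    intro a ha
    exact hu (ha ▸ A.smul_mem a hv)
  have hspan : ∀ w : U, ∃ a b : F, w = a • v + b • u := by
    intro w
    have : w ∈ Submodule.span F (Set.range ![v, u]) := by
      rw [hind.span_eq_top_of_card_eq_finrank (by simp [h2])]; trivial
    rw [Matrix.range_cons, Matrix.range_cons, Matrix.range_empty, Set.union_empty,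
      Set.singleton_union, Submodule.mem_span_pair] at this
    obtain ⟨a, b, h⟩ := this
    exact ⟨a, b, h.symm⟩
  obtain ⟨l, hl⟩ : ∃ l : F, g v = l • v := by
    have := hA v hv
    rw [hAv, Submodule.mem_span_singleton] at this
    obtain ⟨l, hl⟩ := this
    exact ⟨l, hl.symm⟩
  obtain ⟨a, m, hm⟩ := hspan (g u)
  have hcoef : ∀ {a b : F}, a • v + b • u = u → b = 1 ∧ a = 0 := by
    intro a b h
    have := LinearIndependent.pair_iff.1 hind a (b - 1) (by rw [sub_smul, one_smul, ← add_sub_assoc, h, sub_self] : a • v + (b - 1) • u = 0)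
    exact ⟨sub_eq_zero.1 this.2, this.1⟩
  have hpow : ∀ j : ℕ, (g ^ j) v = l ^ j • v ∧ ∃ b : F, (g ^ j) u = b • v + m ^ j • u := by
    intro j
    induction j with
    | zero => exact ⟨by simp, 0, by simp⟩
    | succ j ih =>
      obtain ⟨hv', b, hb⟩ := ih
      refine ⟨?_, b * l + m ^ j * a, ?_⟩
      · rw [pow_succ', LinearEquiv.mul_apply, hv', map_smul, hl, smul_smul, pow_succ]
      · rw [pow_succ', LinearEquiv.mul_apply, hb, map_add, map_smul, map_smul, hl, hm]
        module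
  obtain ⟨hlk, b, hmk⟩ := hpow (2 ^ k)
  rw [hk] at hlk hmk
  have hl2 : l * l = 1 := by
    refine hscal l ?_
    have : (l ^ 2 ^ k - 1) • v = 0 := by
      rw [sub_smul, one_smul, ← hlk]; simp
    exact sub_eq_zero.1 ((smul_eq_zero.1 this).resolve_right hv0)
  have hm2 : m * m = 1 := hscal m (hcoef hmk.symm).1
  obtain ⟨hv2, b2, hu2⟩ := hpow 2
  rw [pow_two l, hl2, one_smul] at hv2
  rw [pow_two m, hm2, one_smul] at hu2
  have hiter : ∀ j : ℕ, ((g ^ 2) ^ j) u = ((j : F) * b2) • v + u := by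
    intro j
    induction j with
    | zero => simp
    | succ j ih =>
      rw [pow_succ', LinearEquiv.mul_apply, ih, map_add, map_smul, hv2, hu2, Nat.cast_succ]
      module
  have hb2 : b2 = 0 := by
    have h := hiter (2 ^ k)
    rw [← pow_mul, mul_comm, pow_mul, hk, one_pow] at h
    have h' : (((2 : ℕ) ^ k : ℕ) : F) * b2 = 0 := by
      have := hcoef (a := (((2 : ℕ) ^ k : ℕ) : F) * b2) (b := 1) (by rw [one_smul]; exact h.symm)
      exact this.2
    refine (mul_eq_zero.1 h').resolve_left ?_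
    rw [Nat.cast_pow]
    refine pow_ne_zero _ ?_
    have hc : ringChar F ≠ 2 := fun hc => by
      have := FiniteField.even_card_iff_char_two.1 hc
      omega
    exact Ring.two_ne_zero hc
  refine LinearEquiv.ext fun w => ?_
  obtain ⟨s, t, rfl⟩ := hspan w
  rw [← pow_two, map_add, map_smul, map_smul, hv2, hu2, hb2]
  simp

theorem good_two (h3 : Fintype.card F % 4 = 3) (h2 : Module.finrank F U = 2) [FiniteDimensional F U] [Finite U] :
    ∃ W : Subgroup (U ≃ₗ[F] U), GoodTwo W := by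
  classical
  haveI := finite_aut (F := F) (U := U)
  haveI : Fact (Nat.Prime 2) := ⟨Nat.prime_two⟩
  let b := Module.finBasisOfFinrankEq F U h2
  let e : GL (Fin 2) F ≃* (U ≃ₗ[F] U) :=
    ((LinearMap.GeneralLinearGroup.generalLinearEquiv F U).symm.trans
      (Units.mapEquiv (LinearMap.toMatrixAlgEquiv b).toMulEquiv)).symm
  obtain ⟨P⟩ := (inferInstance : Nonempty (Sylow 2 (GL (Fin 2) F)))
  obtain ⟨n, hn, hcardP, x₀, y₀, hx₀, hy₀, hxy₀⟩ := Cfsg.Agent.S1217.three_mod_four h3 P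
  let W : Subgroup (U ≃ₗ[F] U) := (P : Subgroup (GL (Fin 2) F)).map e.toMonoidHom
  have hW2 : IsPGroup 2 W := P.2.map _
  have hcardW : Nat.card W = 2 ^ (n + 1) := by
    rw [Subgroup.card_map_of_injective e.injective, hcardP]
  have hcard : Nat.card W = 2 ^ (Nat.card (U ≃ₗ[F] U)).factorization 2 := by
    rw [Subgroup.card_map_of_injective e.injective, P.card_eq_multiplicity, Nat.card_congr e.toEquiv]
  let x : U ≃ₗ[F] U := e x₀
  let y : U ≃ₗ[F] U := e y₀
  have hxW : x ∈ W := Subgroup.mem_map_of_mem _ x₀.2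
  have hyW : y ∈ W := Subgroup.mem_map_of_mem _ y₀.2
  have hx : orderOf x = 2 ^ n := by rw [← hx₀, ← Subgroup.orderOf_coe x₀]; exact MulEquiv.orderOf_eq e _
  have hy : y * y = 1 := by
    have h := pow_orderOf_eq_one y₀
    rw [hy₀, pow_two] at h
    exact (map_mul e (y₀ : GL (Fin 2) F) y₀).symm.trans ((congrArg e (congrArg Subtype.val h)).trans (map_one e))
  have hxy : y * x * y⁻¹ = x ^ (2 ^ (n - 1) - 1) := by
    have h := congrArg e (congrArg Subtype.val hxy₀)
    simpa [x, y, map_mul, map_inv, map_pow] using h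
  obtain ⟨j, hj⟩ : ∃ j, n = j + 3 := ⟨n - 3, by omega⟩
  have hpow1 : 2 ^ (n - 1) = 2 ^ j * 4 := by rw [show n - 1 = j + 2 by omega, pow_add]; rfl
  have hpow : 2 ^ n = 2 ^ j * 8 := by rw [hj, pow_add]; rfl
  have hjpos : 1 ≤ 2 ^ j := Nat.one_le_two_pow
  have hne : ∀ i : ℕ, 0 < i → i < 2 ^ n → x ^ i ≠ 1 := fun i hi hi' h => by
    have := Nat.le_of_dvd hi (hx ▸ orderOf_dvd_of_pow_eq_one h)
    omega
  have hx4 : x * x * (x * x) ≠ 1 := by
    rw [show x * x * (x * x) = x ^ 4 by rw [show (4 : ℕ) = 2 + 2 from rfl, pow_add, pow_two]]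
    exact hne 4 (by norm_num) (by omega)
  have hkx : ∀ {g}, g ∈ W → ∃ k : ℕ, g ^ 2 ^ k = 1 := fun {g} hg => by
    obtain ⟨k, hk⟩ := hW2 ⟨g, hg⟩
    exact ⟨k, congrArg Subtype.val hk⟩
  have hirr : ∀ g ∈ W, g * g ≠ 1 → ∀ A : Submodule F U, (∀ u ∈ A, g u ∈ A) → A = ⊥ ∨ A = ⊤ := by
    intro g hg hg2 A hA
    by_contra hcon
    push Not at hcon
    obtain ⟨k, hk⟩ := hkx hg
    exact hg2 (sq_eq_one h3 h2 hk hcon.1 hcon.2 hA)
  have hdet1 : LinearEquiv.det (x * x) = 1 := by
    obtain ⟨k, hk⟩ := det_two_power hW2 hxW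
    have hq := pow_card_eq_one' (x := LinearEquiv.det x)
    rw [Nat.card_units, Nat.card_eq_fintype_card] at hq
    obtain ⟨r, hr, hq2⟩ : ∃ r, r % 2 = 1 ∧ Fintype.card F - 1 = 2 * r :=
      ⟨(Fintype.card F - 1) / 2, by omega, by omega⟩
    rw [hq2, pow_mul] at hq
    rw [map_mul, ← pow_two]
    exact eq_one_of_two_power k (by rw [← pow_mul, mul_comm, pow_mul, hk, one_pow]) (Nat.odd_iff.2 hr) hq
  have hxx : x * x ≠ 1 := fun h => hx4 (by rw [h, one_mul])
  refine ⟨W,
    { two := hW2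
      card := hcard
      irr := fun A hA => hirr x hxW hxx A (hA x hxW)
      sq := ⟨x, hxW, hxx⟩
      scalar := ?_
      irrSq := fun A hA => hirr (x * x) (mul_mem hxW hxW) hx4 A (hA (x * x) ⟨mul_mem hxW hxW, hdet1 ▸ IsSquare.one⟩)
      sqOne := ⟨x * x, mul_mem hxW hxW, hdet1, hx4⟩ }⟩
  intro z hz hnz
  let C : Subgroup (U ≃ₗ[F] U) := Subgroup.zpowers x
  have hCW : C ≤ W := (Subgroup.zpowers_le).2 hxW
  have hyC : y ∉ C := by
    intro h
    have hc : Commute y x := by
      obtain ⟨i, hi⟩ := Subgroup.mem_zpowers_iff.1 h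
      rw [← hi]; exact (Commute.refl x).zpow_left i
    rw [hc.eq, mul_inv_cancel_right] at hxy
    have h1 : x ^ (2 ^ (n - 1) - 2) = 1 := by
      have h2 : x ^ (2 ^ (n - 1) - 2) * x = x := by
        rw [← pow_succ, show 2 ^ (n - 1) - 2 + 1 = 2 ^ (n - 1) - 1 by omega]; exact hxy.symm
      exact mul_eq_right.1 h2
    exact hne _ (by omega) (by omega) h1
  have hidx : (C.subgroupOf W).index = 2 := by
    have h := Subgroup.card_mul_index (C.subgroupOf W)
    rw [Nat.card_congr (Subgroup.subgroupOfEquivOfLe hCW).toEquiv, hcardW, Nat.card_zpowers, hx, pow_succ] at h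
    exact Nat.eq_of_mul_eq_mul_left (by positivity) h
  have hsplit : ∀ g ∈ W, g ∉ C → y * g ∈ C := fun g hg hgC => by
    have h := Subgroup.mul_mem_iff_of_index_two hidx (a := (⟨y, hyW⟩ : W)) (b := ⟨g, hg⟩)
    simp only [Subgroup.mem_subgroupOf, Subgroup.coe_mul] at h
    exact h.2 (iff_of_false hyC hgC)
  have hord : ∀ g ∈ W, g ∉ C → g ^ 4 = 1 := by
    intro g hg hgC
    obtain ⟨i, hi⟩ := Subgroup.mem_zpowers_iff.1 (hsplit g hg hgC)
    have hg' : g = y * x ^ i := by rw [hi, ← mul_assoc, hy, one_mul]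
    have hconj : y * x ^ i * y⁻¹ = x ^ (((2 ^ (n - 1) - 1 : ℕ) : ℤ) * i) := by
      rw [← conj_zpow, hxy, ← zpow_natCast, ← zpow_mul]
    have hy' : y⁻¹ = y := inv_eq_of_mul_eq_one_right hy
    rw [hy'] at hconj
    have hsq : g ^ 2 = x ^ (((2 ^ (n - 1) : ℕ) : ℤ) * i) := by
      rw [hg', pow_two, show y * x ^ i * (y * x ^ i) = (y * x ^ i * y) * x ^ i by group, hconj, ← zpow_add]
      congr 1
      rw [Nat.cast_sub (Nat.one_le_two_pow)]
      push_cast
      ring
    rw [show (4 : ℕ) = 2 * 2 from rfl, pow_mul, hsq, pow_two, ← zpow_add, ← add_mul, ← Nat.cast_add,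
      show 2 ^ (n - 1) + 2 ^ (n - 1) = orderOf x by rw [hx]; omega, zpow_mul, zpow_natCast, pow_orderOf_eq_one, one_zpow]
  have hzord : z ^ orderOf z = 1 := pow_orderOf_eq_one z
  -- the cyclic part
  have hzx : z * x * z⁻¹ = x := by
    obtain ⟨i, hi⟩ : ∃ i : ℕ, x ^ i = z * x * z⁻¹ := by
      refine (mem_powers_iff_mem_zpowers.2 ?_)
      by_contra hno
      have h4 := hord _ (hnz x hxW) hno
      rw [conj_pow, mul_inv_eq_one] at h4
      exact hne 4 (by norm_num) (by omega) (mul_left_cancel (h4.trans (mul_one z).symm))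
    have hit : ∀ k : ℕ, z ^ k * x * (z ^ k)⁻¹ = x ^ i ^ k := by
      intro k
      induction k with
      | zero => simp
      | succ k ih =>
        rw [pow_succ' z, show z * z ^ k * x * (z * z ^ k)⁻¹ = z * (z ^ k * x * (z ^ k)⁻¹) * z⁻¹ by group, ih,
          ← conj_pow, ← hi, ← pow_mul, ← pow_succ']
    have h1 := hit (orderOf z)
    rw [hzord, one_mul, inv_one, mul_one] at h1
    have hmod : 1 ≡ i ^ orderOf z [MOD 2 ^ n] := by
      rw [← hx]; exact pow_eq_pow_iff_modEq.1 (by rw [pow_one]; exact h1)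
    haveI : NeZero (2 ^ n) := ⟨by positivity⟩
    have hiu : (i : ZMod (2 ^ n)) ^ orderOf z = 1 := by
      have := (ZMod.natCast_eq_natCast_iff _ _ _).2 hmod
      push_cast at this
      exact this.symm
    obtain ⟨u, hu⟩ := IsUnit.of_pow_eq_one hiu (orderOf_pos z).ne'
    have hu1 : u = 1 := by
      refine eq_one_of_two_power (n - 1) ?_ hz (Units.ext (by rw [Units.val_pow_eq_pow_val, hu, hiu, Units.val_one]))
      have := ZMod.pow_totient u
      rwa [Nat.totient_prime_pow Nat.prime_two (by omega), show (2 - 1 : ℕ) = 1 from rfl, mul_one] at this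
    have hmod' : i ≡ 1 [MOD 2 ^ n] := by
      rw [← ZMod.natCast_eq_natCast_iff, Nat.cast_one, ← hu, hu1, Units.val_one]
    rw [← hi]
    conv_rhs => rw [← pow_one x]
    exact pow_eq_pow_iff_modEq.2 (hx ▸ hmod')
  have hzc : Commute z x := by
    have : z * x = x * z := mul_inv_eq_iff_eq_mul.1 hzx
    exact this
  -- the exchange
  have hzy : Commute z y := by
    have hnot : z * y * z⁻¹ ∉ C := by
      intro h
      obtain ⟨i, hi⟩ := Subgroup.mem_zpowers_iff.1 h
      refine hyC (Subgroup.mem_zpowers_iff.2 ⟨i, ?_⟩)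
      have h' : z * y * z⁻¹ = z * x ^ i * z⁻¹ := by rw [(hzc.zpow_right i).eq, mul_inv_cancel_right, hi]
      exact (mul_left_cancel (mul_right_cancel h')).symm
    obtain ⟨i, hi⟩ := mem_powers_iff_mem_zpowers.2 (hsplit _ (hnz y hyW) hnot)
    change x ^ i = y * (z * y * z⁻¹) at hi
    have himg : z * y * z⁻¹ = y * x ^ i := by rw [hi, ← mul_assoc, hy, one_mul]
    have hit : ∀ k : ℕ, z ^ k * y * (z ^ k)⁻¹ = y * x ^ (i * k) := by
      intro k
      induction k with
      | zero => simp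
      | succ k ih =>
        rw [pow_succ' z, show z * z ^ k * y * (z * z ^ k)⁻¹ = z * (z ^ k * y * (z ^ k)⁻¹) * z⁻¹ by group, ih,
          show z * (y * x ^ (i * k)) * z⁻¹ = (z * y * z⁻¹) * (z * x ^ (i * k) * z⁻¹) by group,
          (hzc.pow_right _).eq, mul_inv_cancel_right, himg, mul_assoc, ← pow_add]
        congr 2
        ring
    have h1 := hit (orderOf z)
    rw [hzord, one_mul, inv_one, mul_one] at h1
    have hxi : x ^ i = 1 := by
      refine eq_one_of_two_power n ?_ hz ?_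
      · rw [← pow_mul, mul_comm, pow_mul, ← hx, pow_orderOf_eq_one, one_pow]
      · rw [← pow_mul]; exact mul_eq_left.1 h1.symm
    rw [hxi, mul_one] at himg
    exact mul_inv_eq_iff_eq_mul.1 himg
  -- so it is scalar
  haveI : Nontrivial U := Module.nontrivial_of_finrank_eq_succ h2
  obtain ⟨v, hv⟩ := exists_ne (0 : U)
  have hind : LinearIndependent F ![v, x v] := by
    rw [LinearIndependent.pair_iff' hv]
    intro a ha
    rcases hirr x hxW hxx (Submodule.span F {v}) (fun u hu => by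
      obtain ⟨c, rfl⟩ := Submodule.mem_span_singleton.1 hu
      rw [map_smul, ← ha]
      exact Submodule.smul_mem _ _ (Submodule.smul_mem _ _ (Submodule.mem_span_singleton_self v))) with h | h
    · exact hv (Submodule.span_singleton_eq_bot.1 h)
    · have := finrank_span_singleton (K := F) hv
      rw [h, finrank_top, h2] at this
      omega
  have hspan : ∀ w : U, ∃ a b : F, w = a • v + b • x v := by
    intro w
    have : w ∈ Submodule.span F (Set.range ![v, x v]) := by
      rw [hind.span_eq_top_of_card_eq_finrank (by simp [h2])]; trivial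
    rw [Matrix.range_cons, Matrix.range_cons, Matrix.range_empty, Set.union_empty,
      Set.singleton_union, Submodule.mem_span_pair] at this
    obtain ⟨a, b, h⟩ := this
    exact ⟨a, b, h.symm⟩
  obtain ⟨a, b', hab⟩ := hspan (z v)
  have hcx : ∀ u : U, z (x u) = x (z u) := fun u => LinearEquiv.congr_fun hzc.eq u
  have hcy : ∀ u : U, z (y u) = y (z u) := fun u => LinearEquiv.congr_fun hzy.eq u
  have hform : ∀ u : U, z u = a • u + b' • x u := by
    intro u
    obtain ⟨s, t, rfl⟩ := hspan u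
    rw [map_add, map_smul, map_smul, hcx, hab, map_add, map_add, map_smul, map_smul, map_smul, map_smul]
    module
  refine ⟨a, fun u => ?_⟩
  by_cases hb0 : b' = 0
  · rw [hform, hb0, zero_smul, add_zero]
  exfalso
  refine hyC ?_
  have hcomm : y * x = x * y := LinearEquiv.ext fun w => by
    have h := hcy w
    rw [hform, hform w, map_add, map_smul, map_smul, add_right_inj] at h
    show y (x w) = x (y w)
    exact (smul_right_injective U hb0 h).symm
  rw [hcomm, mul_inv_cancel_right] at hxy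
  exfalso
  have h1 : x ^ (2 ^ (n - 1) - 2) = 1 := by
    have h2' : x ^ (2 ^ (n - 1) - 2) * x = x := by
      rw [← pow_succ, show 2 ^ (n - 1) - 2 + 1 = 2 ^ (n - 1) - 1 by omega]; exact hxy.symm
    exact mul_eq_right.1 h2'
  exact hne _ (by omega) (by omega) h1

end BaseTwo

section Existence

universe u

variable (K : Type u) [Field K] [Fintype K]

/-- A space of dimension `2 ^ (k + 1)` with a subgroup as required. -/
theorem exists_goodTwo (hq : Odd (Fintype.card K)) (k : ℕ) :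
    ∃ (V : Type u) (_ : AddCommGroup V) (_ : Module K V), Module.finrank K V = 2 ^ (k + 1) ∧ Finite V ∧
      ∃ W : Subgroup (V ≃ₗ[K] V), GoodTwo W := by
  have hq1 : 1 < Fintype.card K := Fintype.one_lt_card
  have step : ∀ (V : Type u) [AddCommGroup V] [Module K V] [Finite V] (j : ℕ), Module.finrank K V = 2 ^ j →
      (1 ≤ j ∨ Fintype.card K % 4 = 1) → (∃ W : Subgroup (V ≃ₗ[K] V), Good W) →
      ∃ W : Subgroup ((V × V) ≃ₗ[K] (V × V)), GoodTwo W := by
    intro V _ _ _ j hj hcase ⟨W, hW⟩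
    haveI : FiniteDimensional K V := Module.Finite.of_finite
    haveI : Nontrivial V := Module.nontrivial_of_finrank_pos (R := K) (by rw [hj]; positivity)
    refine ⟨wr W, good_wr hW ?_⟩
    rw [factorization_card_aut hj hq, factorization_card_aut (U := V × V) (m := 2 ^ j + 2 ^ j) (by
      rw [Module.finrank_prod, hj]) hq]
    exact twoExp_double hq hq1 hcase
  induction k with
  | zero =>
    have h2 : Fintype.card K % 2 = 1 := Nat.odd_iff.1 hq
    refine ⟨K × K, inferInstance, inferInstance, by simp [Module.finrank_prod], inferInstance, ?_⟩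
    rcases (show Fintype.card K % 4 = 1 ∨ Fintype.card K % 4 = 3 by omega) with h | h
    · exact step K 0 (by simp) (Or.inr h) (good_one h)
    · exact good_two h (by simp [Module.finrank_prod])
  | succ k ih =>
    obtain ⟨V, i1, i2, hd, hfin, W, hW⟩ := ih
    refine ⟨V × V, inferInstance, inferInstance, ?_, inferInstance, step V (k + 1) hd (Or.inl (by omega)) ⟨W, hW.toGood⟩⟩
    haveI : FiniteDimensional K V := Module.Finite.of_finite
    rw [Module.finrank_prod, hd, pow_succ 2 (k + 1)]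
    ring

end Existence

end Cfsg.Lib.Linear.Pronormal
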