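import Cfsg.Agent.Lib.Linear.Pronormal.Unipotent
import Cfsg.Agent.Lib.Dickson.PSLTwo
import Cfsg.Agent.Lib.Dickson.Orders
import Cfsg.Agent.S2431
import Cfsg.Agent.S0261
import Cfsg.Agent.S0276

/-!
# Subgroups of odd index of `PSL 2 q`, `q` odd, are pronormal

When a Sylow `2`-subgroup `P` is not self-normalising, a subgroup in which it is has a normal odd complement, which
is cyclic; so it meets each subgroup containing `P` in a unique subgroup of its order.
-/

set_option autoImplicit false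

namespace Cfsg.Lib.Linear.Pronormal

open Cfsg.Lib.Fusion.Pronormal
open scoped MatrixGroups

variable {F : Type*} [Field F] [Fintype F]

local notation "P2" => Matrix.ProjectiveSpecialLinearGroup (Fin 2) F

/-- In a cyclic group a subgroup is determined by its order. -/
theorem eq_of_card_eq_of_cyclic {G : Type*} [Group G] [Finite G] {O A B : Subgroup G} (hO : IsCyclic O)
    (hA : A ≤ O) (hB : B ≤ O) (h : Nat.card A = Nat.card B) : A = B := by
  haveI := hO
  letI : CommGroup O := IsCyclic.commGroup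
  have key : ∀ C : Subgroup G, C ≤ O → Nat.card C = Nat.card A →
      C.subgroupOf O = (powMonoidHom (Nat.card A) : O →* O).ker := by
    intro C hC hc
    refine Subgroup.eq_of_le_of_card_ge (fun w hw => ?_) (le_of_eq ?_)
    · refine Subtype.ext ?_
      show (w : G) ^ Nat.card A = 1
      rw [← hc]
      exact congrArg Subtype.val (pow_card_eq_one' (x := (⟨w, hw⟩ : C)))
    · rw [IsCyclic.card_powMonoidHom_ker, Nat.card_congr (Subgroup.subgroupOfEquivOfLe hC).toEquiv, hc,
        Nat.gcd_eq_right (Subgroup.card_dvd_of_le hA)]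
  have e := (key A hA rfl).trans (key B hB h.symm).symm
  rw [← Subgroup.map_subgroupOf_eq_of_le hA, ← Subgroup.map_subgroupOf_eq_of_le hB, e]

/-- An involution commutes with no element of the order of the characteristic. -/
theorem not_commute {p : ℕ} [Fact p.Prime] [CharP F p] (hp : p ≠ 2) {t g : Matrix.ProjectiveSpecialLinearGroup (Fin 2) F}
    (ht : t ≠ 1) (ht2 : t * t = 1) (hg : g ^ p = 1) (hg1 : g ≠ 1) : ¬ Commute t g := by
  intro hc
  obtain ⟨T, rfl⟩ := QuotientGroup.mk_surjective t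
  obtain ⟨G', rfl⟩ := QuotientGroup.mk_surjective g
  have h2 : (2 : F) ≠ 0 := Ring.two_ne_zero (by rw [ringChar.eq F p]; exact hp)
  have hcen : ∀ {z : SL(2, F)}, z ∈ Subgroup.center SL(2, F) → z * z = 1 ∧
      ((z : Matrix (Fin 2) (Fin 2) F) = 1 ∨ (z : Matrix (Fin 2) (Fin 2) F) = -1) := by
    intro z hz
    obtain ⟨r, hr, hrz⟩ := Matrix.SpecialLinearGroup.mem_center_iff.1 hz
    rw [Fintype.card_fin] at hr
    have hsq : z * z = 1 := Subtype.ext (by
      rw [Matrix.SpecialLinearGroup.coe_mul, ← hrz, ← map_mul, ← pow_two, hr, map_one,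
        Matrix.SpecialLinearGroup.coe_one])
    exact ⟨hsq, Cfsg.Agent.S0261.sq_one h2 z (by rw [pow_two, hsq])⟩
  have hTnc : T ∉ Subgroup.center SL(2, F) := fun h => ht ((QuotientGroup.eq_one_iff _).2 h)
  have hTT : T * T ∈ Subgroup.center SL(2, F) := (QuotientGroup.eq_one_iff _).1 ht2
  have hTm : (T : Matrix (Fin 2) (Fin 2) F) * T = -1 := by
    rcases (hcen hTT).2 with h | h
    · exfalso
      refine hTnc ?_
      have hsq : T ^ 2 = 1 := by
        rw [pow_two]; exact Subtype.ext (by rw [h, Matrix.SpecialLinearGroup.coe_one])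
      rw [Subgroup.mem_center_iff]
      intro y
      refine Subtype.ext ?_
      rcases Cfsg.Agent.S0261.sq_one h2 T hsq with e | e <;>
        simp [e]
    · rw [← Matrix.SpecialLinearGroup.coe_mul]; exact h
  -- the square of the lift is unipotent
  obtain ⟨X, hXd⟩ : ∃ X : SL(2, F), X = G' * G' := ⟨_, rfl⟩
  have hzp := hcen ((QuotientGroup.eq_one_iff _).1 (show ((G' ^ p : SL(2, F)) : P2) = 1 from hg))
  have hXp : X ^ p = 1 := by
    rw [hXd, (Commute.refl G').mul_pow, hzp.1]
  have hodd : Odd p := (Fact.out : p.Prime).odd_of_ne_two hp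
  have hX1 : X ≠ 1 := by
    intro h
    refine hg1 ?_
    have hgg : (G' : P2) * (G' : P2) = 1 := by
      rw [← QuotientGroup.mk_mul, ← hXd, h]; rfl
    obtain ⟨j, hj⟩ := hodd
    rw [hj, pow_succ, pow_mul, pow_two, hgg, one_pow, one_mul] at hg
    exact hg
  have hTX : T * X = X * T := by
    have hz : (G' * T)⁻¹ * (T * G') ∈ Subgroup.center SL(2, F) := QuotientGroup.eq.1 hc.eq.symm
    obtain ⟨z, hz', hze⟩ : ∃ z ∈ Subgroup.center SL(2, F), T * G' = G' * T * z :=
      ⟨_, hz, (mul_inv_cancel_left _ _).symm⟩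
    have hzz := (hcen hz').1
    have hzc := Subgroup.mem_center_iff.1 hz'
    calc T * X = (T * G') * G' := by rw [hXd, mul_assoc]
      _ = G' * T * z * G' := by rw [hze]
      _ = G' * (T * G') * z := by rw [mul_assoc (G' * T), ← hzc G']; group
      _ = G' * G' * T * (z * z) := by rw [hze]; group
      _ = X * T := by rw [hzz, mul_one, hXd]
  let N : Matrix (Fin 2) (Fin 2) F := (X : Matrix (Fin 2) (Fin 2) F) - 1
  have hN : IsNilpotent N := ⟨p, by
    rw [sub_pow_char_of_commute (p := p) (Commute.one_right (X : Matrix (Fin 2) (Fin 2) F)), one_pow,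
      ← Matrix.SpecialLinearGroup.coe_pow, hXp, Matrix.SpecialLinearGroup.coe_one, sub_self]⟩
  have htr : N 0 0 + N 1 1 = 0 := by
    rw [← Matrix.trace_fin_two]; exact (Matrix.isNilpotent_trace_of_isNilpotent hN).eq_zero
  have hdet : N 0 0 * N 1 1 - N 0 1 * N 1 0 = 0 := by
    obtain ⟨j, hj⟩ := hN
    rw [← Matrix.det_fin_two]
    have := congrArg Matrix.det hj
    rw [Matrix.det_pow, Matrix.det_zero] at this
    exact eq_zero_of_pow_eq_zero this
  have hTN : (T : Matrix (Fin 2) (Fin 2) F) * N = N * T := by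
    rw [mul_sub, sub_mul, mul_one, one_mul, ← Matrix.SpecialLinearGroup.coe_mul, hTX,
      Matrix.SpecialLinearGroup.coe_mul]
  have e : ∀ i j, ((T : Matrix (Fin 2) (Fin 2) F) * N) i j = (N * (T : Matrix (Fin 2) (Fin 2) F)) i j :=
    fun i j => by rw [hTN]
  simp only [Matrix.mul_apply, Fin.sum_univ_two] at e
  have sq : ∀ i j, ((T : Matrix (Fin 2) (Fin 2) F) * T) i j = (-1 : Matrix (Fin 2) (Fin 2) F) i j :=
    fun i j => by rw [hTm]
  simp only [Matrix.mul_apply, Fin.sum_univ_two] at sq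
  have hd := T.2
  rw [Matrix.det_fin_two] at hd
  have s00 := sq 0 0
  have s11 := sq 1 1
  have e00 := e 0 0
  have e01 := e 0 1
  have e10 := e 1 0
  simp only [Matrix.neg_apply, Matrix.one_apply_eq] at s00 s11
  generalize ((T : Matrix (Fin 2) (Fin 2) F) 0 0) = a at *
  generalize ((T : Matrix (Fin 2) (Fin 2) F) 0 1) = b at *
  generalize ((T : Matrix (Fin 2) (Fin 2) F) 1 0) = c at *
  generalize ((T : Matrix (Fin 2) (Fin 2) F) 1 1) = d at *
  have had : a + d = 0 := by
    have h1 : a * (a + d) = 0 := by linear_combination s00 + hd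
    have h2' : d * (a + d) = 0 := by linear_combination s11 + hd
    have h3 : (a + d) * (a + d) = 0 := by linear_combination h1 + h2'
    exact mul_self_eq_zero.1 h3
  have hN1 : N 1 1 = -N 0 0 := by linear_combination htr
  have hd' : d = -a := by linear_combination had
  rw [hN1, hd'] at e01 e10
  rw [hN1] at hdet
  have r1 : 2 * (b * N 0 0 - a * N 0 1) = 0 := by linear_combination (-1 : F) * e01
  have r2 : 2 * (c * N 0 0 - a * N 1 0) = 0 := by linear_combination e10
  have r3 : b * N 1 0 - c * N 0 1 = 0 := by linear_combination e00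
  have q1 : b * N 0 0 = a * N 0 1 := sub_eq_zero.1 ((mul_eq_zero.1 r1).resolve_left h2)
  have q2 : c * N 0 0 = a * N 1 0 := sub_eq_zero.1 ((mul_eq_zero.1 r2).resolve_left h2)
  have hn0 : N 0 0 = 0 := by
    have : N 0 0 * N 0 0 = 0 := by
      linear_combination (N 0 0 * N 0 0) * s00 - (c * N 0 0) * q1 - (a * N 0 1) * q2 + (a * a) * hdet
    exact mul_self_eq_zero.1 this
  rw [hn0, mul_zero] at q1 q2
  rw [hn0] at hdet
  have hm0 : N 0 1 = 0 := by
    have : N 0 1 * N 0 1 = 0 := by
      linear_combination (N 0 1 * N 0 1) * s00 + (b * N 0 1) * r3 + (a * N 0 1) * q1 + (b * b) * hdet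
    exact mul_self_eq_zero.1 this
  have hl0 : N 1 0 = 0 := by
    have : N 1 0 * N 1 0 = 0 := by
      linear_combination (N 1 0 * N 1 0) * s00 - (c * N 1 0) * r3 + (a * N 1 0) * q2 + (c * c) * hdet
    exact mul_self_eq_zero.1 this
  refine hX1 (Subtype.ext ?_)
  rw [Matrix.SpecialLinearGroup.coe_one, ← sub_eq_zero]
  show N = 0
  ext i j
  fin_cases i <;> fin_cases j <;> simp [hN1, hn0, hm0, hl0]

/-- A subgroup of odd order with a fixed point free four-group of operators contains no element of the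
order of the characteristic. -/
theorem not_dvd_card {p : ℕ} [Fact p.Prime] [CharP F p] (hp : p ≠ 2) {P O : Subgroup (Matrix.ProjectiveSpecialLinearGroup (Fin 2) F)}
    (hP4 : Nat.card P = 4) (hexp : ∀ t ∈ P, t * t = 1) (hN : P ≤ Subgroup.normalizer (O : Set P2))
    (hfree : ∀ g ∈ O, (∀ t ∈ P, t * g = g * t) → g = 1) : ¬ p ∣ Nat.card O := by
  classical
  intro hdvd
  haveI : Finite P2 := inferInstance
  haveI : Fact (Nat.Prime 2) := ⟨Nat.prime_two⟩
  have hO2 : ¬ 2 ∣ Nat.card O := by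
    intro h
    obtain ⟨g, hg⟩ := exists_prime_orderOf_dvd_card' 2 h
    let Q : Sylow 2 O := default
    have hP2 : IsPGroup 2 P := IsPGroup.of_card (n := 2) (by rw [hP4]; rfl)
    -- a four-group acting on a group of even order fixes a non-trivial element
    let φ : P →* MulAut O := O.normalizerMonoidHom.comp (Subgroup.inclusion hN)
    letI : MulAction P O :=
      { smul := fun t g => φ t g
        one_smul := fun g => by show φ 1 g = g; rw [map_one]; rfl
        mul_smul := fun t u g => by show φ (t * u) g = φ t (φ u g); rw [map_mul]; rfl }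
    have h1 : (1 : O) ∈ MulAction.fixedPoints P O := fun t => map_one (φ t)
    obtain ⟨x, hx, hne⟩ := hP2.exists_fixed_point_of_prime_dvd_card_of_fixed_point O h h1
    refine hne (Subtype.ext ?_).symm
    refine hfree x x.2 fun t ht => ?_
    have := congrArg Subtype.val (hx ⟨t, ht⟩)
    change t * (x : P2) * t⁻¹ = x at this
    exact mul_inv_eq_iff_eq_mul.1 this
  -- a Sylow subgroup normalised by the four-group
  let φ : P →* MulAut O := O.normalizerMonoidHom.comp (Subgroup.inclusion hN)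
  letI : MulDistribMulAction P O := MulDistribMulAction.compHom O φ
  have hP2 : IsPGroup 2 P := IsPGroup.of_card (n := 2) (by rw [hP4]; rfl)
  have hnum : ¬ 2 ∣ Nat.card (Sylow p O) := fun h => by
    obtain ⟨R⟩ := (inferInstance : Nonempty (Sylow p O))
    exact hO2 (h.trans ((Sylow.card_dvd_index R).trans (Subgroup.index_dvd_card _)))
  obtain ⟨R, hR⟩ := hP2.nonempty_fixed_point_of_prime_not_dvd_card (Sylow p O) hnum
  let R₁ : Subgroup P2 := (R : Subgroup O).map O.subtype
  have hinv : ∀ t ∈ P, ∀ g ∈ R₁, t * g * t⁻¹ ∈ R₁ := by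
    rintro t ht _ ⟨g, hg, rfl⟩
    refine ⟨φ ⟨t, ht⟩ g, ?_, rfl⟩
    have h := congrArg (fun S : Sylow p O => (S : Subgroup O)) (hR ⟨t, ht⟩)
    rw [← h]
    exact Subgroup.mem_map_of_mem _ hg
  have hR1 : R₁ ≠ ⊥ := by
    intro h
    rw [Subgroup.map_eq_bot_iff_of_injective _ O.subtype_injective] at h
    have hc := R.card_eq_multiplicity
    rw [h, Subgroup.card_bot] at hc
    have := (Fact.out : p.Prime).factorization_pos_of_dvd Nat.card_pos.ne' hdvd
    have h2' := Nat.one_lt_pow (by omega : (Nat.card O).factorization p ≠ 0) (Fact.out : p.Prime).one_lt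
    omega
  have hRp : IsPGroup p R₁ := R.2.map _
  -- none of the involutions fixes an element of it, so each inverts it
  have hfix : ∀ t ∈ P, t ≠ 1 → ∀ g ∈ R₁, t * g * t⁻¹ = g → g = 1 := by
    intro t ht ht1 g hg hfx
    by_contra hg1
    obtain ⟨k, hk⟩ := hRp ⟨g, hg⟩
    have hk' : g ^ p ^ k = 1 := congrArg Subtype.val hk
    obtain ⟨j, -, hj⟩ := (Nat.dvd_prime_pow (Fact.out : p.Prime)).1 (orderOf_dvd_of_pow_eq_one hk')
    obtain ⟨i, rfl⟩ : ∃ i, j = i + 1 := ⟨j - 1, by
      rcases Nat.eq_zero_or_pos j with rfl | h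
      · exact absurd (orderOf_eq_one_iff.1 (by simpa using hj)) hg1
      · omega⟩
    have hc : Commute t g := mul_inv_eq_iff_eq_mul.1 hfx
    refine not_commute hp ht1 (hexp t ht) (g := g ^ p ^ i) ?_ ?_ (hc.pow_right _)
    · rw [← pow_mul, ← pow_succ, ← hj, pow_orderOf_eq_one]
    · intro h
      have := Nat.le_of_dvd (pow_pos (Fact.out : p.Prime).pos _) (orderOf_dvd_of_pow_eq_one h)
      rw [hj] at this
      exact absurd this (not_le.2 (Nat.pow_lt_pow_right (Fact.out : p.Prime).one_lt (Nat.lt_succ_self i)))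
  have hinverts : ∀ t ∈ P, t ≠ 1 → ∀ g ∈ R₁, t * g * t⁻¹ = g⁻¹ := by
    intro t ht ht1 g hg
    let ψ : R₁ →* R₁ :=
      { toFun := fun g => ⟨t * g * t⁻¹, hinv t ht g g.2⟩
        map_one' := Subtype.ext (by simp)
        map_mul' := fun g h => Subtype.ext (by simp [mul_assoc]) }
    have hff : MonoidHom.FixedPointFree ψ := fun g hg => Subtype.ext (hfix t ht ht1 g g.2 (congrArg Subtype.val hg))
    have hiv : Function.Involutive ψ := fun g => Subtype.ext (by
      show t * (t * (g : P2) * t⁻¹) * t⁻¹ = g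
      rw [show t * (t * (g : P2) * t⁻¹) * t⁻¹ = t * t * g * (t * t)⁻¹ by group, hexp t ht]
      simp)
    exact congrArg Subtype.val (congrFun (hff.coe_eq_inv_of_involutive hiv) ⟨g, hg⟩)
  obtain ⟨g, hg, hg1⟩ := (Subgroup.ne_bot_iff_exists_ne_one.1 hR1 |>.elim fun x hx =>
    ⟨(x : P2), x.2, fun e => hx (Subtype.ext e)⟩ : ∃ g, g ∈ R₁ ∧ g ≠ 1)
  obtain ⟨t, u, ht, hu, ht1, hu1, htu⟩ : ∃ t u, t ∈ P ∧ u ∈ P ∧ t ≠ 1 ∧ u ≠ 1 ∧ t * u ≠ 1 := by
    obtain ⟨t, ht1⟩ : ∃ t : P, t ≠ 1 := by
      by_contra h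
      push Not at h
      haveI : Subsingleton P := ⟨fun a b => by rw [h a, h b]⟩
      rw [Nat.card_of_subsingleton (1 : P)] at hP4
      omega
    obtain ⟨u, hu1, hut⟩ : ∃ u : P, u ≠ 1 ∧ u ≠ t := by
      by_contra h
      push Not at h
      haveI : Fintype P := Fintype.ofFinite P
      have hsub : (Finset.univ : Finset P) ⊆ {1, t} := fun u _ => by
        rcases eq_or_ne u 1 with e | e
        · simp [e]
        · simp [h u e]
      have := (Finset.card_le_card hsub).trans Finset.card_le_two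
      rw [Finset.card_univ, ← Nat.card_eq_fintype_card, hP4] at this
      omega
    refine ⟨t, u, t.2, u.2, fun e => ht1 (Subtype.ext e), fun e => hu1 (Subtype.ext e), fun e => hut ?_⟩
    exact Subtype.ext ((mul_left_cancel (e.trans (hexp t t.2).symm)))
  refine hg1 (hfix (t * u) (mul_mem ht hu) htu g hg ?_)
  rw [show t * u * g * (t * u)⁻¹ = t * (u * g * u⁻¹) * t⁻¹ by group, hinverts u hu hu1 g hg,
    hinverts t ht ht1 g⁻¹ (inv_mem hg), inv_inv]

theorem two_dvd_mul_sq (q : ℕ) (hq : 1 < q) : 4 ∣ 2 * q * (q ^ 2 - 1) ∧ 2 ∣ q * (q ^ 2 - 1) := by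
  have h2 : 2 ∣ q * (q ^ 2 - 1) := by
    rcases Nat.even_or_odd q with h | h
    · exact dvd_mul_of_dvd_left h.two_dvd _
    · refine dvd_mul_of_dvd_right ?_ _
      have := (h.pow (n := 2))
      rw [Nat.odd_iff] at this
      omega
  refine ⟨?_, h2⟩
  rw [mul_assoc]
  exact mul_dvd_mul_left 2 h2

theorem two_dvd_card_psl (L : Type*) [Field L] [Fintype L] :
    2 ∣ Nat.card (Matrix.ProjectiveSpecialLinearGroup (Fin 2) L) := by
  have h := Cfsg.Lib.Linear.Two.card_PSL_two (F := L)
  have h1 : 1 < Fintype.card L := Fintype.one_lt_card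
  rcases Nat.even_or_odd (Fintype.card L) with he | ho
  · have hg : Nat.gcd 2 (Fintype.card L - 1) = 1 := by
      have : Odd (Fintype.card L - 1) := Nat.Even.sub_odd (by omega) he odd_one
      exact (Nat.coprime_two_left.2 this)
    rw [hg, one_mul] at h
    rw [h]; exact (two_dvd_mul_sq _ h1).2
  · rw [Nat.odd_iff] at ho
    have hg : Nat.gcd 2 (Fintype.card L - 1) = 2 := Nat.gcd_eq_left (by omega)
    rw [hg] at h
    obtain ⟨r, hr⟩ : ∃ r, Fintype.card L = 2 * r + 1 := ⟨Fintype.card L / 2, by omega⟩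
    have e : Fintype.card L ^ 2 - 1 = 4 * (r * r + r) := by
      rw [hr, show (2 * r + 1) ^ 2 = 4 * (r * r + r) + 1 by ring, Nat.add_sub_cancel]
    rw [e] at h
    refine ⟨Fintype.card L * (r * r + r), Nat.eq_of_mul_eq_mul_left (by norm_num : 0 < 2) ?_⟩
    rw [h]; ring

theorem two_dvd_card_pgl (L : Type*) [Field L] [Fintype L] :
    2 ∣ Nat.card (Matrix.ProjGenLinGroup (Fin 2) L) := by
  rw [Cfsg.Lib.Dickson.card_PGL_two_eq]
  exact (two_dvd_mul_sq _ Fintype.one_lt_card).2

/-- **Subgroups of odd index of `PSL 2 q`, `q` odd, are pronormal.** -/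
theorem pronormal_psl_two (hq : Odd (Fintype.card F)) {H : Subgroup (Matrix.ProjectiveSpecialLinearGroup (Fin 2) F)}
    (hH : Odd H.index) : Cfsg.IsPronormal H := by
  classical
  haveI : Finite P2 := inferInstance
  haveI : Fact (Nat.Prime 2) := ⟨Nat.prime_two⟩
  obtain ⟨p, hpchar⟩ := CharP.exists F
  haveI := hpchar
  haveI : Fact p.Prime := ⟨CharP.char_is_prime F p⟩
  have hp : p ≠ 2 := fun h => by
    subst h
    have := FiniteField.even_card_iff_char_two.1 (ringChar.eq F 2)
    rw [Nat.odd_iff] at hq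
    omega
  have hH' : ¬ 2 ∣ H.index := fun h => by rw [Nat.odd_iff] at hH; omega
  obtain ⟨P, hPH⟩ := exists_sylow_le hH'
  have self_case : Subgroup.normalizer ((P : Subgroup P2) : Set P2) = P → Cfsg.IsPronormal H :=
    fun h => (self_normalizing_overgroup P h hPH).2
  let π := QuotientGroup.mk' (Subgroup.center SL(2, F))
  have hπ : Function.Surjective π := QuotientGroup.mk'_surjective _
  obtain ⟨S, hS⟩ := Sylow.mapSurjective_surjective (hf := hπ) 2 P
  have hPS : (P : Subgroup P2) = (S : Subgroup SL(2, F)).map π := by rw [← hS]; exact Sylow.coe_mapSurjective hπ S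
  have hZS : Subgroup.center SL(2, F) ≤ (S : Subgroup SL(2, F)) := by
    have hz : IsPGroup 2 (Subgroup.center SL(2, F)) := by
      rintro ⟨z, hz⟩
      refine ⟨1, Subtype.ext ?_⟩
      obtain ⟨r, hr, hrz⟩ := Matrix.SpecialLinearGroup.mem_center_iff.1 hz
      rw [Fintype.card_fin] at hr
      show z ^ (2 ^ 1) = 1
      refine Subtype.ext ?_
      rw [pow_one, Matrix.SpecialLinearGroup.coe_pow, ← hrz, ← map_pow, hr, map_one, Matrix.SpecialLinearGroup.coe_one]
    have hsup := hz.to_sup_of_normal_left S.2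
    rw [← S.is_maximal' hsup le_sup_right]
    exact le_sup_left
  have hcomap : (P : Subgroup P2).comap π = (S : Subgroup SL(2, F)) := by
    rw [hPS, Subgroup.comap_map_eq, QuotientGroup.ker_mk', sup_eq_left.2 hZS]
  have hNcomap : (Subgroup.normalizer ((P : Subgroup P2) : Set P2)).comap π =
      Subgroup.normalizer ((S : Subgroup SL(2, F)) : Set SL(2, F)) := by
    rw [← hcomap]
    exact Subgroup.comap_normalizer_eq_of_surjective _ hπ
  have hres := Cfsg.Agent.S2431.result hq S
  have ho := Nat.odd_iff.1 hq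
  rcases (show (Fintype.card F % 8 = 1 ∨ Fintype.card F % 8 = 7) ∨ (Fintype.card F % 8 = 3 ∨ Fintype.card F % 8 = 5) by omega)
    with h8 | h8
  · refine self_case ?_
    have h := hres.2.1 h8
    rw [← hNcomap, ← hcomap] at h
    exact Subgroup.comap_injective hπ h
  have hK := Cfsg.Agent.S0276.result rfl h8 P
  have hP4 : Nat.card (P : Subgroup P2) = 4 := hK.card_four
  have hexp : ∀ t ∈ (P : Subgroup P2), t * t = 1 := fun t ht => by
    have h := Monoid.pow_exponent_eq_one (⟨t, ht⟩ : (P : Subgroup P2))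
    rw [hK.exponent_two, pow_two] at h
    exact congrArg Subtype.val h
  have hcardN : Nat.card (Subgroup.normalizer ((P : Subgroup P2) : Set P2)) = 3 * 4 := by
    have hcc : ∀ L : Subgroup P2, Nat.card (L.comap π) = Nat.card (π.ker : Subgroup SL(2, F)) * Nat.card L := by
      intro L
      have h1 := Subgroup.card_mul_index (L.comap π)
      have h2 := Subgroup.card_mul_index π.ker
      have h3 := Subgroup.card_mul_index L
      rw [Subgroup.index_comap_of_surjective L hπ] at h1
      rw [Subgroup.index_ker, MonoidHom.range_eq_top.2 hπ, Subgroup.card_top, ← h3, ← h1, ← mul_assoc] at h2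
      exact (Nat.eq_of_mul_eq_mul_right (Nat.pos_of_ne_zero Subgroup.index_ne_zero_of_finite) h2).symm
    have hker := hcc (P : Subgroup P2)
    have hkerN : Nat.card ((Subgroup.normalizer ((P : Subgroup P2) : Set P2)).comap π) =
        Nat.card (π.ker : Subgroup SL(2, F)) * Nat.card (Subgroup.normalizer ((P : Subgroup P2) : Set P2)) := hcc _
    rw [hNcomap, hres.2.2 h8, ← hcomap, hker, hP4, mul_left_comm] at hkerN
    exact (Nat.eq_of_mul_eq_mul_left Nat.card_pos hkerN).symm
  refine pronormal_of_normalizer P hPH fun u hu => ?_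
  let K : Subgroup P2 := H ⊔ cj u H
  have hPK : (P : Subgroup P2) ≤ K := hPH.trans le_sup_left
  by_cases hNK : u ∈ K
  · exact ⟨u, hNK, rfl⟩
  -- the normalizer in `K` is the Sylow subgroup itself
  have hNP : Subgroup.normalizer ((P : Subgroup P2) : Set P2) ⊓ K = P := by
    refine le_antisymm ?_ (le_inf Subgroup.le_normalizer hPK)
    by_contra hle
    refine hNK ?_
    have h1 : (Subgroup.normalizer ((P : Subgroup P2) : Set P2) ⊓ K) = Subgroup.normalizer ((P : Subgroup P2) : Set P2) := by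
      refine Subgroup.eq_of_le_of_card_ge inf_le_left ?_
      have hd := Subgroup.card_dvd_of_le (inf_le_left : Subgroup.normalizer ((P : Subgroup P2) : Set P2) ⊓ K ≤ _)
      have hd' := Subgroup.card_dvd_of_le (le_inf Subgroup.le_normalizer hPK :
        (P : Subgroup P2) ≤ Subgroup.normalizer ((P : Subgroup P2) : Set P2) ⊓ K)
      rw [hP4] at hd'
      rw [hcardN] at hd ⊢
      by_contra hlt
      obtain ⟨j, hj⟩ := hd'
      rw [hj] at hd hlt
      have hj' : j ∣ 3 := Nat.dvd_of_mul_dvd_mul_left (by norm_num : 0 < 4) (by rwa [mul_comm 3 4] at hd)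
      rcases (Nat.dvd_prime Nat.prime_three).1 hj' with rfl | rfl
      · refine hle (le_of_eq ?_)
        exact (Subgroup.eq_of_le_of_card_ge (le_inf Subgroup.le_normalizer hPK) (by rw [hj, hP4])).symm
      · omega
    exact (h1 ▸ (inf_le_right : Subgroup.normalizer ((P : Subgroup P2) : Set P2) ⊓ K ≤ K)) hu
  let P' : Sylow 2 K := P.subtype hPK
  have hburn : Subgroup.normalizer ((P' : Subgroup K) : Set K) ≤ Subgroup.centralizer ((P' : Subgroup K) : Set K) := by
    intro g hg
    rw [Sylow.coe_subtype, ← Subgroup.subgroupOf_normalizer_eq hPK] at hg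
    have hgP : (g : P2) ∈ (P : Subgroup P2) := hNP ▸ Subgroup.mem_inf.2 ⟨hg, g.2⟩
    rw [Subgroup.mem_centralizer_iff]
    intro w hw
    refine Subtype.ext ?_
    show (w : P2) * g = g * w
    have hw' : (w : P2) ∈ (P : Subgroup P2) := hw
    have h := hexp _ (mul_mem hw' hgP)
    calc (w : P2) * g = ((w : P2) * g)⁻¹ := (inv_eq_of_mul_eq_one_right h).symm
      _ = (g : P2)⁻¹ * (w : P2)⁻¹ := mul_inv_rev _ _
      _ = g * w := by rw [inv_eq_of_mul_eq_one_right (hexp _ hgP), inv_eq_of_mul_eq_one_right (hexp _ hw')]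
  let O' : Subgroup K := (MonoidHom.transferSylow P' hburn).ker
  have hcompl : Subgroup.IsComplement' O' P' := MonoidHom.ker_transferSylow_isComplement' P' hburn
  let O : Subgroup P2 := O'.map K.subtype
  have hOK : O ≤ K := Subgroup.map_subtype_le _
  have hnorm : O'.Normal := MonoidHom.normal_ker _
  have hON : K ≤ Subgroup.normalizer (O : Set P2) := by
    intro g hg
    rw [Subgroup.mem_normalizer_iff]
    intro w
    constructor
    · intro hw
      obtain ⟨v, hv, rfl⟩ := Subgroup.mem_map.1 hw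
      exact Subgroup.mem_map.2 ⟨(⟨g, hg⟩ : K) * v * (⟨g, hg⟩ : K)⁻¹, hnorm.conj_mem v hv _, rfl⟩
    · intro hw
      obtain ⟨v, hv, hve⟩ := Subgroup.mem_map.1 hw
      refine Subgroup.mem_map.2 ⟨(⟨g, hg⟩ : K)⁻¹ * v * ((⟨g, hg⟩ : K)⁻¹)⁻¹, hnorm.conj_mem v hv _, ?_⟩
      show g⁻¹ * (v : P2) * g⁻¹⁻¹ = w
      rw [show (v : P2) = g * w * g⁻¹ from hve]; group
  have hOodd : ¬ 2 ∣ Nat.card O := by
    rw [Subgroup.card_map_of_injective K.subtype_injective, ← Subgroup.IsComplement'.index_eq_card hcompl]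
    · exact P'.not_dvd_index
  have hfree : ∀ g ∈ O, (∀ t ∈ (P : Subgroup P2), t * g = g * t) → g = 1 := by
    intro g hg hcomm
    have hgP : g ∈ (P : Subgroup P2) := by
      rw [← hNP]
      refine Subgroup.mem_inf.2 ⟨Subgroup.mem_normalizer_iff.2 fun w => ?_, hOK hg⟩
      constructor
      · intro hw
        rwa [← hcomm w hw, mul_inv_cancel_right]
      · intro hw
        have h := hcomm _ hw
        have e : w = g * w * g⁻¹ := by
          calc w = g⁻¹ * (g * w * g⁻¹ * g) := by group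
            _ = g * w * g⁻¹ := by rw [h]; group
        rw [e]; exact hw
    obtain ⟨w, hw, rfl⟩ := hg
    have : w = 1 := Subgroup.disjoint_def.1 (Subgroup.IsComplement'.disjoint hcompl) hw hgP
    simp [this]
  have hpO : ¬ p ∣ Nat.card O := not_dvd_card hp hP4 hexp (hPK.trans hON) hfree
  have hcyc : IsCyclic O := by
    rcases Cfsg.Lib.Dickson.psl_subgroup_cases p O with ⟨k, -, ⟨hc, -⟩ | ⟨⟨e⟩⟩⟩ | ⟨h, -⟩ | ⟨-, h⟩
    · exact hc
    · exfalso
      apply hOodd
      rw [Nat.card_congr e.toEquiv, DihedralGroup.nat_card]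
      exact dvd_mul_right 2 k
    · exact absurd h hpO
    · exfalso
      apply hOodd
      rcases h with ⟨⟨e⟩⟩ | ⟨⟨e⟩⟩ | ⟨⟨e⟩⟩ | ⟨L, i1, i2, m, hcl, h3, -, h⟩
      · rw [Nat.card_congr e.toEquiv, nat_card_alternatingGroup, Nat.card_eq_fintype_card, Fintype.card_fin]; decide
      · rw [Nat.card_congr e.toEquiv, Nat.card_perm, Nat.card_eq_fintype_card, Fintype.card_fin]; decide
      · rw [Nat.card_congr e.toEquiv, nat_card_alternatingGroup, Nat.card_eq_fintype_card, Fintype.card_fin]; decide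
      · rcases h with ⟨⟨e⟩, -⟩ | ⟨e⟩
        · rw [Nat.card_congr e.toEquiv]; exact two_dvd_card_psl L
        · obtain ⟨e'⟩ := e
          rw [Nat.card_congr e'.toEquiv]; exact two_dvd_card_pgl L
  -- so the two subgroups meet the complement in the same subgroup
  refine ⟨1, one_mem _, ?_⟩
  rw [cj_one]
  have hsub : ∀ L : Subgroup P2, (P : Subgroup P2) ≤ L → L ≤ K → L = (L ⊓ O) ⊔ (P : Subgroup P2) ∧
      Nat.card L = Nat.card (L ⊓ O : Subgroup P2) * 4 := by
    intro L hPL hLK
    have hdec : ∀ g ∈ L, ∃ a ∈ L ⊓ O, ∃ b ∈ (P : Subgroup P2), a * b = g := by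
      intro g hg
      obtain ⟨⟨⟨a, ha⟩, ⟨b, hb⟩⟩, he⟩ := (Subgroup.IsComplement.existsUnique hcompl (⟨g, hLK hg⟩ : K)).exists
      have he' : (a : P2) * b = g := congrArg Subtype.val he
      have hb' : (b : P2) ∈ (P : Subgroup P2) := hb
      refine ⟨a, Subgroup.mem_inf.2 ⟨?_, ⟨a, ha, rfl⟩⟩, b, hb', he'⟩
      rw [show (a : P2) = g * (b : P2)⁻¹ by rw [← he', mul_inv_cancel_right]]
      exact mul_mem hg (inv_mem (hPL hb'))
    refine ⟨le_antisymm (fun g hg => ?_) (sup_le inf_le_left hPL), ?_⟩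
    · obtain ⟨a, ha, b, hb, rfl⟩ := hdec g hg
      exact mul_mem (Subgroup.mem_sup_left ha) (Subgroup.mem_sup_right hb)
    · rw [← hP4, ← Nat.card_prod]
      let f : (L ⊓ O : Subgroup P2) × (P : Subgroup P2) → L := fun x => ⟨x.1 * x.2, mul_mem x.1.2.1 (hPL x.2.2)⟩
      refine (Nat.card_eq_of_bijective f ⟨?_, ?_⟩).symm
      · rintro ⟨⟨a, ha⟩, ⟨b, hb⟩⟩ ⟨⟨c, hc⟩, ⟨d, hd⟩⟩ e
        have e' : a * b = c * d := congrArg Subtype.val e
        have hmem : c⁻¹ * a ∈ O ⊓ (P : Subgroup P2) := Subgroup.mem_inf.2 ⟨mul_mem (inv_mem hc.2) ha.2, by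
          rw [show c⁻¹ * a = d * b⁻¹ by rw [eq_mul_inv_iff_mul_eq, mul_assoc, e', inv_mul_cancel_left]]
          exact mul_mem hd (inv_mem hb)⟩
        obtain ⟨h1, h2⟩ := Subgroup.mem_inf.1 hmem
        obtain ⟨w, hw, hwe⟩ := h1
        have hw1 : w = 1 := Subgroup.disjoint_def.1 (Subgroup.IsComplement'.disjoint hcompl) hw (by
          show (w : P2) ∈ (P : Subgroup P2)
          rw [show (w : P2) = c⁻¹ * a from hwe]; exact h2)
        have hca : c⁻¹ * a = 1 := by rw [← hwe, hw1]; simp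
        have hac : a = c := (inv_mul_eq_one.1 hca).symm
        subst hac
        have hbd : b = d := mul_left_cancel e'
        subst hbd
        rfl
      · rintro ⟨g, hg⟩
        obtain ⟨a, ha, b, hb, rfl⟩ := hdec g hg
        exact ⟨(⟨a, ha⟩, ⟨b, hb⟩), rfl⟩
  have hPu : (P : Subgroup P2) ≤ cj u H := by
    have := cj_mono u hPH
    rwa [cj_eq_self_iff.2 hu] at this
  obtain ⟨h1, h1c⟩ := hsub H hPH le_sup_left
  obtain ⟨h2, h2c⟩ := hsub (cj u H) hPu le_sup_right
  rw [h2, show cj u H ⊓ O = H ⊓ O from ?_, ← h1]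
  have hc : Nat.card (cj u H) = Nat.card H :=
    Subgroup.card_map_of_injective (f := (MulAut.conj u).toMonoidHom) (MulAut.conj u).injective
  exact eq_of_card_eq_of_cyclic hcyc inf_le_right inf_le_right (by omega)

end Cfsg.Lib.Linear.Pronormal
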