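import Cfsg.Agent.Lib.Linear.Pronormal.Good

/-!
# Sylow `2`-subgroups of `PSL (2 ^ w) q` are self-normalising for `q` odd and `w ≥ 2`
-/

set_option autoImplicit false

namespace Cfsg.Lib.Linear.Pronormal

universe u

variable {K : Type u} [Field K] [Fintype K]

/-- The odd order elements normalising a Sylow `2`-subgroup of `SL (2 ^ (k + 2))` are central. -/
theorem odd_normalizer_central (hq : Odd (Fintype.card K)) (k : ℕ)
    (Q : Sylow 2 (Matrix.SpecialLinearGroup (Fin (2 ^ (k + 2))) K))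
    {x : Matrix.SpecialLinearGroup (Fin (2 ^ (k + 2))) K} (hx : Odd (orderOf x))
    (hn : x ∈ Subgroup.normalizer ((Q : Subgroup (Matrix.SpecialLinearGroup (Fin (2 ^ (k + 2))) K)) :
      Set (Matrix.SpecialLinearGroup (Fin (2 ^ (k + 2))) K))) :
    x ∈ Subgroup.center (Matrix.SpecialLinearGroup (Fin (2 ^ (k + 2))) K) := by
  classical
  haveI : Fact (Nat.Prime 2) := ⟨Nat.prime_two⟩
  obtain ⟨V, i1, i2, hd, hfin, W, hW⟩ := exists_goodTwo K hq k
  haveI : FiniteDimensional K V := Module.Finite.of_finite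
  haveI : Nontrivial V := Module.nontrivial_of_finrank_pos (R := K) (by rw [hd]; positivity)
  haveI := finite_aut (F := K) (U := V)
  haveI := finite_aut (F := K) (U := V × V)
  have hd2 : Module.finrank K (V × V) = 2 ^ (k + 2) := by
    rw [Module.finrank_prod, hd, pow_succ 2 (k + 1)]; ring
  let e : (V × V) ≃ₗ[K] (Fin (2 ^ (k + 2)) → K) := (Module.finBasisOfFinrankEq K (V × V) hd2).equivFun
  -- the special linear group as the kernel of the determinant
  let φ : Matrix.SpecialLinearGroup (Fin (2 ^ (k + 2))) K →* ((V × V) ≃ₗ[K] (V × V)) :=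
    { toFun := fun g => (e.trans (Matrix.SpecialLinearGroup.toLin' g)).trans e.symm
      map_one' := LinearEquiv.ext fun v => by simp
      map_mul' := fun g h => LinearEquiv.ext fun v => by simp [map_mul] }
  have hφi : Function.Injective φ := fun g h hgh => Matrix.SpecialLinearGroup.toLin'_injective (LinearEquiv.ext fun v => by
    have := congrArg e (LinearEquiv.congr_fun hgh (e.symm v))
    simpa [φ] using this)
  have hφd : ∀ g, LinearEquiv.det (φ g) = 1 := fun g => by
    refine Units.ext ?_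
    rw [LinearEquiv.coe_det, Units.val_one]
    rw [show ((φ g : (V × V) ≃ₗ[K] (V × V)) : (V × V) →ₗ[K] (V × V)) =
      (e.symm : _ →ₗ[K] (V × V)) ∘ₗ Matrix.toLin' (g : Matrix (Fin (2 ^ (k + 2))) (Fin (2 ^ (k + 2))) K) ∘ₗ
        (e.symm.symm : (V × V) →ₗ[K] _) from rfl, LinearMap.det_conj, LinearMap.det_toLin', g.2]
  have hφs : ∀ g : (V × V) ≃ₗ[K] (V × V), LinearEquiv.det g = 1 → g ∈ φ.range := fun g hg => by
    let A : (Fin (2 ^ (k + 2)) → K) →ₗ[K] (Fin (2 ^ (k + 2)) → K) :=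
      (e : (V × V) →ₗ[K] _) ∘ₗ (g : (V × V) →ₗ[K] (V × V)) ∘ₗ (e.symm : _ →ₗ[K] (V × V))
    have hA : (LinearMap.toMatrix' A).det = 1 := by
      rw [LinearMap.det_toMatrix', LinearMap.det_conj, ← LinearEquiv.coe_det, hg, Units.val_one]
    refine ⟨⟨LinearMap.toMatrix' A, hA⟩, LinearEquiv.ext fun v => ?_⟩
    show e.symm (Matrix.toLin' (LinearMap.toMatrix' A) (e v)) = g v
    rw [Matrix.toLin'_toMatrix']
    simp [A]
  -- a conjugate of the model contains the Sylow subgroup
  have h2 : IsPGroup 2 (wr W) := isPGroup_wr hW.toGood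
  have hcard : Nat.card (wr W) = 2 ^ (Nat.card ((V × V) ≃ₗ[K] (V × V))).factorization 2 := by
    have hv : (Nat.card ((V × V) ≃ₗ[K] (V × V))).factorization 2 =
        (Nat.card (V ≃ₗ[K] V)).factorization 2 + (Nat.card (V ≃ₗ[K] V)).factorization 2 + 1 := by
      rw [factorization_card_aut hd hq, factorization_card_aut (U := V × V) (m := 2 ^ (k + 1) + 2 ^ (k + 1)) (by
        rw [Module.finrank_prod, hd]) hq]
      exact twoExp_double hq Fintype.one_lt_card (Or.inl (by omega))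
    exact (good_wr hW.toGood hv).card
  let P₀ : Sylow 2 ((V × V) ≃ₗ[K] (V × V)) := Sylow.ofCard (wr W) hcard
  obtain ⟨R, hR⟩ := (Q.2.map φ).exists_le_sylow
  obtain ⟨g, hg⟩ := MulAction.exists_smul_eq ((V × V) ≃ₗ[K] (V × V)) R P₀
  have hcj : (R : Subgroup ((V × V) ≃ₗ[K] (V × V))).map (MulAut.conj g).toMonoidHom = wr W := by
    have := congrArg (fun S : Sylow 2 ((V × V) ≃ₗ[K] (V × V)) => (S : Subgroup ((V × V) ≃ₗ[K] (V × V)))) hg
    exact this
  -- the conjugate of the Sylow subgroup is the determinant one part of the model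
  have hQmem : ∀ y ∈ (Q : Subgroup (Matrix.SpecialLinearGroup (Fin (2 ^ (k + 2))) K)), g * φ y * g⁻¹ ∈ wr W :=
    fun y hy => by rw [← hcj]; exact Subgroup.mem_map_of_mem _ (hR (Subgroup.mem_map_of_mem φ hy))
  have hQsur : ∀ h ∈ wr W, LinearEquiv.det h = 1 →
      ∃ y ∈ (Q : Subgroup (Matrix.SpecialLinearGroup (Fin (2 ^ (k + 2))) K)), g * φ y * g⁻¹ = h := by
    intro h hh hhd
    let T : Subgroup (Matrix.SpecialLinearGroup (Fin (2 ^ (k + 2))) K) :=
      (wr W).comap ((MulAut.conj g).toMonoidHom.comp φ)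
    have hT : IsPGroup 2 T := h2.comap_of_injective _ ((MulAut.conj g).injective.comp hφi)
    have hQT : (Q : Subgroup (Matrix.SpecialLinearGroup (Fin (2 ^ (k + 2))) K)) ≤ T := hQmem
    have heq := Q.is_maximal' hT hQT
    obtain ⟨y, hy⟩ := hφs (g⁻¹ * h * g) (by rw [map_mul, map_mul, map_inv, hhd, mul_one, inv_mul_cancel])
    have hye : g * φ y * g⁻¹ = h := by rw [hy]; group
    refine ⟨y, ?_, hye⟩
    rw [← heq]
    show g * φ y * g⁻¹ ∈ wr W
    rw [hye]; exact hh
  have hxo : Odd (orderOf (g * φ x * g⁻¹)) := hx.of_dvd_nat (by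
    have h := orderOf_map_dvd ((MulAut.conj g).toMonoidHom.comp φ) x
    exact h)
  obtain ⟨c, hc⟩ := scalar_det hW hxo (fun h hh hhd => by
    obtain ⟨y, hy, rfl⟩ := hQsur h hh hhd
    rw [show g * φ x * g⁻¹ * (g * φ y * g⁻¹) * (g * φ x * g⁻¹)⁻¹ = g * (φ x * φ y * (φ x)⁻¹) * g⁻¹ by group,
      ← map_inv φ, ← map_mul, ← map_mul]
    exact hQmem _ ((Subgroup.mem_normalizer_iff.1 hn y).1 hy))
  rw [Subgroup.mem_center_iff]
  intro y
  refine hφi (LinearEquiv.ext fun v => ?_)
  have hxs : ∀ w, φ x w = c • w := fun w => by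
    have h := congrArg (fun u => g⁻¹ u) (hc (g w))
    simp only [map_smul] at h
    simpa [LinearEquiv.mul_apply] using h
  rw [map_mul, map_mul, LinearEquiv.mul_apply, LinearEquiv.mul_apply, hxs, hxs, map_smul]

/-- **A Sylow `2`-subgroup of `PSL (2 ^ (k + 2))` over a field of odd order is self-normalising.** -/
theorem psl_normalizer_eq (hq : Odd (Fintype.card K)) (k : ℕ)
    (P : Sylow 2 (Matrix.ProjectiveSpecialLinearGroup (Fin (2 ^ (k + 2))) K)) :
    Subgroup.normalizer ((P : Subgroup (Matrix.ProjectiveSpecialLinearGroup (Fin (2 ^ (k + 2))) K)) :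
      Set (Matrix.ProjectiveSpecialLinearGroup (Fin (2 ^ (k + 2))) K)) = (P : Subgroup (Matrix.ProjectiveSpecialLinearGroup (Fin (2 ^ (k + 2))) K)) := by
  classical
  haveI : Fact (Nat.Prime 2) := ⟨Nat.prime_two⟩
  let π := QuotientGroup.mk' (Subgroup.center (Matrix.SpecialLinearGroup (Fin (2 ^ (k + 2))) K))
  have hπ : Function.Surjective π := QuotientGroup.mk'_surjective _
  obtain ⟨Q, hQ⟩ := Sylow.mapSurjective_surjective (hf := hπ) 2 P
  have hPQ : (P : Subgroup (Matrix.ProjectiveSpecialLinearGroup (Fin (2 ^ (k + 2))) K)) = (Q : Subgroup (Matrix.SpecialLinearGroup (Fin (2 ^ (k + 2))) K)).map π := by rw [← hQ]; exact Sylow.coe_mapSurjective hπ Q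
  refine le_antisymm (fun u hu => ?_) Subgroup.le_normalizer
  obtain ⟨x, rfl⟩ := hπ u
  -- a lift normalises the Sylow subgroup above
  have hxN : x ∈ Subgroup.normalizer ((Q : Subgroup (Matrix.SpecialLinearGroup (Fin (2 ^ (k + 2))) K)) : Set (Matrix.SpecialLinearGroup (Fin (2 ^ (k + 2))) K)) := by
    have hsub : ∀ y ∈ (Q : Subgroup (Matrix.SpecialLinearGroup (Fin (2 ^ (k + 2))) K)), x * y * x⁻¹ ∈ (Q : Subgroup (Matrix.SpecialLinearGroup (Fin (2 ^ (k + 2))) K)) := by
      intro y hy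
      have h1 : π (x * y * x⁻¹) ∈ (P : Subgroup (Matrix.ProjectiveSpecialLinearGroup (Fin (2 ^ (k + 2))) K)) := by
        rw [map_mul, map_mul, map_inv]
        exact (Subgroup.mem_normalizer_iff.1 hu (π y)).1 (hPQ ▸ Subgroup.mem_map_of_mem π hy)
      rw [hPQ] at h1
      obtain ⟨z, hz, hzy⟩ := Subgroup.mem_map.1 h1
      have hcen : z⁻¹ * (x * y * x⁻¹) ∈ Subgroup.center (Matrix.SpecialLinearGroup (Fin (2 ^ (k + 2))) K) :=
        QuotientGroup.eq.1 hzy
      -- so the conjugate is a `2`-element normalising the Sylow subgroup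
      have hN : x * y * x⁻¹ ∈ Subgroup.normalizer ((Q : Subgroup (Matrix.SpecialLinearGroup (Fin (2 ^ (k + 2))) K)) : Set (Matrix.SpecialLinearGroup (Fin (2 ^ (k + 2))) K)) := by
        rw [show x * y * x⁻¹ = z * (z⁻¹ * (x * y * x⁻¹)) by group]
        exact mul_mem (Subgroup.le_normalizer hz) (Subgroup.center_le_normalizer _ hcen)
      have hp : IsPGroup 2 (Subgroup.zpowers (x * y * x⁻¹)) := by
        obtain ⟨i, hi⟩ := Q.2 ⟨y, hy⟩
        have hi' : (x * y * x⁻¹) ^ 2 ^ i = 1 := by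
          rw [conj_pow, show y ^ 2 ^ i = 1 from congrArg Subtype.val hi, mul_one, mul_inv_cancel]
        rintro ⟨w, hw⟩
        obtain ⟨j, rfl⟩ := Subgroup.mem_zpowers_iff.1 hw
        refine ⟨i, Subtype.ext ?_⟩
        show ((x * y * x⁻¹) ^ j) ^ 2 ^ i = 1
        rw [← zpow_natCast ((x * y * x⁻¹) ^ j), ← zpow_mul, mul_comm, zpow_mul, zpow_natCast, hi', one_zpow]
      have hsup := hp.to_sup_of_normal_right' Q.2 ((Subgroup.zpowers_le).2 hN)
      rw [← Q.is_maximal' hsup le_sup_right]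
      exact Subgroup.mem_sup_left (Subgroup.mem_zpowers _)
    rw [Subgroup.mem_normalizer_iff]
    intro y
    refine ⟨hsub y, fun hy => ?_⟩
    have heq : (Q : Subgroup (Matrix.SpecialLinearGroup (Fin (2 ^ (k + 2))) K)).map (MulAut.conj x).toMonoidHom = (Q : Subgroup (Matrix.SpecialLinearGroup (Fin (2 ^ (k + 2))) K)) := by
      refine Subgroup.eq_of_le_of_card_ge (Subgroup.map_le_iff_le_comap.2 hsub) (le_of_eq ?_)
      exact (Subgroup.card_map_of_injective (f := (MulAut.conj x).toMonoidHom) (MulAut.conj x).injective).symm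
    rw [← heq] at hy
    obtain ⟨w, hw, hwe⟩ := Subgroup.mem_map.1 hy
    rwa [← (MulAut.conj x).injective hwe]
  -- the odd part is central
  obtain ⟨a, r, hr, hord⟩ := Nat.exists_eq_two_pow_mul_odd (orderOf_pos x).ne'
  have hyo : Odd (orderOf (x ^ 2 ^ a)) := by
    refine hr.of_dvd_nat (orderOf_dvd_of_pow_eq_one ?_)
    rw [← pow_mul, ← hord, pow_orderOf_eq_one]
  have hcen := odd_normalizer_central hq k Q hyo (pow_mem hxN _)
  have hpow : π x ^ 2 ^ a = 1 := by
    rw [← map_pow]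
    exact (QuotientGroup.eq_one_iff _).2 hcen
  have hp : IsPGroup 2 (Subgroup.zpowers (π x)) := by
    rintro ⟨w, hw⟩
    obtain ⟨j, rfl⟩ := Subgroup.mem_zpowers_iff.1 hw
    refine ⟨a, Subtype.ext ?_⟩
    show (π x ^ j) ^ 2 ^ a = 1
    rw [← zpow_natCast (π x ^ j), ← zpow_mul, mul_comm, zpow_mul, zpow_natCast, hpow, one_zpow]
  have hsup := hp.to_sup_of_normal_right' P.2 ((Subgroup.zpowers_le).2 hu)
  rw [← P.is_maximal' hsup le_sup_right]
  exact Subgroup.mem_sup_left (Subgroup.mem_zpowers _)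

end Cfsg.Lib.Linear.Pronormal
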