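import Cfsg.Agent.Lib.Linear.Pronormal.UnitaryTwisted
import Cfsg.Agent.Lib.Linear.SUDegree.Model

/-!
# Odd index subgroups of `SU n`, `n` and `q` even, are pronormal
-/

set_option autoImplicit false

namespace Cfsg.Lib.Linear.Pronormal

open Cfsg.Lib.Fusion.Pronormal

section Generic

variable {G : Type*} [Group G] [Finite G] {p : ℕ} [Fact p.Prime]

/-- A subgroup containing a Sylow subgroup `U` is normalised by `B` if `B` preserves, for each `H ≥ U`, the
set of conjugates of `U` inside `H`. -/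
theorem pronormal_of_borel (U : Sylow p G) (B : Subgroup G) (hN : Subgroup.normalizer ((U : Subgroup G) : Set G) ≤ B)
    (hcomm : ∀ a ∈ B, ∀ b ∈ B, a * b * a⁻¹ * b⁻¹ ∈ (U : Subgroup G))
    (hinv : ∀ H : Subgroup G, (U : Subgroup G) ≤ H → ∀ g : G, cj g (U : Subgroup G) ≤ H → ∀ b ∈ B,
      cj (b * g) (U : Subgroup G) ≤ H)
    {H : Subgroup G} (hH : ¬ p ∣ H.index) : Cfsg.IsPronormal H := by
  obtain ⟨Q, hQ⟩ := exists_sylow_le hH
  obtain ⟨g, hg⟩ := MulAction.exists_smul_eq G Q U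
  have hgQ : cj g (Q : Subgroup G) = (U : Subgroup G) := by rw [← hg]; rfl
  suffices key : ∀ H : Subgroup G, (U : Subgroup G) ≤ H → Cfsg.IsPronormal H by
    have h := pronormal_cj (key (cj g H) (hgQ ▸ cj_mono g hQ)) g⁻¹
    rwa [← cj_mul, inv_mul_cancel, cj_one] at h
  intro H hUH
  refine pronormal_of_normalizer U hUH fun u hu => ⟨1, one_mem _, ?_⟩
  rw [cj_one]
  have hb := hN hu
  -- the subgroup generated by the conjugates inside
  let D : Subgroup G := ⨆ g : {g : G // cj g (U : Subgroup G) ≤ H}, cj g.1 (U : Subgroup G)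
  have hDH : D ≤ H := iSup_le fun g => g.2
  have hDb : ∀ b ∈ B, cj b D ≤ D := by
    intro b hb'
    rw [cj, Subgroup.map_iSup]
    refine iSup_le fun g => ?_
    rw [show (cj g.1 (U : Subgroup G)).map (MulAut.conj b).toMonoidHom = cj (b * g.1) (U : Subgroup G) from
      (cj_mul b g.1 _).symm]
    exact le_iSup (fun g : {g : G // cj g (U : Subgroup G) ≤ H} => cj g.1 (U : Subgroup G))
      ⟨b * g.1, hinv H hUH g.1 g.2 b hb'⟩
  have hUD : (U : Subgroup G) ≤ D := by
    refine le_trans (le_of_eq (cj_one _).symm) ?_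
    exact le_iSup (fun g : {g : G // cj g (U : Subgroup G) ≤ H} => cj g.1 (U : Subgroup G))
      ⟨1, by rw [cj_one]; exact hUH⟩
  have hle : ∀ b ∈ B, cj b H ≤ H := by
    intro b hb' y hy
    obtain ⟨h, hh, rfl⟩ := Subgroup.mem_map.1 hy
    obtain ⟨R, hR⟩ := sylow_cj U h
    have hRD : (R : Subgroup G) ≤ D := by
      rw [hR]
      exact le_iSup (fun g : {g : G // cj g (U : Subgroup G) ≤ H} => cj g.1 (U : Subgroup G))
        ⟨h, cj_le_of_mem hUH hh⟩
    obtain ⟨d, hd⟩ := MulAction.exists_smul_eq D (U.subtype hUD) (R.subtype hRD)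
    have hd' : cj (d : G) (U : Subgroup G) = cj h U := by
      have h1 := congrArg (fun S : Sylow p D => (S : Subgroup D).map D.subtype) hd
      simp only [Sylow.coe_subgroup_smul, Sylow.coe_subtype] at h1
      rw [Subgroup.map_subgroupOf_eq_of_le hRD, hR] at h1
      rw [← h1]
      show cj (D.subtype d) (U : Subgroup G) = (cj d ((U : Subgroup G).subgroupOf D)).map D.subtype
      rw [map_cj, Subgroup.map_subgroupOf_eq_of_le hUD]
    have hx : (d : G)⁻¹ * h ∈ Subgroup.normalizer ((U : Subgroup G) : Set G) := by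
      rw [← cj_eq_self_iff, cj_mul, ← hd', ← cj_mul, inv_mul_cancel, cj_one]
    have hxH : (d : G)⁻¹ * h ∈ H := mul_mem (inv_mem (hDH d.2)) hh
    have h1 : b * d * b⁻¹ ∈ H := hDH (hDb b hb' (Subgroup.mem_map_of_mem _ d.2))
    have h2 : b * ((d : G)⁻¹ * h) * b⁻¹ ∈ H := by
      have := mul_mem (hUH (hcomm b hb' _ (hN hx))) hxH
      rwa [inv_mul_cancel_right] at this
    have := mul_mem h1 h2
    rw [show b * d * b⁻¹ * (b * ((d : G)⁻¹ * h) * b⁻¹) = b * h * b⁻¹ by group] at this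
    exact this
  refine le_antisymm (hle u hb) ?_
  have h := cj_mono u (hle u⁻¹ (inv_mem hb))
  rwa [← cj_mul, mul_inv_cancel, cj_one] at h

end Generic

namespace Twisted

open Matrix Cfsg.Lib.Linear.SLBlocks

variable {n : ℕ} {F : Type*} [Field F] [Fintype F] (φ : F →+* F)

local notation "SLn" => Matrix.SpecialLinearGroup (Fin n) F

local notation "UT" => (rad (lbl n) : Subgroup (Matrix.SpecialLinearGroup (Fin n) F))

local notation "BT" => (par (lbl n) : Subgroup (Matrix.SpecialLinearGroup (Fin n) F))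

theorem tx_inv {i j : Fin n} (hij : i ≠ j) (a : F) : (tx hij a : SLn)⁻¹ = tx hij (-a) :=
  inv_eq_of_mul_eq_one_right (Subtype.ext (by
    rw [Matrix.SpecialLinearGroup.coe_mul, coe_tx, coe_tx, twoMat_mul hij, Matrix.SpecialLinearGroup.coe_one,
      ← twoMat_one hij]
    congr 1 <;> simp))

theorem theta_tx (h2 : (2 : F) = 0) {i j : Fin n} (hij : i ≠ j) :
    theta φ (tx hij 1 : SLn) = tx (Fin.rev_injective.ne hij.symm) 1 := by
  refine Subtype.ext (Matrix.ext fun r s => ?_)
  rw [theta_apply, tx_inv hij, show (-1 : F) = 1 from neg_eq_of_add_eq_zero_left (by rw [one_add_one_eq_two, h2]),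
    coe_tx, coe_tx]
  simp only [twoMat, Fin.rev_eq_iff, apply_ite φ, map_one, map_zero]
  by_cases h1 : r = j.rev <;> by_cases h3 : s = i.rev <;> by_cases h4 : r = i.rev <;> by_cases h5 : s = j.rev <;>
    simp_all [eq_comm, Fin.rev_injective.eq_iff]

/-- A fixed monomial matrix normalising the fixed unitriangular matrices is diagonal. -/
theorem eq_one_of_normalizes (h2 : (2 : F) = 0) (hn : Even n) {σ : Equiv.Perm (Fin n)} {m : SLn} (hm : IsMono σ m)
    (hN : ∀ x ∈ UT, x ∈ Fix φ → m * x * m⁻¹ ∈ UT) : σ = 1 := by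
  have hstep : ∀ i j : Fin n, j.val = i.val + 1 → (σ i).val < (σ j).val := by
    intro i j hij
    have hne : i ≠ j := Fin.ne_of_val_ne (by omega)
    by_cases hself : j = i.rev
    · have hfix : theta φ (tx hne 1 : SLn) = tx hne 1 := by
        rw [theta_tx φ h2]
        refine Subtype.ext ?_
        rw [coe_tx, coe_tx, hself, Fin.rev_rev]
      have h := hN _ (tx_mem_rad hne (by omega) 1) hfix
      rw [mono_mul_tx hm hne, mul_inv_cancel_right] at h
      by_contra hle
      push Not at hle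
      have h' := mem_rad.1 h (σ i) (σ j) hle
      rw [coe_tx, Matrix.sub_apply, Matrix.one_apply_ne (σ.injective.ne hne), sub_zero] at h'
      simp [twoMat, σ.injective.ne hne.symm, hm.ne_zero i, hm.ne_zero j] at h'
    · obtain ⟨r, hr⟩ := hn
      have hne' : j.rev ≠ i.rev := Fin.rev_injective.ne hne.symm
      have hd1 : j ≠ j.rev := fun e => by have := congrArg Fin.val e; simp only [Fin.val_rev] at this; omega
      have hd2 : i ≠ i.rev := fun e => by have := congrArg Fin.val e; simp only [Fin.val_rev] at this; omega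
      have hd3 : i ≠ j.rev := fun e => hself (by rw [e, Fin.rev_rev])
      have hcomm : (tx hne' 1 : SLn) * tx hne 1 = tx hne 1 * tx hne' 1 := Subtype.ext (by
        rw [Matrix.SpecialLinearGroup.coe_mul, Matrix.SpecialLinearGroup.coe_mul, tx, tx,
          Matrix.SpecialLinearGroup.transvection_coe, Matrix.SpecialLinearGroup.transvection_coe]
        simp [Matrix.mul_add, Matrix.add_mul, Matrix.single_mul_single_of_ne, hd1, hd1.symm, hd2, hd2.symm,
          add_comm, add_left_comm])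
      have hfix : theta φ ((tx hne 1 : SLn) * tx hne' 1) = tx hne 1 * tx hne' 1 := by
        rw [map_mul, theta_tx φ h2, theta_tx φ h2]
        have e : (tx (Fin.rev_injective.ne hne'.symm) 1 : SLn) = tx hne 1 := Subtype.ext (by
          rw [coe_tx, coe_tx, Fin.rev_rev, Fin.rev_rev])
        rw [e, hcomm]
      have h := hN _ (mul_mem (tx_mem_rad hne (by omega) 1) (tx_mem_rad hne' (by simp only [Fin.val_rev]; omega) 1)) hfix
      rw [← mul_assoc, mono_mul_tx hm hne, mul_assoc _ m, mono_mul_tx hm hne', ← mul_assoc, mul_inv_cancel_right] at h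
      by_contra hle
      push Not at hle
      have h' := mem_rad.1 h (σ i) (σ j) hle
      rw [Matrix.SpecialLinearGroup.coe_mul, coe_tx, coe_tx, Matrix.sub_apply,
        Matrix.one_apply_ne (σ.injective.ne hne), sub_zero, twoMat_mul_apply (σ.injective.ne hne)] at h'
      have n1 : σ j ≠ σ j.rev := σ.injective.ne hd1
      have n2 : σ i ≠ σ i.rev := σ.injective.ne hd2
      have n3 : σ i ≠ σ j.rev := σ.injective.ne hd3
      have n4 : σ j ≠ σ i.rev := σ.injective.ne fun e => hne (by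
        have := congrArg Fin.val e; simp only [Fin.val_rev] at this; omega)
      simp [twoMat, n1, n2.symm, n3, n4, n1.symm, hd1, hd2, hd3, hne, hm.ne_zero i, hm.ne_zero j] at h'
  ext i
  suffices h : ∀ (k : ℕ) (hk : k < n), k ≤ (σ ⟨k, hk⟩).val by
    have hge : ∀ c : Fin n, c.val ≤ (σ c).val := fun c => h c.val c.isLt
    have hsum : ∑ c : Fin n, c.val = ∑ c, (σ c).val := (Equiv.sum_comp σ (fun i => i.val)).symm
    exact ((Finset.sum_eq_sum_iff_of_le fun c _ => hge c).1 hsum i (Finset.mem_univ i)).symm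
  intro k
  induction k with
  | zero => intro hk; exact Nat.zero_le _
  | succ k ih => intro hk; exact Nat.lt_of_le_of_lt (ih (by omega)) (hstep ⟨k, by omega⟩ ⟨k + 1, hk⟩ rfl)

/-- **Odd index subgroups of the fixed group are pronormal.** -/
theorem pronormal_fix [CharP F 2] (hφ : ∀ x, φ (φ x) = x) (hne : ∃ x, φ x ≠ x) (hn : Even n)
    {H : Subgroup (Fix (n := n) φ)} (hH : ¬ 2 ∣ H.index) : Cfsg.IsPronormal H := by
  classical
  haveI : Fact (Nat.Prime 2) := ⟨Nat.prime_two⟩
  have h2 : (2 : F) = 0 := CharTwo.two_eq_zero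
  let U₀ : Subgroup (Fix (n := n) φ) := Subgroup.subgroupOf UT (Fix φ)
  let B₀ : Subgroup (Fix (n := n) φ) := Subgroup.subgroupOf BT (Fix φ)
  have hU2 : IsPGroup 2 U₀ := (isPGroup_rad 2 (lbl n)).comap_subtype
  have hN : Subgroup.normalizer (U₀ : Set (Fix (n := n) φ)) ≤ B₀ := by
    intro g hg
    obtain ⟨σ, m, u, v, hm, hmF, hu, hv, he⟩ := exists_bruhat φ hφ hne h2 g.2
    have hmN : (⟨m, hmF⟩ : Fix φ) ∈ Subgroup.normalizer (U₀ : Set (Fix (n := n) φ)) := by
      have e : (⟨m, hmF⟩ : Fix φ) = (⟨u, hu.2⟩ : Fix φ)⁻¹ * g * (⟨v, hv.2⟩ : Fix φ)⁻¹ :=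
        Subtype.ext (show m = u⁻¹ * (g : SLn) * v⁻¹ by rw [he]; group)
      rw [e]
      exact mul_mem (mul_mem (inv_mem (Subgroup.le_normalizer hu.1)) hg) (inv_mem (Subgroup.le_normalizer hv.1))
    have h1 : σ = 1 := eq_one_of_normalizes φ h2 hn hm fun x hx hxF =>
      (Subgroup.mem_normalizer_iff.1 hmN ⟨x, hxF⟩).1 hx
    subst h1
    show (g : SLn) ∈ BT
    rw [he]
    exact mul_mem (mul_mem (rad_le_par _ hu.1) (mem_par.2 fun r s hrs => hm r s fun e : r = s => by
      rw [e] at hrs; exact lt_irrefl _ hrs)) (rad_le_par _ hv.1)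
  -- the unitriangular matrices form a Sylow subgroup
  obtain ⟨P, hP⟩ := hU2.exists_le_sylow
  have hPU : (P : Subgroup (Fix (n := n) φ)) = U₀ := by
    by_contra hne'
    haveI : Group.IsNilpotent (P : Subgroup (Fix (n := n) φ)) := P.2.isNilpotent
    have hlt : U₀.subgroupOf (P : Subgroup (Fix (n := n) φ)) < ⊤ :=
      lt_top_iff_ne_top.2 fun e => hne' (le_antisymm (Subgroup.subgroupOf_eq_top.1 e) hP)
    obtain ⟨x, hx, hxU⟩ := SetLike.exists_of_lt (normalizerCondition_of_isNilpotent _ hlt)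
    rw [← Subgroup.subgroupOf_normalizer_eq hP, Subgroup.mem_subgroupOf] at hx
    have hxB := hN hx
    obtain ⟨k, hk⟩ := P.2 x
    have hk' : ((x : Fix (n := n) φ) : SLn) ^ 2 ^ k = 1 := congrArg (fun y : (P : Subgroup (Fix (n := n) φ)) => ((y : Fix (n := n) φ) : SLn)) hk
    refine hxU ?_
    show ((x : Fix (n := n) φ) : SLn) ∈ UT
    refine mem_rad.2 fun r s hrs => ?_
    rw [Matrix.sub_apply, sub_eq_zero]
    rcases eq_or_ne r s with rfl | hrs'
    · have hd : ∀ j : ℕ, ((((x : Fix (n := n) φ) : SLn) ^ j : SLn) : Matrix (Fin n) (Fin n) F) r r =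
          (((x : Fix (n := n) φ) : SLn) : Matrix (Fin n) (Fin n) F) r r ^ j := by
        intro j
        induction j with
        | zero => rw [pow_zero, pow_zero, Matrix.SpecialLinearGroup.coe_one, Matrix.one_apply_eq]
        | succ j ih =>
          rw [pow_succ ((x : Fix (n := n) φ) : SLn), diag_mul_apply (a := ((x : Fix (n := n) φ) : SLn) ^ j) (b := ((x : Fix (n := n) φ) : SLn)) (pow_mem hxB j) hxB, ih, pow_succ]
      have := hd (2 ^ k)
      rw [hk', Matrix.SpecialLinearGroup.coe_one, Matrix.one_apply_eq] at this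
      rw [Matrix.one_apply_eq]
      have h0 : ((((x : Fix (n := n) φ) : SLn) : Matrix (Fin n) (Fin n) F) r r - 1) ^ 2 ^ k = 0 := by
        rw [sub_pow_char_pow, one_pow, ← this, sub_self]
      exact sub_eq_zero.1 (eq_zero_of_pow_eq_zero h0)
    · rw [Matrix.one_apply_ne hrs', mem_par.1 (show ((x : Fix (n := n) φ) : SLn) ∈ BT from hxB) r s (lt_of_le_of_ne hrs fun e => hrs' (Fin.ext e.symm))]
  refine pronormal_of_borel P B₀ (by rw [hPU]; exact hN) (fun a ha b hb => ?_) (fun K hK g hg b hb => ?_) hH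
  · rw [hPU]
    exact comm_mem ha hb
  rw [hPU] at hK hg ⊢
  obtain ⟨σ, m, u, v, hm, hmF, hu, hv, he⟩ := exists_bruhat φ hφ hne h2 g.2
  obtain ⟨ge, hge⟩ : ∃ ge, g = (⟨u, hu.2⟩ : Fix φ) * ⟨m, hmF⟩ * ge ∧ ge ∈ U₀ :=
    ⟨⟨v, hv.2⟩, Subtype.ext he, hv.1⟩
  have hUu : ∀ z ∈ U₀, cj z U₀ = U₀ := fun z hz => cj_eq_of_mem hz
  rw [hge.1, cj_mul, hUu _ hge.2] at hg
  rw [hge.1, ← mul_assoc, cj_mul, hUu _ hge.2]
  -- move the diagonal part through the monomial one
  obtain ⟨bm, hbm⟩ : ∃ bm : Fix φ, bm = (⟨m, hmF⟩ : Fix φ)⁻¹ * b * ⟨m, hmF⟩ := ⟨_, rfl⟩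
  obtain ⟨d, hd, hu1, hu2⟩ := exists_diag (show (b : SLn) ∈ BT from hb)
  have hdfix : theta φ d = d := by
    refine mono_unique (σ := 1) (τ := 1) (diag_mono hd) (by
      have := theta_mono φ (diag_mono hd)
      rwa [mul_one, show (Fin.revPerm : Equiv.Perm (Fin n)) * Fin.revPerm = 1 from Equiv.ext fun i => Fin.rev_rev i] at this) (one_mem _)
      (mul_mem hu2 (inv_mem (theta_mem_rad φ hu2))) ?_
    have hb' : theta φ (b : SLn) = b := b.2
    rw [map_mul, map_inv, hb']
    group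
  obtain ⟨u', hu', hbu⟩ : ∃ u' : Fix φ, u' ∈ U₀ ∧ b * (⟨u, hu.2⟩ : Fix φ) = u' * ⟨d, hdfix⟩ := by
    refine ⟨b * (⟨u, hu.2⟩ : Fix φ) * (⟨d, hdfix⟩ : Fix φ)⁻¹, ?_, by group⟩
    show (b : SLn) * u * d⁻¹ ∈ UT
    rw [show (b : SLn) * u * d⁻¹ = ((b : SLn) * u * (b : SLn)⁻¹) * ((b : SLn) * d⁻¹) by group]
    exact mul_mem (conj_mem_rad hb hu.1) hu1
  have hnorm : cj ((⟨m, hmF⟩ : Fix φ)⁻¹ * ⟨d, hdfix⟩ * ⟨m, hmF⟩) U₀ = U₀ := by
    have hmem : (m⁻¹ * d * m : SLn) ∈ BT := mem_par.2 fun r s hrs => by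
      have hrs' : r ≠ s := fun e => by rw [e] at hrs; exact lt_irrefl _ hrs
      rw [Matrix.SpecialLinearGroup.coe_mul, Matrix.SpecialLinearGroup.coe_mul, Matrix.mul_apply,
        Finset.sum_eq_single (σ s)]
      · rw [Matrix.mul_apply, Finset.sum_eq_single (σ s)]
        · rw [mono_inv hm r (σ s) (fun e => hrs' (by rw [e]; exact σ.symm_apply_apply s)), zero_mul, zero_mul]
        · intro k _ hk
          rw [hd, Matrix.diagonal_apply_ne _ hk, mul_zero]
        · simp
      · intro k _ hk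
        rw [hm k s hk, mul_zero]
      · simp
    rw [cj_eq_self_iff, Subgroup.mem_normalizer_iff]
    intro z
    refine ⟨fun hz => conj_mem_rad hmem hz, fun hz => ?_⟩
    have := conj_mem_rad (inv_mem hmem) hz
    show (z : SLn) ∈ UT
    simpa [mul_assoc] using this
  rw [← mul_assoc, show b * (⟨u, hu.2⟩ : Fix φ) * ⟨m, hmF⟩ =
      (u' * (⟨u, hu.2⟩ : Fix φ)⁻¹) * ((⟨u, hu.2⟩ : Fix φ) * ⟨m, hmF⟩) * ((⟨m, hmF⟩ : Fix φ)⁻¹ * ⟨d, hdfix⟩ * ⟨m, hmF⟩) by
        rw [hbu]; group, cj_mul, hnorm, cj_mul]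
  exact cj_le_of_mem hg (hK (mul_mem hu' (inv_mem hu.1)))

/-- The split form with antidiagonal Gram matrix. -/
def revJ (n : ℕ) (F : Type*) [Field F] : Matrix (Fin n) (Fin n) F := fun i j => if j = i.rev then 1 else 0

theorem revJ_mul (A : Matrix (Fin n) (Fin n) F) (i j : Fin n) : (revJ n F * A) i j = A i.rev j := by
  rw [Matrix.mul_apply, Finset.sum_eq_single i.rev] <;> simp +contextual [revJ]

theorem mul_revJ (A : Matrix (Fin n) (Fin n) F) (i j : Fin n) : (A * revJ n F) i j = A i j.rev := by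
  rw [Matrix.mul_apply, Finset.sum_eq_single j.rev]
  · simp [revJ]
  · intro k _ hk
    have : j ≠ k.rev := fun e => hk (by rw [e, Fin.rev_rev])
    simp [revJ, this]
  · simp

theorem mem_fix_iff (hφ : ∀ x, φ (φ x) = x) {g : SLn} : g ∈ Fix φ ↔
    SUDegree.st φ (g : Matrix (Fin n) (Fin n) F) * revJ n F * (g : Matrix (Fin n) (Fin n) F) = revJ n F := by
  have hrr : revJ n F * revJ n F = 1 := by
    ext i j; rw [revJ_mul]; simp [revJ, Matrix.one_apply, eq_comm]
  have ht : (theta φ g : SLn) = g ↔ revJ n F * SUDegree.st φ ((g⁻¹ : SLn) : Matrix (Fin n) (Fin n) F) * revJ n F =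
      (g : Matrix (Fin n) (Fin n) F) := by
    have : revJ n F * SUDegree.st φ ((g⁻¹ : SLn) : Matrix (Fin n) (Fin n) F) * revJ n F =
        ((theta φ g : SLn) : Matrix (Fin n) (Fin n) F) := by
      ext i j
      rw [mul_revJ, revJ_mul, theta_apply]
      rfl
    rw [this]
    exact ⟨fun h => congrArg Subtype.val h, Subtype.ext⟩
  rw [mem_fix, ht]
  have hinv : SUDegree.st φ (g : Matrix (Fin n) (Fin n) F) * SUDegree.st φ ((g⁻¹ : SLn) : Matrix (Fin n) (Fin n) F) = 1 := by
    rw [← SUDegree.st_mul, ← Matrix.SpecialLinearGroup.coe_mul, inv_mul_cancel, Matrix.SpecialLinearGroup.coe_one,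
      SUDegree.st_one]
  constructor
  · intro h
    nth_rewrite 2 [← h]
    simp only [← mul_assoc]
    rw [mul_assoc (SUDegree.st φ (g : Matrix (Fin n) (Fin n) F)) (revJ n F) (revJ n F), hrr, mul_one, hinv, one_mul]
  · intro h
    have hinv' := mul_eq_one_comm.mp hinv
    calc revJ n F * SUDegree.st φ ((g⁻¹ : SLn) : Matrix (Fin n) (Fin n) F) * revJ n F
        = revJ n F * SUDegree.st φ ((g⁻¹ : SLn) : Matrix (Fin n) (Fin n) F) *
            (SUDegree.st φ (g : Matrix (Fin n) (Fin n) F) * revJ n F * (g : Matrix (Fin n) (Fin n) F)) := by rw [h]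
      _ = (revJ n F * revJ n F) * (g : Matrix (Fin n) (Fin n) F) := by
          simp only [← mul_assoc]
          rw [mul_assoc (revJ n F), hinv', mul_one]
      _ = (g : Matrix (Fin n) (Fin n) F) := by rw [hrr, one_mul]

/-- The fixed group is the special unitary group. -/
theorem exists_equiv [CharP F 2] {q : ℕ} (hF : Fintype.card F = q ^ 2) (hn : Even n) :
    Nonempty (Fix (n := n) (Herm.frob hF) ≃* Cfsg.SU n F q) := by
  classical
  obtain ⟨σ, hσ⟩ : ∃ σ, σ = Herm.frob hF := ⟨_, rfl⟩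
  rw [← hσ]
  have hσ2 : ∀ a, σ (σ a) = a := hσ ▸ Herm.frob_frob hF
  have hσq : ∀ a, σ a = a ^ q := hσ ▸ Herm.frob_apply hF
  have h2 : (2 : F) = 0 := CharTwo.two_eq_zero
  have hneg : ∀ x : F, -x = x := fun x => neg_eq_of_add_eq_zero_left (by rw [← two_mul, h2, zero_mul])
  obtain ⟨z, hz, hz1⟩ : ∃ z : F, σ z * z = 1 ∧ z ≠ 1 := by
    have hc := Herm.card_norm_eq hF (one_ne_zero (α := F)) (one_pow q)
    haveI : Nontrivial {x : F // x ^ (q + 1) = 1} := Finite.one_lt_card_iff_nontrivial.1 (by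
      rw [hc]; have := Herm.two_le_q hF; omega)
    obtain ⟨a, ha⟩ := exists_ne (⟨1, one_pow _⟩ : {x : F // x ^ (q + 1) = 1})
    exact ⟨a.1, by rw [hσq, ← pow_succ, a.2], fun e => ha (Subtype.ext e)⟩
  have hs : 1 + z ≠ 0 := fun h => hz1 (by rw [eq_neg_of_add_eq_zero_right h, hneg])
  obtain ⟨l, hl⟩ : ∃ l, l = (1 + z)⁻¹ := ⟨_, rfl⟩
  have hl1 : l * (1 + z) = 1 := by rw [hl, inv_mul_cancel₀ hs]
  obtain ⟨r₀, hr₀⟩ := hn
  let Pm : Matrix (Fin n) (Fin n) F := fun a b =>
    if b.val < r₀ then (if a = b ∨ a = b.rev then 1 else 0) else (if a = b.rev then l else if a = b then l * z else 0)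
  have hne : ∀ b : Fin n, b ≠ b.rev := fun b e => by
    have := congrArg Fin.val e; simp only [Fin.val_rev] at this; omega
  have hPP : SUDegree.st σ Pm * Pm = revJ n F := by
    ext a b
    rw [Matrix.mul_apply, Fintype.sum_eq_add b b.rev (hne b)]
    swap
    · rintro k ⟨h1, h3⟩
      simp [Pm, h1, h3]
    simp only [SUDegree.st, Matrix.transpose_apply, Matrix.map_apply, revJ]
    have ha := hne a
    have hb := hne b
    have hl2 : σ l * (1 + σ z) = 1 := by
      have := congrArg σ hl1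
      simpa [map_mul, map_add] using this
    have hlow : ∀ c : Fin n, c.val < r₀ ↔ ¬ c.rev.val < r₀ := fun c => by simp only [Fin.val_rev]; omega
    have hne2 : ∀ c : Fin n, (c.rev = c) = False := fun c => eq_false (hne c).symm
    have hne3 : ∀ c : Fin n, (c = c.rev) = False := fun c => eq_false (hne c)
    by_cases hab : a = b
    · subst hab
      rw [if_neg ha]
      by_cases h : a.val < r₀
      · simp [Pm, h]
        linear_combination h2
      · simp [Pm, h, hne2, hne3]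
        linear_combination (σ l * l) * hz + (σ l * l) * h2
    by_cases hab' : b = a.rev
    · subst hab'
      rw [if_pos rfl]
      by_cases h : a.val < r₀
      · have h' : ¬ a.rev.val < r₀ := (hlow a).1 h
        simp [Pm, h, h', hne2, hne3, -Fin.val_rev]
        linear_combination hl1
      · have h' : a.rev.val < r₀ := not_not.1 fun hh => h ((hlow a).2 hh)
        simp [Pm, h, h', hne2, hne3, map_mul, -Fin.val_rev]
        linear_combination hl2
    have h1 : b ≠ a ∧ b ≠ a.rev ∧ b.rev ≠ a ∧ b.rev ≠ a.rev :=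
      ⟨Ne.symm hab, hab', fun e => hab' (by rw [← e, Fin.rev_rev]), fun e => hab (Fin.rev_injective e).symm⟩
    rw [if_neg hab']
    by_cases h : a.val < r₀ <;> simp [Pm, h, h1.1, h1.2.1, h1.2.2.1, h1.2.2.2]
  have hrr : revJ n F * revJ n F = 1 := by
    ext i j; rw [revJ_mul]; simp [revJ, Matrix.one_apply, eq_comm]
  obtain ⟨P', hP'⟩ : ∃ P', P' = revJ n F * SUDegree.st σ Pm := ⟨_, rfl⟩
  have hP'P : P' * Pm = 1 := by rw [hP', mul_assoc, hPP, hrr]
  have hPP' : Pm * P' = 1 := mul_eq_one_comm.mp hP'P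
  have hdet : ∀ A : Matrix (Fin n) (Fin n) F, (Pm * A * P').det = A.det ∧ (P' * A * Pm).det = A.det := fun A => by
    refine ⟨?_, ?_⟩
    · rw [Matrix.det_mul, Matrix.det_mul, mul_comm Pm.det, mul_assoc, ← Matrix.det_mul, hPP', Matrix.det_one, mul_one]
    · rw [Matrix.det_mul, Matrix.det_mul, mul_comm P'.det, mul_assoc, ← Matrix.det_mul, hP'P, Matrix.det_one, mul_one]
  -- membership in the two groups
  have hSU : ∀ g : SLn, g ∈ Cfsg.SU n F q ↔ SUDegree.st σ (g : Matrix (Fin n) (Fin n) F) * g = 1 := by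
    intro g
    have hf : ∀ a b : Fin n → F, Cfsg.hermForm n F q a b = a ⬝ᵥ fun i => σ (b i) := fun a b => by
      simp only [Cfsg.hermForm, dotProduct, hσq]
    have hM : ∀ u v, Cfsg.hermForm n F q ((g : Matrix (Fin n) (Fin n) F) *ᵥ u) ((g : Matrix (Fin n) (Fin n) F) *ᵥ v) =
        u ⬝ᵥ ((SUDegree.st σ (g : Matrix (Fin n) (Fin n) F) * g).map σ *ᵥ fun i => σ (v i)) := by
      intro u v
      rw [hf, show (fun i => σ (((g : Matrix (Fin n) (Fin n) F) *ᵥ v) i)) =
        (g : Matrix (Fin n) (Fin n) F).map σ *ᵥ fun i => σ (v i) from funext fun i => RingHom.map_mulVec σ _ v i,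
        Matrix.map_mul, show (SUDegree.st σ (g : Matrix (Fin n) (Fin n) F)).map σ = (g : Matrix (Fin n) (Fin n) F)ᵀ by
          ext i j; simp [SUDegree.st, hσ2], Matrix.dotProduct_mulVec, Matrix.dotProduct_mulVec, ← Matrix.vecMul_vecMul,
        Matrix.vecMul_transpose]
    constructor
    · intro hg
      have h1 : (SUDegree.st σ (g : Matrix (Fin n) (Fin n) F) * g).map σ = 1 := by
        ext i j
        have h := hg (Pi.single i 1) (Pi.single j 1)
        change Cfsg.hermForm n F q ((g : Matrix (Fin n) (Fin n) F) *ᵥ _) ((g : Matrix (Fin n) (Fin n) F) *ᵥ _) = _ at h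
        rw [hM, hf] at h
        have e : (fun k => σ ((Pi.single j 1 : Fin n → F) k)) = Pi.single j 1 :=
          funext fun k => by by_cases hk : k = j <;> simp [Pi.single_apply, hk]
        rw [e, Matrix.mulVec_single_one, single_dotProduct, one_mul, single_dotProduct, one_mul] at h
        simp only [Matrix.col_apply] at h
        rw [h, Pi.single_apply, Matrix.one_apply]
      have := congrArg (fun A => A.map σ) h1
      simp only [Matrix.map_map] at this
      rw [show (⇑σ ∘ ⇑σ) = id from funext hσ2, Matrix.map_id, Matrix.map_one _ (map_zero σ) (map_one σ)] at this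
      exact this
    · intro hg u v
      show Cfsg.hermForm n F q ((g : Matrix (Fin n) (Fin n) F) *ᵥ u) ((g : Matrix (Fin n) (Fin n) F) *ᵥ v) = _
      rw [hM, hg, Matrix.map_one _ (map_zero σ) (map_one σ), Matrix.one_mulVec, hf]
  have key : ∀ A : Matrix (Fin n) (Fin n) F, SUDegree.st σ (Pm * A * P') * (Pm * A * P') =
      SUDegree.st σ P' * (SUDegree.st σ A * revJ n F * A) * P' := fun A => by
    rw [← hPP, SUDegree.st_mul, SUDegree.st_mul]; simp only [mul_assoc]
  have hone : SUDegree.st σ P' * revJ n F * P' = 1 := by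
    rw [← hPP, show SUDegree.st σ P' * (SUDegree.st σ Pm * Pm) * P' = (SUDegree.st σ P' * SUDegree.st σ Pm) * (Pm * P') by
      simp only [mul_assoc], ← SUDegree.st_mul, hPP', SUDegree.st_one, one_mul]
  have hto : ∀ g : Fix (n := n) σ, (⟨Pm * ((g : SLn) : Matrix (Fin n) (Fin n) F) * P',
      (hdet _).1.trans (g : SLn).2⟩ : SLn) ∈ Cfsg.SU n F q := fun g => (hSU _).2 (by
    show SUDegree.st σ _ * _ = 1
    rw [key, (mem_fix_iff σ hσ2).1 g.2, hone])
  have hfrom : ∀ g : Cfsg.SU n F q, (⟨P' * ((g : SLn) : Matrix (Fin n) (Fin n) F) * Pm,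
      (hdet _).2.trans (g : SLn).2⟩ : SLn) ∈ Fix (n := n) σ := fun g => (mem_fix_iff σ hσ2).2 (by
    obtain ⟨A, hA⟩ : ∃ A, A = ((g : SLn) : Matrix (Fin n) (Fin n) F) := ⟨_, rfl⟩
    show SUDegree.st σ (P' * ((g : SLn) : Matrix (Fin n) (Fin n) F) * Pm) * revJ n F *
      (P' * ((g : SLn) : Matrix (Fin n) (Fin n) F) * Pm) = revJ n F
    rw [← hA, SUDegree.st_mul, SUDegree.st_mul,
      show SUDegree.st σ Pm * (SUDegree.st σ A * SUDegree.st σ P') * revJ n F * (P' * A * Pm) =
        SUDegree.st σ Pm * (SUDegree.st σ A * (SUDegree.st σ P' * revJ n F * P') * A) * Pm by simp only [mul_assoc],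
      hone, mul_one, hA, (hSU _).1 g.2, mul_one, hPP])
  refine ⟨{
    toFun := fun g => ⟨_, hto g⟩
    invFun := fun g => ⟨_, hfrom g⟩
    left_inv := fun g => Subtype.ext (Subtype.ext ?_)
    right_inv := fun g => Subtype.ext (Subtype.ext ?_)
    map_mul' := fun g h => Subtype.ext (Subtype.ext ?_) }⟩
  · show P' * (Pm * ((g : SLn) : Matrix (Fin n) (Fin n) F) * P') * Pm = _
    rw [show P' * (Pm * ((g : SLn) : Matrix (Fin n) (Fin n) F) * P') * Pm =
      (P' * Pm) * (g : SLn) * (P' * Pm) by simp only [mul_assoc], hP'P, one_mul, mul_one]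
  · show Pm * (P' * ((g : SLn) : Matrix (Fin n) (Fin n) F) * Pm) * P' = _
    rw [show Pm * (P' * ((g : SLn) : Matrix (Fin n) (Fin n) F) * Pm) * P' =
      (Pm * P') * (g : SLn) * (Pm * P') by simp only [mul_assoc], hPP', one_mul, mul_one]
  · show Pm * (((g : SLn) * (h : SLn) : SLn) : Matrix (Fin n) (Fin n) F) * P' =
      (Pm * ((g : SLn) : Matrix (Fin n) (Fin n) F) * P') * (Pm * ((h : SLn) : Matrix (Fin n) (Fin n) F) * P')
    rw [Matrix.SpecialLinearGroup.coe_mul, show Pm * ((g : SLn) : Matrix (Fin n) (Fin n) F) * P' *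
      (Pm * ((h : SLn) : Matrix (Fin n) (Fin n) F) * P') =
      Pm * ((g : SLn) : Matrix (Fin n) (Fin n) F) * (P' * Pm) * (h : SLn) * P' by simp only [mul_assoc], hP'P, mul_one]
    simp only [mul_assoc]

end Twisted

end Cfsg.Lib.Linear.Pronormal
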