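import Cfsg.Agent.Lib.Linear.Pronormal.Good
import Cfsg.Agent.Lib.Linear.HermStandard
import Cfsg.Agent.S1218
import Cfsg.Agent.S0261

/-!
# Iterated wreath products inside unitary groups in odd characteristic

The determinants of these groups form the group `C` of two power roots of unity of norm one.
-/

set_option autoImplicit false

namespace Cfsg.Lib.Linear.Pronormal.UOdd

open Module

variable {F : Type*} [Field F] [Fintype F]

section Abstract

variable {U : Type*} [AddCommGroup U] [Module F U]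

/-- A `2`-subgroup of `GL U` behaving like a Sylow `2`-subgroup of a unitary group. -/
structure UGood (C : Subgroup Fˣ) (W : Subgroup (U ≃ₗ[F] U)) : Prop where
  two : IsPGroup 2 W
  detC : ∀ g ∈ W, LinearEquiv.det g ∈ C
  detSurj : ∀ c ∈ C, ∃ g ∈ W, LinearEquiv.det g = c
  irr : Irr (W : Set (U ≃ₗ[F] U))
  sq : ∃ a ∈ W, a * a ≠ 1
  scalar : ∀ x : U ≃ₗ[F] U, Odd (orderOf x) → (∀ g ∈ W, x * g * x⁻¹ ∈ W) → IsScalar x

/-- The additional properties in even dimension. -/
structure UGoodTwo (C : Subgroup Fˣ) (W : Subgroup (U ≃ₗ[F] U)) : Prop extends UGood C W where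
  irrSq : Irr {g : U ≃ₗ[F] U | g ∈ W ∧ ∃ d ∈ C, LinearEquiv.det g = d * d}
  sqOne : ∃ c ∈ W, LinearEquiv.det c = 1 ∧ c * c ≠ 1

variable {C : Subgroup Fˣ} [Nontrivial U] [Finite U]

theorem isPGroup_wr {W : Subgroup (U ≃ₗ[F] U)} (h : UGood C W) : IsPGroup 2 (wr W) := by
  haveI := finite_aut' (F := F) (U := U)
  obtain ⟨e, he⟩ := (IsPGroup.iff_card (p := 2)).1 h.two
  exact IsPGroup.of_card (n := e + e + 1) (by rw [card_wr, he, ← pow_mul, ← pow_succ']; congr 1; omega)
where
  finite_aut' {F : Type _} [Field F] {U : Type _} [AddCommGroup U] [Module F U] [Finite U] : Finite (U ≃ₗ[F] U) :=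
    Finite.of_injective _ DFunLike.coe_injective

theorem exists_swap_det {W : Subgroup (U ≃ₗ[F] U)} (h : UGood C W) (hC : (-1 : Fˣ) ∈ C) :
    ∃ p ∈ W, LinearEquiv.det (pr (p, 1) * sigma) = 1 := by
  haveI : FiniteDimensional F U := Module.Finite.of_finite
  have hs : LinearEquiv.det (sigma : (U × U) ≃ₗ[F] (U × U)) ∈ C := by
    have h1 : LinearEquiv.det (sigma : (U × U) ≃ₗ[F] (U × U)) * LinearEquiv.det (sigma : (U × U) ≃ₗ[F] (U × U)) = 1 := by
      rw [← map_mul, sigma_mul_self, map_one]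
    have h2 : (((LinearEquiv.det (sigma : (U × U) ≃ₗ[F] (U × U))) : Fˣ) : F) *
        (((LinearEquiv.det (sigma : (U × U) ≃ₗ[F] (U × U))) : Fˣ) : F) = 1 := by
      rw [← Units.val_mul, h1, Units.val_one]
    rcases mul_self_eq_one_iff.1 h2 with e | e
    · rw [Units.val_eq_one] at e; rw [e]; exact one_mem _
    · rw [show LinearEquiv.det (sigma : (U × U) ≃ₗ[F] (U × U)) = -1 from Units.ext (by simpa using e)]; exact hC
  obtain ⟨p, hp, hpd⟩ := h.detSurj _ (inv_mem hs)
  exact ⟨p, hp, by rw [map_mul, det_pr', hpd, map_one, mul_one, inv_mul_cancel]⟩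
where
  det_pr' {F : Type _} [Field F] {U : Type _} [AddCommGroup U] [Module F U] [FiniteDimensional F U]
      (a b : U ≃ₗ[F] U) : LinearEquiv.det (pr (a, b)) = LinearEquiv.det a * LinearEquiv.det b :=
    Units.ext (by
      rw [Units.val_mul, LinearEquiv.coe_det, LinearEquiv.coe_det, LinearEquiv.coe_det,
        show ((pr (a, b) : (U × U) ≃ₗ[F] (U × U)) : (U × U) →ₗ[F] (U × U)) =
          LinearMap.prodMap (a : U →ₗ[F] U) (b : U →ₗ[F] U) from rfl, LinearMap.det_prodMap])

/-- **The inductive step.** -/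
theorem ugood_wr {W : Subgroup (U ≃ₗ[F] U)} (h : UGood C W) (hC : (-1 : Fˣ) ∈ C) : UGoodTwo C (wr W) := by
  haveI := isPGroup_wr.finite_aut' (F := F) (U := U)
  haveI := isPGroup_wr.finite_aut' (F := F) (U := U × U)
  haveI : FiniteDimensional F U := Module.Finite.of_finite
  have dp := fun a b : U ≃ₗ[F] U => exists_swap_det.det_pr' a b
  obtain ⟨a, ha, ha2⟩ := h.sq
  obtain ⟨p, hp, hpd⟩ := exists_swap_det h hC
  have hirrSq : Irr {g : (U × U) ≃ₗ[F] (U × U) | g ∈ wr W ∧ ∃ d ∈ C, LinearEquiv.det g = d * d} := by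
    refine irr_of_swap (c := a * a) ha2 ⟨pr_mem_wr (mul_mem ha ha) (one_mem _), LinearEquiv.det a, h.detC a ha, ?_⟩
      ?_ ?_ (p := p) (q := 1) ⟨swap_mem_wr hp (one_mem _), 1, one_mem _, by rw [hpd, one_mul]⟩
    · rw [dp, map_one, mul_one, map_mul]
    · exact h.irr.mono fun g hg => ⟨g, pr_mem_wr hg hg, _, h.detC g hg, dp g g⟩
    · exact h.irr.mono fun g hg => ⟨g, pr_mem_wr hg hg, _, h.detC g hg, dp g g⟩
  refine { two := isPGroup_wr h, detC := ?_, detSurj := ?_, irr := hirrSq.mono fun g hg => hg.1,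
           sq := ⟨pr (a, 1), pr_mem_wr ha (one_mem _), ?_⟩, scalar := ?_, irrSq := hirrSq, sqOne := ?_ }
  · rintro g ⟨b, hb, c, hc, rfl | rfl⟩
    · rw [dp]; exact mul_mem (h.detC b hb) (h.detC c hc)
    · rw [map_mul, dp]
      refine mul_mem (mul_mem (h.detC b hb) (h.detC c hc)) ?_
      rw [map_mul, dp, map_one, mul_one] at hpd
      rw [eq_inv_of_mul_eq_one_right hpd]
      exact inv_mem (h.detC p hp)
  · intro c hc
    obtain ⟨g, hg, hgd⟩ := h.detSurj c hc
    exact ⟨pr (g, 1), pr_mem_wr hg (one_mem _), by rw [dp, hgd, map_one, mul_one]⟩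
  · rw [← map_mul]
    intro he
    exact ha2 (congrArg Prod.fst (pr_injective (he.trans (map_one pr).symm)))
  · intro x hx hn
    refine scalar_of_normalizes (isPGroup_wr h) h.scalar h.irr le_rfl (p := 1) (q := 1) (one_mem _) (one_mem _)
      (swap_mem_wr (one_mem _) (one_mem _)) (fun g hg => ⟨1, one_mem _, pr_mem_wr hg (one_mem _)⟩)
      ⟨a, ha, 1, one_mem _, pr_mem_wr ha (one_mem _), ha2, one_mul 1⟩ (fun L hL _ hprod hswap => h.irr.mono ?_) hx hn
    intro b hb
    exact kernel_le_proj (one_mem _) (fun g hg => ⟨1, one_mem _, pr_mem_wr hg (one_mem _)⟩) hL hprod hswap hb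
      (pr_mem_wr (one_mem _) hb)
  · obtain ⟨b, hb, hbd⟩ := h.detSurj _ (inv_mem (h.detC a ha))
    refine ⟨pr (a, b), pr_mem_wr ha hb, by rw [dp, hbd, mul_inv_cancel], ?_⟩
    rw [← map_mul]
    intro he
    exact ha2 (congrArg Prod.fst (pr_injective (he.trans (map_one pr).symm)))

/-- **Only scalars of odd order normalise the determinant one part.** -/
theorem scalar_det {W : Subgroup (U ≃ₗ[F] U)} (h : UGoodTwo C W) (hC : (-1 : Fˣ) ∈ C)
    {x : (U × U) ≃ₗ[F] (U × U)} (hx : Odd (orderOf x))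
    (hn : ∀ g ∈ wr W, LinearEquiv.det g = 1 → x * g * x⁻¹ ∈ wr W) : IsScalar x := by
  haveI := isPGroup_wr.finite_aut' (F := F) (U := U)
  haveI := isPGroup_wr.finite_aut' (F := F) (U := U × U)
  haveI : FiniteDimensional F U := Module.Finite.of_finite
  have dp := fun a b : U ≃ₗ[F] U => exists_swap_det.det_pr' a b
  let S : Subgroup ((U × U) ≃ₗ[F] (U × U)) := wr W ⊓ LinearEquiv.det.ker
  obtain ⟨p, hp, hpd⟩ := exists_swap_det h.toUGood hC
  have hfull : ∀ g ∈ W, ∃ b ∈ W, pr (g, b) ∈ S := fun g hg => by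
    obtain ⟨b, hb, hbd⟩ := h.detSurj _ (inv_mem (h.detC g hg))
    exact ⟨b, hb, pr_mem_wr hg hb, by show LinearEquiv.det (pr (g, b)) = 1; rw [dp, hbd, mul_inv_cancel]⟩
  obtain ⟨c, hc, hcd, hc2⟩ := h.sqOne
  refine scalar_of_normalizes (isPGroup_wr h.toUGood) h.scalar h.irr (S := S) inf_le_left (p := p) (q := 1) hp
    (one_mem _) ⟨swap_mem_wr hp (one_mem _), hpd⟩ hfull
    ⟨c, hc, 1, one_mem _, ⟨pr_mem_wr hc (one_mem _), by
      show LinearEquiv.det (pr (c, 1)) = 1; rw [dp, hcd, map_one, mul_one]⟩, hc2, one_mul 1⟩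
    (fun L hL hsqL hprod hswap => h.irrSq.mono ?_) hx (fun g hg => ⟨hn g hg.1 hg.2, ?_⟩)
  · rintro b ⟨hb, d, hdC, hd⟩
    obtain ⟨e, he, hed⟩ := h.detSurj d hdC
    have hker : ∃ c', pr (b * (e * e)⁻¹, c') ∈ L := by
      refine kernel_le_proj hp hfull hL hprod hswap (mul_mem hb (inv_mem (mul_mem he he)))
        ⟨pr_mem_wr (one_mem _) (mul_mem hb (inv_mem (mul_mem he he))), ?_⟩
      show LinearEquiv.det (pr (1, b * (e * e)⁻¹)) = 1
      rw [dp, map_one, one_mul, map_mul, map_inv, map_mul, hed, hd, mul_inv_cancel]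
    obtain ⟨c', hc'⟩ := hker
    obtain ⟨e', he', heS⟩ := hfull e he
    refine ⟨c' * (e' * e'), ?_⟩
    have := mul_mem hc' (hsqL e he e' he' heS)
    rw [← map_mul, ← map_mul] at this
    simpa [mul_assoc] using this
  · show LinearEquiv.det (x * g * x⁻¹) = 1
    rw [map_mul, map_mul, map_inv, (hg.2 : LinearEquiv.det g = 1), mul_one, mul_inv_cancel]

end Abstract

/-- An odd order automorphism of a semidihedral group centralises it. -/
theorem sd_commute {G : Type*} [Group G] [Finite G] {W : Subgroup G} {n : ℕ} (hn : 3 ≤ n) {x y z : G}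
    (hx : orderOf x = 2 ^ n) (hxW : x ∈ W) (hyW : y ∈ W) (hy : y * y = 1)
    (hxy : y * x * y⁻¹ = x ^ (2 ^ (n - 1) - 1)) (hcard : Nat.card W = 2 ^ (n + 1))
    (hz : Odd (orderOf z)) (hnz : ∀ g ∈ W, z * g * z⁻¹ ∈ W) : Commute z x ∧ Commute z y := by
  let C : Subgroup G := Subgroup.zpowers x
  have hCW : C ≤ W := (Subgroup.zpowers_le).2 hxW
  obtain ⟨j, hj⟩ : ∃ j, n = j + 3 := ⟨n - 3, by omega⟩
  have hpow1 : 2 ^ (n - 1) = 2 ^ j * 4 := by rw [show n - 1 = j + 2 by omega, pow_add]; rfl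
  have hpow : 2 ^ n = 2 ^ j * 8 := by rw [hj, pow_add]; rfl
  have hjpos : 1 ≤ 2 ^ j := Nat.one_le_two_pow
  have hne : ∀ i : ℕ, 0 < i → i < 2 ^ n → x ^ i ≠ 1 := fun i hi hi' h => by
    have := Nat.le_of_dvd hi (hx ▸ orderOf_dvd_of_pow_eq_one h)
    omega
  have hyC : y ∉ C := by
    intro h
    have hc : Commute y x := by
      obtain ⟨i, hi⟩ := Subgroup.mem_zpowers_iff.1 h
      rw [← hi]; exact (Commute.refl x).zpow_left i
    rw [hc.eq, mul_inv_cancel_right] at hxy
    refine hne (2 ^ (n - 1) - 2) (by omega) (by omega) ((mul_eq_right (b := x)).1 ?_)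
    rw [← pow_succ, show 2 ^ (n - 1) - 2 + 1 = 2 ^ (n - 1) - 1 by omega]
    exact hxy.symm
  have hidx : (C.subgroupOf W).index = 2 := by
    have h := Subgroup.card_mul_index (C.subgroupOf W)
    rw [Nat.card_congr (Subgroup.subgroupOfEquivOfLe hCW).toEquiv, hcard, Nat.card_zpowers, hx, pow_succ] at h
    exact Nat.eq_of_mul_eq_mul_left (by positivity) h
  have hsplit : ∀ g ∈ W, g ∉ C → y * g ∈ C := fun g hg hgC => by
    have h := Subgroup.mul_mem_iff_of_index_two hidx (a := (⟨y, hyW⟩ : W)) (b := ⟨g, hg⟩)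
    simp only [Subgroup.mem_subgroupOf, Subgroup.coe_mul] at h
    exact h.2 (iff_of_false hyC hgC)
  have hord : ∀ g ∈ W, g ∉ C → g ^ 4 = 1 := by
    intro g hg hgC
    obtain ⟨i, hi⟩ := Subgroup.mem_zpowers_iff.1 (hsplit g hg hgC)
    have hg' : g = y * x ^ i := by rw [hi, ← mul_assoc, hy, one_mul]
    have hconj : y * x ^ i * y⁻¹ = x ^ (((2 ^ (n - 1) - 1 : ℕ) : ℤ) * i) := by
      rw [← conj_zpow, hxy, ← zpow_natCast, ← zpow_mul]
    have hy' : y⁻¹ = y := inv_eq_of_mul_eq_one_right hy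
    rw [hy'] at hconj
    have hsq : g ^ 2 = x ^ (((2 ^ (n - 1) : ℕ) : ℤ) * i) := by
      rw [hg', pow_two, show y * x ^ i * (y * x ^ i) = (y * x ^ i * y) * x ^ i by group, hconj, ← zpow_add]
      congr 1
      rw [Nat.cast_sub (Nat.one_le_two_pow)]
      push_cast
      ring
    rw [show (4 : ℕ) = 2 * 2 from rfl, pow_mul, hsq, pow_two, ← zpow_add, ← add_mul, ← Nat.cast_add,
      show 2 ^ (n - 1) + 2 ^ (n - 1) = orderOf x by rw [hx]; omega, zpow_mul, zpow_natCast, pow_orderOf_eq_one, one_zpow]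
  have hzord : z ^ orderOf z = 1 := pow_orderOf_eq_one z
  have hzx : z * x * z⁻¹ = x := by
    obtain ⟨i, hi⟩ : ∃ i : ℕ, x ^ i = z * x * z⁻¹ := by
      refine (mem_powers_iff_mem_zpowers.2 ?_)
      by_contra hno
      have h4 := hord _ (hnz x hxW) hno
      rw [conj_pow, mul_inv_eq_one] at h4
      exact hne 4 (by norm_num) (by omega) (mul_left_cancel (h4.trans (mul_one z).symm))
    have hit : ∀ k : ℕ, z ^ k * x * (z ^ k)⁻¹ = x ^ i ^ k := by
      intro k
      induction k with
      | zero => simp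
      | succ k ih =>
        rw [pow_succ' z, show z * z ^ k * x * (z * z ^ k)⁻¹ = z * (z ^ k * x * (z ^ k)⁻¹) * z⁻¹ by group, ih,
          ← conj_pow, ← hi, ← pow_mul, ← pow_succ']
    have h1 := hit (orderOf z)
    rw [hzord, one_mul, inv_one, mul_one] at h1
    have hmod : 1 ≡ i ^ orderOf z [MOD 2 ^ n] := by
      rw [← hx]; exact pow_eq_pow_iff_modEq.1 (by rw [pow_one]; exact h1)
    haveI : NeZero (2 ^ n) := ⟨by positivity⟩
    have hiu : (i : ZMod (2 ^ n)) ^ orderOf z = 1 := by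
      have := (ZMod.natCast_eq_natCast_iff _ _ _).2 hmod
      push_cast at this
      exact this.symm
    obtain ⟨u, hu⟩ := IsUnit.of_pow_eq_one hiu (orderOf_pos z).ne'
    have hu1 : u = 1 := by
      refine eq_one_of_two_power (n - 1) ?_ hz (Units.ext (by rw [Units.val_pow_eq_pow_val, hu, hiu, Units.val_one]))
      have := ZMod.pow_totient u
      rwa [Nat.totient_prime_pow Nat.prime_two (by omega), show (2 - 1 : ℕ) = 1 from rfl, mul_one] at this
    have hmod' : i ≡ 1 [MOD 2 ^ n] := by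
      rw [← ZMod.natCast_eq_natCast_iff, Nat.cast_one, ← hu, hu1, Units.val_one]
    rw [← hi]
    conv_rhs => rw [← pow_one x]
    exact pow_eq_pow_iff_modEq.2 (hx ▸ hmod')
  have hzc : Commute z x := mul_inv_eq_iff_eq_mul.1 hzx
  refine ⟨hzc, ?_⟩
  have hnot : z * y * z⁻¹ ∉ C := by
    intro h
    obtain ⟨i, hi⟩ := Subgroup.mem_zpowers_iff.1 h
    refine hyC (Subgroup.mem_zpowers_iff.2 ⟨i, ?_⟩)
    have h' : z * y * z⁻¹ = z * x ^ i * z⁻¹ := by rw [(hzc.zpow_right i).eq, mul_inv_cancel_right, hi]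
    exact (mul_left_cancel (mul_right_cancel h')).symm
  obtain ⟨i, hi⟩ := mem_powers_iff_mem_zpowers.2 (hsplit _ (hnz y hyW) hnot)
  change x ^ i = y * (z * y * z⁻¹) at hi
  have himg : z * y * z⁻¹ = y * x ^ i := by rw [hi, ← mul_assoc, hy, one_mul]
  have hit : ∀ k : ℕ, z ^ k * y * (z ^ k)⁻¹ = y * x ^ (i * k) := by
    intro k
    induction k with
    | zero => simp
    | succ k ih =>
      rw [pow_succ' z, show z * z ^ k * y * (z * z ^ k)⁻¹ = z * (z ^ k * y * (z ^ k)⁻¹) * z⁻¹ by group, ih,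
        show z * (y * x ^ (i * k)) * z⁻¹ = (z * y * z⁻¹) * (z * x ^ (i * k) * z⁻¹) by group,
        (hzc.pow_right _).eq, mul_inv_cancel_right, himg, mul_assoc, ← pow_add]
      congr 2
      ring
  have h1 := hit (orderOf z)
  rw [hzord, one_mul, inv_one, mul_one] at h1
  have hxi : x ^ i = 1 := by
    refine eq_one_of_two_power n ?_ hz ?_
    · rw [← pow_mul, mul_comm, pow_mul, ← hx, pow_orderOf_eq_one, one_pow]
    · rw [← pow_mul]; exact mul_eq_left.1 h1.symm
  rw [hxi, mul_one] at himg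
  exact mul_inv_eq_iff_eq_mul.1 himg

section Plane

variable {U : Type*} [AddCommGroup U] [Module F U] [FiniteDimensional F U]

/-- Two non-commuting elements of a `2`-group leave no line of a plane invariant. -/
theorem irr_plane (h2 : finrank F U = 2) (hchar : (2 : F) ≠ 0) {S : Subgroup (U ≃ₗ[F] U)} (hS : IsPGroup 2 S)
    {a b : U ≃ₗ[F] U} (ha : a ∈ S) (hb : b ∈ S) (hab : a * b ≠ b * a) {T : Set (U ≃ₗ[F] U)} (haT : a ∈ T)
    (hbT : b ∈ T) : Irr T := by
  intro A hA
  by_contra hcon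
  push Not at hcon
  obtain ⟨v, hv, hv0⟩ := Submodule.exists_mem_ne_zero_of_ne_bot hcon.1
  obtain ⟨u, -, hu⟩ := SetLike.exists_of_lt (lt_top_iff_ne_top.2 hcon.2)
  have hA1 : Module.finrank F A = 1 := by
    have := Submodule.finrank_lt hcon.2
    have h : Module.finrank F A ≠ 0 := fun h => hcon.1 (Submodule.finrank_eq_zero.1 h)
    omega
  have hAv : A = Submodule.span F {v} := (Submodule.eq_of_le_of_finrank_eq
    ((Submodule.span_singleton_le_iff_mem v A).2 hv) (by rw [finrank_span_singleton hv0, hA1])).symm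
  have hind : LinearIndependent F ![v, u] := by
    rw [LinearIndependent.pair_iff' hv0]
    intro c hc
    exact hu (hc ▸ A.smul_mem c hv)
  have hspan : ∀ w : U, ∃ s t : F, w = s • v + t • u := by
    intro w
    have : w ∈ Submodule.span F (Set.range ![v, u]) := by
      rw [hind.span_eq_top_of_card_eq_finrank (by simp [h2])]; trivial
    rw [Matrix.range_cons, Matrix.range_cons, Matrix.range_empty, Set.union_empty,
      Set.singleton_union, Submodule.mem_span_pair] at this
    obtain ⟨s, t, h⟩ := this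
    exact ⟨s, t, h.symm⟩
  have hline : ∀ g ∈ T, (∃ l : F, g v = l • v) ∧ ∃ s m : F, g u = s • v + m • u := fun g hg => by
    refine ⟨?_, hspan (g u)⟩
    have := hA g hg v hv
    rw [hAv, Submodule.mem_span_singleton] at this
    obtain ⟨l, hl⟩ := this
    exact ⟨l, hl.symm⟩
  obtain ⟨⟨l, hl⟩, s, m, hm⟩ := hline a haT
  obtain ⟨⟨l', hl'⟩, s', m', hm'⟩ := hline b hbT
  obtain ⟨c, hc⟩ : ∃ c : U ≃ₗ[F] U, c = (a * b) * (b * a)⁻¹ := ⟨_, rfl⟩
  have hcv : c v = v ∧ ∃ r : F, c u = r • v + u := by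
    have hbv : (b * a) v = (l * l') • v := by
      rw [LinearEquiv.mul_apply, hl, map_smul, hl', smul_smul]
    have hav : (a * b) v = (l * l') • v := by
      rw [LinearEquiv.mul_apply, hl', map_smul, hl, smul_smul, mul_comm]
    have hce : ∀ w, c ((b * a) w) = (a * b) w := fun w => by
      rw [hc, LinearEquiv.mul_apply]
      exact congrArg (a * b) ((b * a).symm_apply_apply w)
    have hll : l * l' ≠ 0 := fun h => hv0 ((b * a).injective (by rw [hbv, h, zero_smul, map_zero]))
    have hcv' : c v = v := by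
      have h1 := hce v
      rw [hbv, hav, map_smul] at h1
      exact smul_right_injective U hll h1
    refine ⟨hcv', ?_⟩
    have hbu : (b * a) u = (s * l' + m * s') • v + (m * m') • u := by
      rw [LinearEquiv.mul_apply, hm, map_add, map_smul, map_smul, hl', hm']; module
    have hau : (a * b) u = (s' * l + m' * s) • v + (m * m') • u := by
      rw [LinearEquiv.mul_apply, hm', map_add, map_smul, map_smul, hl, hm]; module
    have hmm : m * m' ≠ 0 := fun h => by
      rw [h, zero_smul, add_zero] at hbu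
      have hzero : (b * a) ((l * l') • u - (s * l' + m * s') • v) = 0 := by
        rw [map_sub, map_smul, map_smul, hbu, hbv]; module
      have h2' := (b * a).injective (hzero.trans (map_zero _).symm)
      have := LinearIndependent.pair_iff.1 hind (-(s * l' + m * s')) (l * l') (by rw [neg_smul]; rw [sub_eq_add_neg, add_comm] at h2'; exact h2')
      exact hll this.2
    refine ⟨(m * m')⁻¹ * ((s' * l + m' * s) - (s * l' + m * s')), ?_⟩
    have h1 := hce u
    rw [hbu, hau, map_add, map_smul, map_smul, hcv'] at h1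
    have h3 : (m * m') • c u = ((s' * l + m' * s) - (s * l' + m * s')) • v + (m * m') • u := by
      rw [sub_smul, sub_add_eq_add_sub, ← h1]; abel
    calc c u = (m * m')⁻¹ • ((m * m') • c u) := by rw [smul_smul, inv_mul_cancel₀ hmm, one_smul]
      _ = _ := by rw [h3, smul_add, smul_smul, smul_smul, inv_mul_cancel₀ hmm, one_smul]
  obtain ⟨hcv, r, hcu⟩ := hcv
  obtain ⟨k, hk⟩ := hS ⟨c, hc ▸ mul_mem (mul_mem ha hb) (inv_mem (mul_mem hb ha))⟩
  have hk' : c ^ 2 ^ k = 1 := congrArg Subtype.val hk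
  have hiter : ∀ j : ℕ, (c ^ j) u = ((j : F) * r) • v + u := by
    intro j
    induction j with
    | zero => simp
    | succ j ih =>
      rw [pow_succ', LinearEquiv.mul_apply, ih, map_add, map_smul, hcv, hcu, Nat.cast_succ]
      module
  have hr : r = 0 := by
    have h := hiter (2 ^ k)
    rw [hk'] at h
    have h' : (((2 : ℕ) ^ k : ℕ) : F) * r = 0 :=
      (smul_eq_zero.1 (add_eq_right.1 h.symm)).resolve_right hv0
    refine (mul_eq_zero.1 h').resolve_left ?_
    rw [Nat.cast_pow]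
    exact pow_ne_zero _ hchar
  have hc1 : c = 1 := LinearEquiv.ext fun w => by
    obtain ⟨p, t, rfl⟩ := hspan w
    rw [map_add, map_smul, map_smul, hcv, hcu, hr]
    simp
  exact hab (mul_inv_eq_one.1 (hc ▸ hc1))

/-- The centraliser of two non-commuting elements of a plane. -/
theorem scalar_plane (h2 : finrank F U = 2) {x y z : U ≃ₗ[F] U} (hxy : y * x ≠ x * y) (hzx : Commute z x)
    (hzy : Commute z y) : IsScalar z := by
  haveI : Nontrivial U := Module.nontrivial_of_finrank_eq_succ h2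
  obtain ⟨v, hind⟩ : ∃ v, LinearIndependent F ![v, x v] := by
    by_contra hcon
    push Not at hcon
    have heig : ∀ v : U, v ≠ 0 → ∃ a : F, x v = a • v := fun v hv => by
      have := hcon v
      rw [LinearIndependent.pair_iff' hv] at this
      push Not at this
      obtain ⟨a, ha⟩ := this
      exact ⟨a, ha.symm⟩
    refine hxy ?_
    let b := Module.finBasisOfFinrankEq F U h2
    obtain ⟨a₀, h0⟩ := heig (b 0) (b.ne_zero 0)
    obtain ⟨a₁, h1⟩ := heig (b 1) (b.ne_zero 1)
    have hpair : LinearIndependent F ![b 0, b 1] := by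
      have := b.linearIndependent
      convert this using 1
      ext i; fin_cases i <;> rfl
    have hsum : b 0 + b 1 ≠ 0 := fun h => one_ne_zero (LinearIndependent.pair_iff.1 hpair 1 1 (by rwa [one_smul, one_smul])).1
    obtain ⟨a, ha⟩ := heig _ hsum
    rw [map_add, h0, h1, smul_add] at ha
    have h' := LinearIndependent.pair_iff.1 hpair (a₀ - a) (a₁ - a) (by
      rw [sub_smul, sub_smul, sub_add_sub_comm, ha, sub_self])
    have hxs : ∀ w, x w = a₀ • w := fun w => by
      rw [← b.sum_repr w, map_sum, Finset.smul_sum]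
      refine Finset.sum_congr rfl fun i _ => ?_
      rw [map_smul, smul_comm]
      congr 1
      fin_cases i
      · exact h0
      · show x (b 1) = a₀ • b 1
        rw [h1, sub_eq_zero.1 h'.1, sub_eq_zero.1 h'.2]
    exact LinearEquiv.ext fun w => by
      rw [LinearEquiv.mul_apply, LinearEquiv.mul_apply, hxs, hxs, map_smul]
  have hspan : ∀ w : U, ∃ a b : F, w = a • v + b • x v := by
    intro w
    have : w ∈ Submodule.span F (Set.range ![v, x v]) := by
      rw [hind.span_eq_top_of_card_eq_finrank (by simp [h2])]; trivial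
    rw [Matrix.range_cons, Matrix.range_cons, Matrix.range_empty, Set.union_empty,
      Set.singleton_union, Submodule.mem_span_pair] at this
    obtain ⟨a, b, h⟩ := this
    exact ⟨a, b, h.symm⟩
  obtain ⟨a, b', hab⟩ := hspan (z v)
  have hcx : ∀ u : U, z (x u) = x (z u) := fun u => LinearEquiv.congr_fun hzx.eq u
  have hcy : ∀ u : U, z (y u) = y (z u) := fun u => LinearEquiv.congr_fun hzy.eq u
  have hform : ∀ u : U, z u = a • u + b' • x u := by
    intro u
    obtain ⟨s, t, rfl⟩ := hspan u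
    rw [map_add, map_smul, map_smul, hcx, hab, map_add, map_add, map_smul, map_smul, map_smul, map_smul]
    module
  refine ⟨a, fun u => ?_⟩
  by_cases hb0 : b' = 0
  · rw [hform, hb0, zero_smul, add_zero]
  exfalso
  refine hxy (LinearEquiv.ext fun w => ?_)
  have h := hcy w
  rw [hform, hform w, map_add, map_smul, map_smul, add_right_inj] at h
  show y (x w) = x (y w)
  exact (smul_right_injective U hb0 h).symm

end Plane

end Cfsg.Lib.Linear.Pronormal.UOdd
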