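import Cfsg.Agent.Lib.Linear.Pronormal.UnitaryGood

/-!
# Sylow `2`-subgroups of `PSU (2 ^ w) q` are self-normalising for `q` odd and `w ≥ 2`
-/

set_option autoImplicit false

namespace Cfsg.Lib.Linear.Pronormal

/-- A quotient by a central subgroup has self-normalising Sylow `2`-subgroups when only central elements of odd
order normalise a Sylow `2`-subgroup. -/
theorem normalizer_quotient_eq {G : Type*} [Group G] [Finite G]
    (h : ∀ Q : Sylow 2 G, ∀ x : G, Odd (orderOf x) → x ∈ Subgroup.normalizer ((Q : Subgroup G) : Set G) →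
      x ∈ Subgroup.center G)
    (P : Sylow 2 (G ⧸ Subgroup.center G)) :
    Subgroup.normalizer ((P : Subgroup (G ⧸ Subgroup.center G)) : Set (G ⧸ Subgroup.center G)) =
      (P : Subgroup (G ⧸ Subgroup.center G)) := by
  classical
  haveI : Fact (Nat.Prime 2) := ⟨Nat.prime_two⟩
  let π := QuotientGroup.mk' (Subgroup.center G)
  have hπ : Function.Surjective π := QuotientGroup.mk'_surjective _
  obtain ⟨Q, hQ⟩ := Sylow.mapSurjective_surjective (hf := hπ) 2 P
  have hPQ : (P : Subgroup (G ⧸ Subgroup.center G)) = (Q : Subgroup G).map π := by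
    rw [← hQ]; exact Sylow.coe_mapSurjective hπ Q
  have hz : ∀ {H : Type _} [Group H] {g : H} {i : ℕ}, g ^ 2 ^ i = 1 → IsPGroup 2 (Subgroup.zpowers g) := by
    intro H _ g i hg
    rintro ⟨w, hw⟩
    obtain ⟨j, rfl⟩ := Subgroup.mem_zpowers_iff.1 hw
    refine ⟨i, Subtype.ext ?_⟩
    show (g ^ j) ^ 2 ^ i = 1
    rw [← zpow_natCast (g ^ j), ← zpow_mul, mul_comm, zpow_mul, zpow_natCast, hg, one_zpow]
  refine le_antisymm (fun u hu => ?_) Subgroup.le_normalizer
  obtain ⟨x, rfl⟩ := hπ u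
  have hxN : x ∈ Subgroup.normalizer ((Q : Subgroup G) : Set G) := by
    have hsub : ∀ y ∈ (Q : Subgroup G), x * y * x⁻¹ ∈ (Q : Subgroup G) := by
      intro y hy
      have h1 : π (x * y * x⁻¹) ∈ (P : Subgroup (G ⧸ Subgroup.center G)) := by
        rw [map_mul, map_mul, map_inv]
        exact (Subgroup.mem_normalizer_iff.1 hu (π y)).1 (hPQ ▸ Subgroup.mem_map_of_mem π hy)
      rw [hPQ] at h1
      obtain ⟨z, hzQ, hzy⟩ := Subgroup.mem_map.1 h1
      have hcen : z⁻¹ * (x * y * x⁻¹) ∈ Subgroup.center G := QuotientGroup.eq.1 hzy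
      have hN : x * y * x⁻¹ ∈ Subgroup.normalizer ((Q : Subgroup G) : Set G) := by
        rw [show x * y * x⁻¹ = z * (z⁻¹ * (x * y * x⁻¹)) by group]
        exact mul_mem (Subgroup.le_normalizer hzQ) (Subgroup.center_le_normalizer _ hcen)
      obtain ⟨i, hi⟩ := Q.2 ⟨y, hy⟩
      have hp := hz (g := x * y * x⁻¹) (i := i)
        (by rw [conj_pow, show y ^ 2 ^ i = 1 from congrArg Subtype.val hi, mul_one, mul_inv_cancel])
      have hsup := hp.to_sup_of_normal_right' Q.2 ((Subgroup.zpowers_le).2 hN)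
      rw [← Q.is_maximal' hsup le_sup_right]
      exact Subgroup.mem_sup_left (Subgroup.mem_zpowers _)
    rw [Subgroup.mem_normalizer_iff]
    intro y
    refine ⟨hsub y, fun hy => ?_⟩
    have heq : (Q : Subgroup G).map (MulAut.conj x).toMonoidHom = (Q : Subgroup G) := by
      refine Subgroup.eq_of_le_of_card_ge (Subgroup.map_le_iff_le_comap.2 hsub) (le_of_eq ?_)
      exact (Subgroup.card_map_of_injective (f := (MulAut.conj x).toMonoidHom) (MulAut.conj x).injective).symm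
    rw [← heq] at hy
    obtain ⟨w, hw, hwe⟩ := Subgroup.mem_map.1 hy
    rwa [← (MulAut.conj x).injective hwe]
  obtain ⟨a, r, hr, hord⟩ := Nat.exists_eq_two_pow_mul_odd (orderOf_pos x).ne'
  have hyo : Odd (orderOf (x ^ 2 ^ a)) := by
    refine hr.of_dvd_nat (orderOf_dvd_of_pow_eq_one ?_)
    rw [← pow_mul, ← hord, pow_orderOf_eq_one]
  have hcen := h Q _ hyo (pow_mem hxN _)
  have hp := hz (g := π x) (i := a) (by rw [← map_pow]; exact (QuotientGroup.eq_one_iff _).2 hcen)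
  have hsup := hp.to_sup_of_normal_right' P.2 ((Subgroup.zpowers_le).2 hu)
  rw [← P.is_maximal' hsup le_sup_right]
  exact Subgroup.mem_sup_left (Subgroup.mem_zpowers _)

namespace UOdd

open Cfsg.Lib.Linear

section Arith

/-- The exponent of two in the order of `GU`. -/
def uExp (q m : ℕ) : ℕ :=
  ∑ j ∈ Finset.range m, padicValNat 2 (if Even j then q ^ (j + 1) + 1 else q ^ (j + 1) - 1)

theorem padic_odd_add {q i : ℕ} (hq : Odd q) (hq1 : 1 < q) (hi : Odd i) :
    padicValNat 2 (q ^ i + 1) = padicValNat 2 (q + 1) := by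
  have hi0 : i ≠ 0 := hi.pos.ne'
  have h1 := padic_even hq hq1 (even_two_mul i) (by omega)
  have hpow : 1 < q ^ i := Nat.one_lt_pow hi0 hq1
  have h2 : q ^ (2 * i) - 1 = (q ^ i + 1) * (q ^ i - 1) := by
    rw [← Nat.sq_sub_sq, one_pow, ← pow_mul, mul_comm 2 i]
  rw [h2, padicValNat.mul (by omega) (by omega), padic_odd hq hq1 hi, padicValNat.mul (by norm_num) hi0,
    padicValNat.self (by norm_num), padicValNat.eq_zero_of_not_dvd (n := i) (by rw [Nat.odd_iff] at hi; omega)] at h1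
  omega

theorem uExp_double {q k : ℕ} (hq : Odd q) (hq1 : 1 < q) (h : 1 ≤ k ∨ q % 4 = 3) :
    uExp q (2 ^ k + 2 ^ k) = uExp q (2 ^ k) + uExp q (2 ^ k) + 1 := by
  obtain ⟨m, hm⟩ : ∃ m, 2 ^ k = m + 1 := ⟨2 ^ k - 1, by have := Nat.one_le_two_pow (n := k); omega⟩
  have hsum : ∑ j ∈ Finset.range (2 ^ k), padicValNat 2 (if Even (2 ^ k + j) then q ^ (2 ^ k + j + 1) + 1
      else q ^ (2 ^ k + j + 1) - 1) = uExp q (2 ^ k) + 1 := by
    rcases Nat.eq_zero_or_pos k with rfl | hk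
    · have h3 : q % 4 = 3 := by omega
      simp only [uExp, pow_zero, Finset.sum_range_one, add_zero, zero_add, pow_one, if_neg (by decide : ¬ Even 1),
        if_pos Even.zero]
      have h2 := padic_even hq hq1 (by decide : Even (1 + 1)) (by norm_num)
      rw [show (1 + 1 : ℕ) = 2 from rfl] at h2 ⊢
      rw [padicValNat.self (by norm_num)] at h2
      have h5 : padicValNat 2 (q - 1) = 1 := by
        obtain ⟨r, hr⟩ : ∃ r, q - 1 = 2 * r ∧ r % 2 = 1 := ⟨(q - 1) / 2, by omega⟩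
        rw [hr.1, padicValNat.mul (by norm_num) (by omega), padicValNat.self (by norm_num),
          padicValNat.eq_zero_of_not_dvd (n := r) (by omega)]
      omega
    have hev : Even (2 ^ k) := Nat.even_pow.2 ⟨even_two, by omega⟩
    have hkey : ∀ j < m, padicValNat 2 (if Even (2 ^ k + j) then q ^ (2 ^ k + j + 1) + 1 else q ^ (2 ^ k + j + 1) - 1) =
        padicValNat 2 (if Even j then q ^ (j + 1) + 1 else q ^ (j + 1) - 1) := by
      intro j hj
      by_cases he : Even j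
      · rw [if_pos he, if_pos (hev.add he), padic_odd_add hq hq1 he.add_one, padic_odd_add hq hq1 (hev.add he).add_one]
      · rw [if_neg he, if_neg (fun h' => he ((Nat.even_add.1 h').1 hev))]
        have hj' : Even (j + 1) := (Nat.not_even_iff_odd.1 he).add_one
        have h1 := padic_even hq hq1 hj' (by omega)
        have h2 := padic_even hq hq1 (hev.add hj') (by omega)
        rw [padic_add_two_pow (k := k) (i := j + 1) (by omega) (by omega)] at h2
        rw [show 2 ^ k + j + 1 = 2 ^ k + (j + 1) by omega]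
        omega
    have hmo : ¬ Even m := fun h' => by
      have := h'.add_one
      rw [← hm] at this
      exact (Nat.not_even_iff_odd.2 this) hev
    have hlast : padicValNat 2 (if Even (2 ^ k + m) then q ^ (2 ^ k + m + 1) + 1 else q ^ (2 ^ k + m + 1) - 1) =
        padicValNat 2 (if Even m then q ^ (m + 1) + 1 else q ^ (m + 1) - 1) + 1 := by
      rw [if_neg hmo, if_neg (fun h' => hmo ((Nat.even_add.1 h').1 hev)), show 2 ^ k + m + 1 = 2 * 2 ^ k by omega, ← hm]
      have h2 := padic_even hq hq1 (even_two_mul (2 ^ k)) (by omega)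
      rw [padicValNat.mul (by norm_num) (by positivity), padicValNat.self (by norm_num)] at h2
      have h3 := padic_even hq hq1 hev (by positivity)
      omega
    rw [uExp]
    conv_lhs => rw [show Finset.range (2 ^ k) = Finset.range (m + 1) by rw [hm]]
    conv_rhs => rw [show Finset.range (2 ^ k) = Finset.range (m + 1) by rw [hm]]
    rw [Finset.sum_range_succ, Finset.sum_range_succ, Finset.sum_congr rfl (fun j hj => hkey j (Finset.mem_range.1 hj)),
      hlast]
    omega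
  rw [uExp, Finset.sum_range_add, hsum]
  rw [uExp]
  omega

end Arith

variable {F : Type*} [Field F] [Fintype F] {q : ℕ}

theorem factorization_GU (hF : Fintype.card F = q ^ 2) (hq : Odd q) (n : ℕ) :
    (Nat.card (Cfsg.GU n F q)).factorization 2 = uExp q n := by
  have hq2 := Herm.two_le_q hF
  have hne : ∀ i ∈ Finset.range n, (if Even i then q ^ (i + 1) + 1 else q ^ (i + 1) - 1) ≠ 0 := fun i _ => by
    split_ifs
    · omega
    · exact (Nat.sub_pos_of_lt (Nat.one_lt_pow (by omega) (by omega))).ne'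
  rw [Herm.card_GU hF, Nat.factorization_mul (by positivity) (Finset.prod_ne_zero_iff.2 hne), Finsupp.add_apply,
    Nat.factorization_eq_zero_of_not_dvd, zero_add, Nat.factorization_prod_apply hne, uExp]
  · exact Finset.sum_congr rfl fun i _ => Nat.factorization_def _ Nat.prime_two
  · have := hq.pow (n := n * (n - 1) / 2)
    rw [Nat.odd_iff] at this
    omega

/-- The two power roots of unity of norm one. -/
noncomputable def normTwo (F : Type*) [Field F] (q : ℕ) : Subgroup Fˣ :=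
  (powMonoidHom (2 ^ (q + 1).factorization 2) : Fˣ →* Fˣ).ker

theorem mem_normTwo {c : Fˣ} : c ∈ normTwo F q ↔ c ^ 2 ^ (q + 1).factorization 2 = 1 := Iff.rfl

theorem norm_of_mem {c : Fˣ} (h : c ∈ normTwo F q) : c ^ (q + 1) = 1 := by
  obtain ⟨r, hr⟩ := Nat.ordProj_dvd (q + 1) 2
  rw [hr, pow_mul, mem_normTwo.1 h, one_pow]

theorem mem_of_two_power {c : Fˣ} {k : ℕ} (hk : c ^ 2 ^ k = 1) (h : c ^ (q + 1) = 1) : c ∈ normTwo F q := by
  obtain ⟨j, -, hj⟩ := (Nat.dvd_prime_pow Nat.prime_two).1 (orderOf_dvd_of_pow_eq_one hk)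
  rw [mem_normTwo, ← orderOf_dvd_iff_pow_eq_one, hj]
  exact pow_dvd_pow 2 ((Nat.prime_two.pow_dvd_iff_le_factorization (Nat.succ_ne_zero q)).1
    (hj ▸ orderOf_dvd_of_pow_eq_one h))

theorem neg_one_mem (hq : Odd q) : (-1 : Fˣ) ∈ normTwo F q :=
  mem_of_two_power (k := 1) (by rw [pow_one]; exact neg_one_sq) (Even.neg_one_pow hq.add_one)

theorem gu_val_det {n : ℕ} (g : GL (Fin n) F) :
    LinearEquiv.det ((LinearMap.GeneralLinearGroup.generalLinearEquiv F (Fin n → F)) (Matrix.GeneralLinearGroup.toLin g)) =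
      Matrix.GeneralLinearGroup.det g := by
  refine Units.ext ?_
  rw [LinearEquiv.coe_det]
  show LinearMap.det (Matrix.toLin' (g : Matrix (Fin n) (Fin n) F)) = _
  rw [LinearMap.det_toLin']
  rfl

/-- The automorphism of the column vectors given by a matrix. -/
noncomputable def toAut (n : ℕ) : GL (Fin n) F →* ((Fin n → F) ≃ₗ[F] (Fin n → F)) :=
  (LinearMap.GeneralLinearGroup.generalLinearEquiv F (Fin n → F)).toMonoidHom.comp
    Matrix.GeneralLinearGroup.toLin.toMonoidHom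

theorem toAut_apply {n : ℕ} (g : GL (Fin n) F) (v : Fin n → F) :
    toAut n g v = (g : Matrix (Fin n) (Fin n) F).mulVec v := rfl

theorem toAut_injective {n : ℕ} : Function.Injective (toAut (F := F) n) :=
  (LinearMap.GeneralLinearGroup.generalLinearEquiv F (Fin n → F)).injective.comp
    Matrix.GeneralLinearGroup.toLin.injective

theorem det_toAut {n : ℕ} (g : GL (Fin n) F) : LinearEquiv.det (toAut n g) = Matrix.GeneralLinearGroup.det g :=
  gu_val_det g

theorem mem_range_toAut {n : ℕ} (g : (Fin n → F) ≃ₗ[F] (Fin n → F)) : ∃ h : GL (Fin n) F, toAut n h = g := by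
  refine ⟨Matrix.GeneralLinearGroup.toLin.symm ((LinearMap.GeneralLinearGroup.generalLinearEquiv F (Fin n → F)).symm g), ?_⟩
  simp [toAut]

universe u

/-- The model in dimension `n`: a space isometric to the standard one with a good group of isometries of full order. -/
def Model (K : Type u) [Field K] [Fintype K] (q n : ℕ) (Good : ∀ {V : Type u} [AddCommGroup V] [Module K V],
    Subgroup Kˣ → Subgroup (V ≃ₗ[K] V) → Prop) : Prop :=
  ∃ (V : Type u) (_ : AddCommGroup V) (_ : Module K V) (e : V ≃ₗ[K] (Fin n → K)) (W : Subgroup (V ≃ₗ[K] V)),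
    Good (normTwo K q) W ∧ (∀ g ∈ W, ∀ a b, Cfsg.hermForm n K q (e (g a)) (e (g b)) = Cfsg.hermForm n K q (e a) (e b)) ∧
      Nat.card W = 2 ^ uExp q n

variable (K : Type u) [Field K] [Fintype K]

theorem model_one (hF : Fintype.card K = q ^ 2) (h3 : q % 4 = 3) : Model K q 1 (fun C W => UGood C W) := by
  classical
  haveI : Finite (K ≃ₗ[K] K) := Finite.of_injective _ DFunLike.coe_injective
  have hinj : Function.Injective (LinearEquiv.det : (K ≃ₗ[K] K) →* Kˣ) := by
    intro f g h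
    have hf : ∀ f : K ≃ₗ[K] K, ((LinearEquiv.det f : Kˣ) : K) = f 1 := fun f => by
      rw [LinearEquiv.coe_det, ← LinearMap.det_toMatrix (Module.Basis.singleton (Fin 1) K), Matrix.det_fin_one,
        LinearMap.toMatrix_apply]
      simp
    refine LinearEquiv.ext fun u => ?_
    rw [show u = u • (1 : K) by simp, map_smul, map_smul, ← hf, ← hf, h]
  have hsur : Function.Surjective (LinearEquiv.det : (K ≃ₗ[K] K) →* Kˣ) := det_surjective
  let W : Subgroup (K ≃ₗ[K] K) := (normTwo K q).comap LinearEquiv.det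
  have hC2 : IsPGroup 2 (normTwo K q) := fun ⟨c, hc⟩ => ⟨_, Subtype.ext (mem_normTwo.1 hc)⟩
  obtain ⟨g, hg⟩ := IsCyclic.exists_ofOrder_eq_natCard (α := Kˣ)
  obtain ⟨r, hr⟩ : 4 ∣ orderOf g := by
    rw [hg, Herm.card_units_sq hF]; exact Dvd.dvd.mul_right (by omega) _
  have h4 : orderOf (g ^ r) = 4 := by
    have hr0 : r ≠ 0 := fun h => (orderOf_pos g).ne' (by rw [hr, h, mul_zero])
    rw [orderOf_pow, hr, Nat.gcd_eq_right (Dvd.intro_left _ rfl), Nat.mul_div_cancel _ (Nat.pos_of_ne_zero hr0)]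
  have h4C : g ^ r ∈ normTwo K q := by
    refine mem_of_two_power (k := 2) ?_ ?_
    · rw [show (2 : ℕ) ^ 2 = orderOf (g ^ r) by rw [h4]; rfl, pow_orderOf_eq_one]
    · exact orderOf_dvd_iff_pow_eq_one.1 (by rw [h4]; omega)
  obtain ⟨a, ha⟩ := hsur (g ^ r)
  refine ⟨K, inferInstance, inferInstance, (LinearEquiv.funUnique (Fin 1) K K).symm, W, ?_, ?_, ?_⟩
  · refine { two := hC2.comap_of_injective _ hinj, detC := fun g hg => hg, detSurj := fun c hc => ?_,
             irr := fun A _ => eq_bot_or_eq_top A, sq := ⟨a, by show LinearEquiv.det a ∈ normTwo K q; rw [ha]; exact h4C, fun he => ?_⟩,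
             scalar := fun x _ _ => ⟨x 1, fun u => ?_⟩ }
    · obtain ⟨b, hb⟩ := hsur c
      exact ⟨b, by show LinearEquiv.det b ∈ normTwo K q; rw [hb]; exact hc, hb⟩
    · have h1 := congrArg LinearEquiv.det he
      rw [map_mul, map_one, ha, ← pow_two] at h1
      have := orderOf_dvd_of_pow_eq_one h1
      rw [h4] at this
      omega
    · rw [smul_eq_mul, mul_comm, ← smul_eq_mul, ← map_smul, smul_eq_mul, mul_one]
  · intro f hf u v
    have hval : ∀ x : K, f x = x * f 1 := fun x => by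
      rw [← smul_eq_mul x (f 1), ← map_smul, smul_eq_mul, mul_one]
    have hf1 : ((LinearEquiv.det f : Kˣ) : K) = f 1 := by
      rw [LinearEquiv.coe_det, ← LinearMap.det_toMatrix (Module.Basis.singleton (Fin 1) K), Matrix.det_fin_one,
        LinearMap.toMatrix_apply]
      simp
    have hn : f 1 * f 1 ^ q = 1 := by
      rw [← pow_succ', ← hf1, ← Units.val_pow_eq_pow_val, norm_of_mem hf, Units.val_one]
    have he : ∀ a : K, ((LinearEquiv.funUnique (Fin 1) K K).symm a) default = a := fun a => rfl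
    simp only [Cfsg.hermForm, Finset.univ_unique, Finset.sum_singleton]
    rw [he, he, he, he, hval u, hval v, mul_pow]
    linear_combination (u * v ^ q) * hn
  · have hcard : Nat.card W = Nat.card (normTwo K q) :=
      Nat.card_congr (Equiv.ofBijective (fun g : W => (⟨LinearEquiv.det (g : K ≃ₗ[K] K), g.2⟩ : normTwo K q))
        ⟨fun a b h => Subtype.ext (hinj (congrArg Subtype.val h)), fun c => by
          obtain ⟨b, hb⟩ := hsur (c : Kˣ)
          exact ⟨⟨b, by show LinearEquiv.det b ∈ normTwo K q; rw [hb]; exact c.2⟩, Subtype.ext hb⟩⟩)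
    rw [hcard, normTwo, IsCyclic.card_powMonoidHom_ker, Herm.card_units_sq hF,
      Nat.gcd_eq_right ((Nat.ordProj_dvd _ _).mul_right _), Nat.factorization_def _ Nat.prime_two]
    simp [uExp]

theorem model_two (hF : Fintype.card K = q ^ 2) (h1 : q % 4 = 1) : Model K q 2 (fun C W => UGoodTwo C W) := by
  classical
  haveI : Fact (Nat.Prime 2) := ⟨Nat.prime_two⟩
  have hqo : Odd q := Nat.odd_iff.2 (by omega)
  haveI : Finite ((Fin 2 → K) ≃ₗ[K] (Fin 2 → K)) := Finite.of_injective _ DFunLike.coe_injective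
  have h2 : (2 : K) ≠ 0 := Ring.two_ne_zero (fun hc => by
    have hev := FiniteField.even_card_iff_char_two.1 hc
    rw [hF, Nat.pow_mod, show q % 2 = 1 by omega] at hev
    simp at hev)
  have hfr : Module.finrank K (Fin 2 → K) = 2 := by simp
  let ψ : Cfsg.GU 2 K q →* ((Fin 2 → K) ≃ₗ[K] (Fin 2 → K)) := (toAut 2).comp (Cfsg.GU 2 K q).subtype
  have hψ : Function.Injective ψ := toAut_injective.comp Subtype.val_injective
  obtain ⟨P⟩ := (inferInstance : Nonempty (Sylow 2 (Cfsg.GU 2 K q)))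
  obtain ⟨n, hn, hcardP, x₀, y₀, hx₀, hy₀, hxy₀⟩ :=
    show Cfsg.IsQuasiDihedral (P : Subgroup (Cfsg.GU 2 K q)) from (Cfsg.Agent.S1218.result q hF hqo P).1 h1
  obtain ⟨W, hWdef⟩ : ∃ W, W = (P : Subgroup (Cfsg.GU 2 K q)).map ψ := ⟨_, rfl⟩
  have hW2 : IsPGroup 2 W := hWdef ▸ P.2.map ψ
  have hcardW : Nat.card W = 2 ^ (n + 1) := by rw [hWdef, Subgroup.card_map_of_injective hψ, hcardP]
  obtain ⟨x, hxdef⟩ : ∃ x, x = ψ (x₀ : Cfsg.GU 2 K q) := ⟨_, rfl⟩
  obtain ⟨y, hydef⟩ : ∃ y, y = ψ (y₀ : Cfsg.GU 2 K q) := ⟨_, rfl⟩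
  have hxW : x ∈ W := by rw [hWdef, hxdef]; exact Subgroup.mem_map_of_mem _ x₀.2
  have hyW : y ∈ W := by rw [hWdef, hydef]; exact Subgroup.mem_map_of_mem _ y₀.2
  have hx : orderOf x = 2 ^ n := by rw [hxdef, orderOf_injective ψ hψ, Subgroup.orderOf_coe, hx₀]
  have hy : y * y = 1 := by
    have h := pow_orderOf_eq_one y₀
    rw [hy₀, pow_two] at h
    rw [hydef, ← map_mul, show (y₀ : Cfsg.GU 2 K q) * y₀ = 1 from congrArg Subtype.val h, map_one]
  have hxy : y * x * y⁻¹ = x ^ (2 ^ (n - 1) - 1) := by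
    have h := congrArg (fun w : (P : Subgroup (Cfsg.GU 2 K q)) => ψ (w : Cfsg.GU 2 K q)) hxy₀
    simpa [hxdef, hydef, map_mul, map_inv, map_pow] using h
  obtain ⟨j, hj⟩ : ∃ j, n = j + 3 := ⟨n - 3, by omega⟩
  have hpow1 : 2 ^ (n - 1) = 2 ^ j * 4 := by rw [show n - 1 = j + 2 by omega, pow_add]; rfl
  have hpow : 2 ^ n = 2 ^ j * 8 := by rw [hj, pow_add]; rfl
  have hjpos : 1 ≤ 2 ^ j := Nat.one_le_two_pow
  have hne : ∀ i : ℕ, 0 < i → i < 2 ^ n → x ^ i ≠ 1 := fun i hi hi' h => by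
    have := Nat.le_of_dvd hi (hx ▸ orderOf_dvd_of_pow_eq_one h)
    omega
  have hnc : y * x ≠ x * y := fun h => by
    rw [h, mul_inv_cancel_right] at hxy
    refine hne (2 ^ (n - 1) - 2) (by omega) (by omega) ((mul_eq_right (b := x)).1 ?_)
    rw [← pow_succ, show 2 ^ (n - 1) - 2 + 1 = 2 ^ (n - 1) - 1 by omega]
    exact hxy.symm
  -- determinants
  have hdetC : ∀ g ∈ W, LinearEquiv.det g ∈ normTwo K q := by
    intro g hg
    rw [hWdef] at hg
    obtain ⟨g₀, hg₀, rfl⟩ := Subgroup.mem_map.1 hg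
    obtain ⟨k, hk⟩ := P.2 ⟨g₀, hg₀⟩
    have hk' : ψ g₀ ^ 2 ^ k = 1 := by
      rw [← map_pow, show g₀ ^ 2 ^ k = 1 from congrArg Subtype.val hk, map_one]
    refine mem_of_two_power (k := k) (by rw [← map_pow, hk', map_one]) (Units.ext ?_)
    rw [Units.val_pow_eq_pow_val, Units.val_one]
    show ((LinearEquiv.det (toAut 2 (g₀ : GL (Fin 2) K)) : Kˣ) : K) ^ (q + 1) = 1
    rw [det_toAut]
    exact Herm.det_GU_pow hF g₀
  have hC : ∀ c : Kˣ, c ∈ normTwo K q → c = 1 ∨ c = -1 := by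
    intro c hc
    have hs : (q + 1).factorization 2 = 1 := by
      obtain ⟨r, hr⟩ : ∃ r, q + 1 = 2 * r ∧ r % 2 = 1 := ⟨(q + 1) / 2, by omega⟩
      rw [hr.1, Nat.factorization_mul (by norm_num) (by omega), Finsupp.add_apply, Nat.Prime.factorization_self
        Nat.prime_two, Nat.factorization_eq_zero_of_not_dvd (by omega)]
    have hc' := mem_normTwo.1 hc
    rw [hs, pow_one, pow_two] at hc'
    have h' : (c : K) * (c : K) = 1 := by rw [← Units.val_mul, hc', Units.val_one]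
    rcases mul_self_eq_one_iff.1 h' with e | e
    · exact Or.inl (Units.val_eq_one.1 e)
    · exact Or.inr (Units.ext (by simpa using e))
  have hsq1 : ∀ g ∈ W, LinearEquiv.det (g * g) = 1 := fun g hg => by
    rcases hC _ (hdetC g hg) with e | e <;> simp [map_mul, e]
  -- an element of determinant minus one
  have hneg : ∃ g ∈ W, LinearEquiv.det g = -1 := by
    let D : GL (Fin 2) K := Cfsg.Agent.S1217.diag ((1 : Kˣ), (-1 : Kˣ))
    have hD : D ∈ Cfsg.GU 2 K q := Cfsg.Agent.S1218.diag_mem (one_pow _) (Even.neg_one_pow hqo.add_one)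
    have hD2 : (⟨D, hD⟩ : Cfsg.GU 2 K q) ^ 2 = 1 := Subtype.ext (by
      show D ^ 2 = 1
      rw [← map_pow, Prod.pow_mk, one_pow, neg_one_sq, show ((1 : Kˣ), (1 : Kˣ)) = 1 from rfl, map_one])
    have hp : IsPGroup 2 (Subgroup.zpowers (⟨D, hD⟩ : Cfsg.GU 2 K q)) := by
      rintro ⟨w, hw⟩
      obtain ⟨i, rfl⟩ := Subgroup.mem_zpowers_iff.1 hw
      refine ⟨1, Subtype.ext ?_⟩
      show ((⟨D, hD⟩ : Cfsg.GU 2 K q) ^ i) ^ 2 ^ 1 = 1
      rw [pow_one, ← zpow_natCast (_ ^ i), ← zpow_mul, mul_comm, zpow_mul, zpow_natCast, hD2, one_zpow]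
    obtain ⟨R, hR⟩ := hp.exists_le_sylow
    obtain ⟨c, hc⟩ := MulAction.exists_smul_eq (Cfsg.GU 2 K q) R P
    have hmem : c * ⟨D, hD⟩ * c⁻¹ ∈ (P : Subgroup (Cfsg.GU 2 K q)) := by
      rw [← hc]
      exact Subgroup.mem_map_of_mem (MulAut.conj c).toMonoidHom (hR (Subgroup.mem_zpowers _))
    refine ⟨_, hWdef ▸ Subgroup.mem_map_of_mem ψ hmem, ?_⟩
    rw [map_mul, map_mul, map_inv, map_mul, map_mul, map_inv, mul_comm (LinearEquiv.det (ψ c)), mul_inv_cancel_right]
    show LinearEquiv.det (toAut 2 D) = -1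
    rw [det_toAut]
    refine Units.ext ?_
    show ((D : GL (Fin 2) K) : Matrix (Fin 2) (Fin 2) K).det = ((-1 : Kˣ) : K)
    simp [D, Cfsg.Agent.S1217.diag]
  -- a determinant one element not commuting with the square of the cyclic generator
  obtain ⟨w, hwW, hwd, hwc⟩ : ∃ w ∈ W, LinearEquiv.det w = 1 ∧ w * (x * x) ≠ (x * x) * w := by
    have hconj : ∀ i : ℕ, y * x ^ i * (x * x) ≠ x * x * (y * x ^ i) := by
      intro i h
      have h' : y * (x * x) = x * x * y := by
        have e : x ^ i * (x * x) = x * x * x ^ i := by simp only [← pow_two, ← pow_add, add_comm]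
        apply mul_right_cancel (b := x ^ i)
        rw [mul_assoc y, ← e, ← mul_assoc, h]; group
      have h'' : y * (x * x) * y⁻¹ = x ^ (2 ^ (n - 1) - 1) * x ^ (2 ^ (n - 1) - 1) := by
        rw [← hxy]; group
      rw [h', mul_inv_cancel_right, ← pow_add, ← pow_two] at h''
      have h3 : x ^ ((2 ^ (n - 1) - 1) + (2 ^ (n - 1) - 1) - 2) * x ^ 2 = x ^ 2 := by
        rw [← pow_add, show (2 ^ (n - 1) - 1) + (2 ^ (n - 1) - 1) - 2 + 2 = (2 ^ (n - 1) - 1) + (2 ^ (n - 1) - 1) by omega]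
        exact h''.symm
      exact hne _ (by omega) (by omega) (mul_eq_right.1 h3)
    rcases hC _ (hdetC y hyW) with ey | ey
    · exact ⟨y, hyW, ey, by simpa using hconj 0⟩
    rcases hC _ (hdetC x hxW) with ex | ex
    swap
    · exact ⟨y * x, mul_mem hyW hxW, by rw [map_mul, ey, ex, neg_mul_neg, one_mul], by simpa using hconj 1⟩
    exfalso
    -- the trace of the cyclic generator would vanish
    obtain ⟨X, hXeq⟩ : ∃ X : GL (Fin 2) K, toAut 2 X = x := mem_range_toAut x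
    obtain ⟨Y, hYeq⟩ : ∃ Y : GL (Fin 2) K, toAut 2 Y = y := mem_range_toAut y
    have hXd : ((X : GL (Fin 2) K) : Matrix (Fin 2) (Fin 2) K).det = 1 := by
      have := congrArg (fun u : Kˣ => (u : K)) ((det_toAut X).symm.trans (hXeq ▸ ex))
      exact this
    let X' : Matrix.SpecialLinearGroup (Fin 2) K := ⟨_, hXd⟩
    have hXX : ∀ i : ℕ, x ^ i = toAut 2 (Matrix.SpecialLinearGroup.toGL (X' ^ i)) := fun i => by
      rw [map_pow, map_pow, ← hXeq]; congr 2; exact Units.ext rfl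
    have hmin : X' ^ 2 ^ (n - 1) = -1 := by
      have hsq : (X' ^ 2 ^ (n - 1)) ^ 2 = 1 := by
        apply Matrix.SpecialLinearGroup.toGL_injective
        apply toAut_injective
        rw [← pow_mul, ← hXX, map_one, map_one, ← pow_succ, show n - 1 + 1 = n by omega, ← hx, pow_orderOf_eq_one]
      rcases Cfsg.Agent.S0261.sq_one h2 _ hsq with e | e
      · exfalso
        refine hne (2 ^ (n - 1)) (by omega) (by omega) ?_
        rw [hXX, show X' ^ 2 ^ (n - 1) = 1 from Subtype.ext e, map_one, map_one]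
      · exact Subtype.ext (by rw [e, Matrix.SpecialLinearGroup.coe_neg, Matrix.SpecialLinearGroup.coe_one])
    have hrel : x ^ (2 ^ (n - 1) - 1) = toAut 2 (Matrix.SpecialLinearGroup.toGL (-X'⁻¹)) := by
      rw [hXX]
      congr 2
      rw [pow_sub X' Nat.one_le_two_pow, hmin, pow_one, neg_one_mul]
    have hYX : Y * X * Y⁻¹ = Matrix.SpecialLinearGroup.toGL (-X'⁻¹) := toAut_injective (by
      rw [map_mul, map_mul, map_inv, hXeq, hYeq, hxy, hrel])
    have htr := congrArg (fun M : GL (Fin 2) K => (M : Matrix (Fin 2) (Fin 2) K).trace) hYX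
    simp only [Units.val_mul, Matrix.trace_units_conj] at htr
    have hadj : ((Matrix.SpecialLinearGroup.toGL (-X'⁻¹) : GL (Fin 2) K) : Matrix (Fin 2) (Fin 2) K).trace =
        -((X : Matrix (Fin 2) (Fin 2) K).trace) := by
      show ((-X'⁻¹ : Matrix.SpecialLinearGroup (Fin 2) K) : Matrix (Fin 2) (Fin 2) K).trace = _
      rw [Matrix.SpecialLinearGroup.coe_neg, Matrix.trace_neg, Matrix.SpecialLinearGroup.coe_inv, Matrix.adjugate_fin_two]
      simp [Matrix.trace_fin_two, X', add_comm]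
    rw [hadj] at htr
    have htr0 : ((X : GL (Fin 2) K) : Matrix (Fin 2) (Fin 2) K).trace = 0 := by
      have h' : (2 : K) * ((X : GL (Fin 2) K) : Matrix (Fin 2) (Fin 2) K).trace = 0 := by linear_combination htr
      exact (mul_eq_zero.1 h').resolve_left h2
    have hsqm : X' * X' = -1 := Subtype.ext (by
      rw [Matrix.SpecialLinearGroup.coe_mul, Matrix.SpecialLinearGroup.coe_neg, Matrix.SpecialLinearGroup.coe_one]
      have hd := hXd
      rw [Matrix.det_fin_two] at hd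
      rw [Matrix.trace_fin_two] at htr0
      show ((X : GL (Fin 2) K) : Matrix (Fin 2) (Fin 2) K) * ((X : GL (Fin 2) K) : Matrix (Fin 2) (Fin 2) K) = -1
      generalize ((X : GL (Fin 2) K) : Matrix (Fin 2) (Fin 2) K) = M at hd htr0 ⊢
      ext i j
      rw [Matrix.mul_apply, Fin.sum_univ_two, Matrix.neg_apply, Matrix.one_apply]
      fin_cases i <;> fin_cases j
      · show M 0 0 * M 0 0 + M 0 1 * M 1 0 = -1
        linear_combination (M 0 0) * htr0 - hd
      · show M 0 0 * M 0 1 + M 0 1 * M 1 1 = -0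
        linear_combination (M 0 1) * htr0
      · show M 1 0 * M 0 0 + M 1 1 * M 1 0 = -0
        linear_combination (M 1 0) * htr0
      · show M 1 0 * M 0 1 + M 1 1 * M 1 1 = -1
        linear_combination (M 1 1) * htr0 - hd)
    refine hne 4 (by norm_num) (by omega) ?_
    rw [hXX, show (4 : ℕ) = 2 * 2 from rfl, pow_mul, pow_two, pow_two, hsqm, neg_one_mul, neg_neg, map_one, map_one]
  refine ⟨Fin 2 → K, inferInstance, inferInstance, LinearEquiv.refl K _, W, ?_, ?_, ?_⟩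
  · refine { two := hW2, detC := hdetC, detSurj := fun c hc => ?_,
             irr := irr_plane hfr h2 hW2 hyW hxW hnc hyW hxW, sq := ⟨x, hxW, ?_⟩, scalar := fun z hz hnz => ?_,
             irrSq := ?_, sqOne := ⟨x * x, mul_mem hxW hxW, hsq1 x hxW, ?_⟩ }
    · rcases hC c hc with rfl | rfl
      · exact ⟨1, one_mem _, map_one _⟩
      · exact hneg
    · rw [← pow_two]; exact hne 2 (by norm_num) (by omega)
    · obtain ⟨hzx, hzy⟩ := sd_commute hn hx hxW hyW hy hxy hcardW hz hnz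
      exact scalar_plane hfr hnc hzx hzy
    · exact irr_plane hfr h2 hW2 hwW (mul_mem hxW hxW) hwc ⟨hwW, 1, one_mem _, by rw [hwd, one_mul]⟩
        ⟨mul_mem hxW hxW, 1, one_mem _, by rw [hsq1 x hxW, one_mul]⟩
    · rw [show x * x * (x * x) = x ^ 4 by rw [show (4 : ℕ) = 2 + 2 from rfl, pow_add, pow_two]]
      exact hne 4 (by norm_num) (by omega)
  · intro g hg u v
    rw [hWdef] at hg
    obtain ⟨g₀, -, rfl⟩ := Subgroup.mem_map.1 hg
    exact g₀.2 u v
  · rw [hWdef, Subgroup.card_map_of_injective hψ, P.card_eq_multiplicity, factorization_GU hF hqo]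

theorem good_of_two {V : Type u} [AddCommGroup V] [Module K V] {C : Subgroup Kˣ} {W : Subgroup (V ≃ₗ[K] V)}
    (h : UGoodTwo C W) : UGood C W := h.toUGood

theorem preserves_wr {V : Type u} [AddCommGroup V] [Module K V] {W : Subgroup (V ≃ₗ[K] V)} {B : V → V → K}
    (hiso : ∀ g ∈ W, ∀ a b, B (g a) (g b) = B a b) {h : (V × V) ≃ₗ[K] (V × V)} (hh : h ∈ wr W) (u v : V × V) :
    B (h u).1 (h v).1 + B (h u).2 (h v).2 = B u.1 v.1 + B u.2 v.2 := by
  obtain ⟨a, ha, b, hb, rfl | rfl⟩ := hh <;> obtain ⟨u, u'⟩ := u <;> obtain ⟨v, v'⟩ := v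
  · rw [pr_apply, pr_apply, hiso a ha, hiso b hb]
  · rw [LinearEquiv.mul_apply, LinearEquiv.mul_apply, sigma_apply, sigma_apply, pr_apply, pr_apply, hiso a ha,
      hiso b hb, add_comm]

theorem model_step (hF : Fintype.card K = q ^ 2) (hq : Odd q) {j : ℕ} (hcase : 1 ≤ j ∨ q % 4 = 3)
    (h : Model K q (2 ^ j) (fun C W => UGood C W)) : Model K q (2 ^ j + 2 ^ j) (fun C W => UGoodTwo C W) := by
  obtain ⟨V, i1, i2, e, W, hW, hiso, hcard⟩ := h
  haveI : Finite V := Finite.of_equiv _ e.symm.toEquiv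
  haveI : Nontrivial V := by
    haveI : Nonempty (Fin (2 ^ j)) := ⟨⟨0, Nat.two_pow_pos j⟩⟩
    exact e.toEquiv.nontrivial
  haveI := isPGroup_wr.finite_aut' (F := K) (U := V)
  let e2 : (V × V) ≃ₗ[K] (Fin (2 ^ j + 2 ^ j) → K) :=
    ((e.prodCongr e).trans (LinearEquiv.sumArrowLequivProdArrow (Fin (2 ^ j)) (Fin (2 ^ j)) K K).symm).trans
      (LinearEquiv.funCongrLeft K K finSumFinEquiv.symm)
  have he0 : ∀ (u : V × V) i, e2 u i = Sum.elim (e u.1) (e u.2) (finSumFinEquiv.symm i) := fun u i => rfl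
  have he1 : ∀ (u : V × V) (i : Fin (2 ^ j)), e2 u (Fin.castAdd _ i) = e u.1 i := fun u i => by
    rw [he0, finSumFinEquiv_symm_apply_castAdd, Sum.elim_inl]
  have he2 : ∀ (u : V × V) (i : Fin (2 ^ j)), e2 u (Fin.natAdd _ i) = e u.2 i := fun u i => by
    rw [he0, finSumFinEquiv_symm_apply_natAdd, Sum.elim_inr]
  have hform : ∀ a b : V × V, Cfsg.hermForm (2 ^ j + 2 ^ j) K q (e2 a) (e2 b) =
      Cfsg.hermForm (2 ^ j) K q (e a.1) (e b.1) + Cfsg.hermForm (2 ^ j) K q (e a.2) (e b.2) := fun a b => by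
    simp only [Cfsg.hermForm, Fin.sum_univ_add, he1, he2]
  refine ⟨V × V, inferInstance, inferInstance, e2, wr W, ugood_wr hW (neg_one_mem hq), ?_, ?_⟩
  · intro g hg u v
    rw [hform, hform]
    exact preserves_wr K (B := fun a b => Cfsg.hermForm (2 ^ j) K q (e a) (e b)) hiso hg u v
  · rw [card_wr, hcard, uExp_double hq (Herm.two_le_q hF) hcase, ← pow_mul, ← pow_succ']
    congr 1
    omega

theorem model_exists (hF : Fintype.card K = q ^ 2) (hq : Odd q) (k : ℕ) :
    Model K q (2 ^ (k + 1)) (fun C W => UGoodTwo C W) := by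
  induction k with
  | zero =>
    rcases (show q % 4 = 1 ∨ q % 4 = 3 by rw [Nat.odd_iff] at hq; omega) with h | h
    · exact model_two K hF h
    · exact model_step K hF hq (j := 0) (Or.inr h) (model_one K hF h)
  | succ k ih =>
    obtain ⟨V, i1, i2, e, W, hW, hiso, hcard⟩ := ih
    have h := model_step K hF hq (j := k + 1) (Or.inl (Nat.succ_pos k)) ⟨V, i1, i2, e, W, hW.toUGood, hiso, hcard⟩
    rwa [← two_mul, ← pow_succ'] at h

set_option maxHeartbeats 800000 in
/-- **A Sylow `2`-subgroup of `PSU (2 ^ (k + 2))` over a field of odd order is self-normalising.** -/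
theorem psu_normalizer_eq (hF : Fintype.card K = q ^ 2) (hq : Odd q) (k : ℕ)
    (P : Sylow 2 (Cfsg.PSU (2 ^ (k + 2)) K q)) :
    Subgroup.normalizer ((P : Subgroup (Cfsg.PSU (2 ^ (k + 2)) K q)) : Set (Cfsg.PSU (2 ^ (k + 2)) K q)) =
      (P : Subgroup (Cfsg.PSU (2 ^ (k + 2)) K q)) := by
  classical
  haveI : Fact (Nat.Prime 2) := ⟨Nat.prime_two⟩
  refine normalizer_quotient_eq (fun Q x hx hn => ?_) P
  obtain ⟨V, i1, i2, e, W, hW, hiso, hcard⟩ := model_exists K hF hq k
  haveI : Finite V := Finite.of_equiv _ e.symm.toEquiv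
  haveI : Nontrivial V := by
    haveI : Nonempty (Fin (2 ^ (k + 1))) := ⟨⟨0, Nat.two_pow_pos _⟩⟩
    exact e.toEquiv.nontrivial
  haveI := isPGroup_wr.finite_aut' (F := K) (U := V)
  haveI := isPGroup_wr.finite_aut' (F := K) (U := V × V)
  obtain ⟨N, hN⟩ : ∃ N, N = 2 ^ (k + 1) := ⟨_, rfl⟩
  have hNN : 2 ^ (k + 2) = 2 ^ (k + 1) + 2 ^ (k + 1) := by rw [pow_succ 2 (k + 1)]; ring
  let e2 : (V × V) ≃ₗ[K] (Fin (2 ^ (k + 2)) → K) :=
    (((e.prodCongr e).trans (LinearEquiv.sumArrowLequivProdArrow (Fin (2 ^ (k + 1))) (Fin (2 ^ (k + 1))) K K).symm).trans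
      (LinearEquiv.funCongrLeft K K finSumFinEquiv.symm)).trans (LinearEquiv.funCongrLeft K K (finCongr hNN))
  have hform : ∀ a b : V × V, Cfsg.hermForm (2 ^ (k + 2)) K q (e2 a) (e2 b) =
      Cfsg.hermForm (2 ^ (k + 1)) K q (e a.1) (e b.1) + Cfsg.hermForm (2 ^ (k + 1)) K q (e a.2) (e b.2) := fun a b => by
    have he0 : ∀ (u : V × V) i, e2 u ((finCongr hNN).symm i) = Sum.elim (e u.1) (e u.2) (finSumFinEquiv.symm i) :=
      fun u i => rfl
    simp only [Cfsg.hermForm]
    rw [← Equiv.sum_comp (finCongr hNN).symm, Fin.sum_univ_add]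
    congr 1 <;> refine Finset.sum_congr rfl fun i _ => ?_
    · rw [he0, he0, finSumFinEquiv_symm_apply_castAdd, Sum.elim_inl, Sum.elim_inl]
    · rw [he0, he0, finSumFinEquiv_symm_apply_natAdd, Sum.elim_inr, Sum.elim_inr]
  clear_value e2
  let ψ : Cfsg.GU (2 ^ (k + 2)) K q →* ((V × V) ≃ₗ[K] (V × V)) :=
    { toFun := fun g => (e2.trans (toAut _ (g : GL (Fin (2 ^ (k + 2))) K))).trans e2.symm
      map_one' := LinearEquiv.ext fun v => by simp
      map_mul' := fun g h => LinearEquiv.ext fun v => by simp [map_mul] }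
  have hψ : Function.Injective ψ := fun g h hgh => Subtype.ext (toAut_injective (LinearEquiv.ext fun v => by
    have := congrArg e2 (LinearEquiv.congr_fun hgh (e2.symm v))
    simpa [ψ] using this))
  have hψd : ∀ g, LinearEquiv.det (ψ g) = Matrix.GeneralLinearGroup.det (g : GL (Fin (2 ^ (k + 2))) K) := fun g => by
    rw [← det_toAut]
    refine Units.ext ?_
    rw [LinearEquiv.coe_det, LinearEquiv.coe_det]
    exact LinearMap.det_conj (toAut _ (g : GL (Fin (2 ^ (k + 2))) K) : _ →ₗ[K] _) e2.symm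
  have hrange : ∀ h ∈ wr W, ∃ g, ψ g = h := by
    intro h hh
    obtain ⟨g, hg⟩ := mem_range_toAut ((e2.symm.trans h).trans e2)
    have hpres : ∀ a b, Cfsg.hermForm (2 ^ (k + 2)) K q (e2 (h a)) (e2 (h b)) =
        Cfsg.hermForm (2 ^ (k + 2)) K q (e2 a) (e2 b) := by
      intro a b
      rw [hform, hform]
      exact preserves_wr K (B := fun a b => Cfsg.hermForm (2 ^ (k + 1)) K q (e a) (e b)) hiso hh a b
    refine ⟨⟨g, fun u v => ?_⟩, LinearEquiv.ext fun w => ?_⟩
    · show Cfsg.hermForm (2 ^ (k + 2)) K q ((g : Matrix (Fin (2 ^ (k + 2))) (Fin (2 ^ (k + 2))) K).mulVec u)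
        ((g : Matrix (Fin (2 ^ (k + 2))) (Fin (2 ^ (k + 2))) K).mulVec v) = _
      rw [← toAut_apply, ← toAut_apply, hg]
      simp only [LinearEquiv.trans_apply, hpres, LinearEquiv.apply_symm_apply]
    · show e2.symm (toAut _ g (e2 w)) = h w
      rw [hg]; simp
  -- the special unitary group inside
  let ι : Cfsg.SU (2 ^ (k + 2)) K q →* Cfsg.GU (2 ^ (k + 2)) K q :=
    { toFun := fun g => ⟨Matrix.SpecialLinearGroup.toGL (g : Matrix.SpecialLinearGroup (Fin (2 ^ (k + 2))) K),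
        (Herm.mem_SU_iff _).1 g.2⟩
      map_one' := Subtype.ext (map_one _)
      map_mul' := fun g h => Subtype.ext (map_mul Matrix.SpecialLinearGroup.toGL _ _) }
  have hι : Function.Injective ι := fun g h hgh =>
    Subtype.ext (Matrix.SpecialLinearGroup.toGL_injective (congrArg Subtype.val hgh))
  let φ := ψ.comp ι
  have hφi : Function.Injective φ := hψ.comp hι
  have h2w : IsPGroup 2 (wr W) := isPGroup_wr hW.toUGood
  let T₀ : Subgroup (Cfsg.GU (2 ^ (k + 2)) K q) := (wr W).comap ψ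
  have hT₀ : Nat.card T₀ = 2 ^ (Nat.card (Cfsg.GU (2 ^ (k + 2)) K q)).factorization 2 := by
    have hb : Nat.card T₀ = Nat.card (wr W) := Nat.card_congr (Equiv.ofBijective
      (fun g : T₀ => (⟨ψ (g : Cfsg.GU (2 ^ (k + 2)) K q), g.2⟩ : wr W))
      ⟨fun a b h => Subtype.ext (hψ (congrArg Subtype.val h)), fun h => by
        obtain ⟨g, hg⟩ := hrange h h.2
        exact ⟨⟨g, show ψ g ∈ wr W from hg ▸ h.2⟩, Subtype.ext hg⟩⟩)
    rw [hb, card_wr, hcard, factorization_GU hF hq, hNN,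
      uExp_double (k := k + 1) hq (Herm.two_le_q hF) (Or.inl (by omega)), ← pow_mul, ← pow_succ']
    congr 1
    omega
  obtain ⟨R, hR⟩ := (Q.2.map ι).exists_le_sylow
  obtain ⟨c, hc⟩ := MulAction.exists_smul_eq (Cfsg.GU (2 ^ (k + 2)) K q) R (Sylow.ofCard T₀ hT₀)
  have hcT : (R : Subgroup (Cfsg.GU (2 ^ (k + 2)) K q)).map (MulAut.conj c).toMonoidHom = T₀ :=
    congrArg (fun S : Sylow 2 (Cfsg.GU (2 ^ (k + 2)) K q) => (S : Subgroup (Cfsg.GU (2 ^ (k + 2)) K q))) hc
  obtain ⟨g, hgdef⟩ : ∃ g, g = ψ c := ⟨_, rfl⟩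
  have hQmem : ∀ y ∈ (Q : Subgroup (Cfsg.SU (2 ^ (k + 2)) K q)), g * φ y * g⁻¹ ∈ wr W := fun y hy => by
    have h : c * ι y * c⁻¹ ∈ T₀ := hcT ▸ Subgroup.mem_map_of_mem (MulAut.conj c).toMonoidHom
      (hR (Subgroup.mem_map_of_mem ι hy))
    rw [hgdef, show φ y = ψ (ι y) from rfl, ← map_inv, ← map_mul, ← map_mul]
    exact h
  have hQsur : ∀ h ∈ wr W, LinearEquiv.det h = 1 →
      ∃ y ∈ (Q : Subgroup (Cfsg.SU (2 ^ (k + 2)) K q)), g * φ y * g⁻¹ = h := by
    intro h hh hhd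
    let T : Subgroup (Cfsg.SU (2 ^ (k + 2)) K q) := (wr W).comap ((MulAut.conj g).toMonoidHom.comp φ)
    have hT : IsPGroup 2 T := h2w.comap_of_injective _ ((MulAut.conj g).injective.comp hφi)
    have heq := Q.is_maximal' hT hQmem
    obtain ⟨h', hh'⟩ := hrange h hh
    obtain ⟨y₀, hy₀⟩ : ∃ y₀, y₀ = c⁻¹ * h' * c := ⟨_, rfl⟩
    have hd : Matrix.GeneralLinearGroup.det (y₀ : GL (Fin (2 ^ (k + 2))) K) = 1 := by
      rw [← hψd, hy₀]
      simp only [map_mul, map_inv, hh', hhd, mul_one, inv_mul_cancel]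
    have hd' : ((y₀ : GL (Fin (2 ^ (k + 2))) K) : Matrix (Fin (2 ^ (k + 2))) (Fin (2 ^ (k + 2))) K).det = 1 :=
      congrArg Units.val hd
    let y₁ : Matrix.SpecialLinearGroup (Fin (2 ^ (k + 2))) K := ⟨_, hd'⟩
    have hy₁ : Matrix.SpecialLinearGroup.toGL y₁ = (y₀ : GL (Fin (2 ^ (k + 2))) K) := Units.ext rfl
    let y : Cfsg.SU (2 ^ (k + 2)) K q := ⟨y₁, (Herm.mem_SU_iff _).2 (hy₁ ▸ y₀.2)⟩
    have hye : g * φ y * g⁻¹ = h := by
      rw [hgdef, show φ y = ψ y₀ from congrArg ψ (Subtype.ext hy₁), hy₀, map_mul, map_mul, map_inv, ← hh']; group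
    refine ⟨y, ?_, hye⟩
    rw [← heq]
    show g * φ y * g⁻¹ ∈ wr W
    rw [hye]; exact hh
  have hxo : Odd (orderOf (g * φ x * g⁻¹)) :=
    hx.of_dvd_nat (orderOf_map_dvd ((MulAut.conj g).toMonoidHom.comp φ) x)
  obtain ⟨s, hs⟩ := scalar_det hW (neg_one_mem hq) hxo (fun h hh hhd => by
    obtain ⟨y, hy, rfl⟩ := hQsur h hh hhd
    rw [show g * φ x * g⁻¹ * (g * φ y * g⁻¹) * (g * φ x * g⁻¹)⁻¹ = g * (φ x * φ y * (φ x)⁻¹) * g⁻¹ by group,
      ← map_inv φ, ← map_mul, ← map_mul]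
    exact hQmem _ ((Subgroup.mem_normalizer_iff.1 hn y).1 hy))
  rw [Subgroup.mem_center_iff]
  intro y
  refine hφi (LinearEquiv.ext fun v => ?_)
  have hxs : ∀ w, φ x w = s • w := fun w => by
    have h := congrArg (fun u => g⁻¹ u) (hs (g w))
    simp only [map_smul] at h
    simpa [LinearEquiv.mul_apply] using h
  rw [map_mul, map_mul, LinearEquiv.mul_apply, LinearEquiv.mul_apply, hxs, hxs, map_smul]

end UOdd

end Cfsg.Lib.Linear.Pronormal
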