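import Cfsg.Agent.Lib.Linear.Pronormal.Unipotent

/-!
# The unitary group in characteristic two as the fixed points of a twisted involution of `SL n`

The involution preserves the unitriangular matrices, so the Bruhat decomposition of a fixed element can be
chosen among fixed elements: the obstruction is a cocycle in the unitriangular matrices, trivial layer by layer.
-/

set_option autoImplicit false

namespace Cfsg.Lib.Linear.Pronormal.Twisted

open Matrix Cfsg.Lib.Linear.SLBlocks Cfsg.Lib.Linear.Pronormal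

variable {n : ℕ} {F : Type*} [Field F] [Fintype F] (φ : F →+* F)

local notation "SLn" => Matrix.SpecialLinearGroup (Fin n) F

local notation "UT" => (rad (lbl n) : Subgroup (Matrix.SpecialLinearGroup (Fin n) F))

local notation "BT" => (par (lbl n) : Subgroup (Matrix.SpecialLinearGroup (Fin n) F))

/-- The inverse transpose twisted by the field map, on reversed coordinates. -/
noncomputable def theta : SLn →* SLn where
  toFun g := ⟨(((g⁻¹ : SLn) : Matrix (Fin n) (Fin n) F).map φ)ᵀ.submatrix Fin.revPerm Fin.revPerm, by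
    rw [Matrix.det_submatrix_equiv_self, Matrix.det_transpose, ← RingHom.mapMatrix_apply, ← RingHom.map_det,
      (g⁻¹ : SLn).2, map_one]⟩
  map_one' := Subtype.ext (by simp)
  map_mul' g h := Subtype.ext (by
    show ((((g * h)⁻¹ : SLn) : Matrix (Fin n) (Fin n) F).map φ)ᵀ.submatrix Fin.revPerm Fin.revPerm =
      (((g⁻¹ : SLn) : Matrix (Fin n) (Fin n) F).map φ)ᵀ.submatrix Fin.revPerm Fin.revPerm *
        (((h⁻¹ : SLn) : Matrix (Fin n) (Fin n) F).map φ)ᵀ.submatrix Fin.revPerm Fin.revPerm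
    rw [_root_.mul_inv_rev, Matrix.SpecialLinearGroup.coe_mul, Matrix.map_mul, Matrix.transpose_mul,
      Matrix.submatrix_mul_equiv])

theorem theta_apply (g : SLn) (i j : Fin n) :
    ((theta φ g : SLn) : Matrix (Fin n) (Fin n) F) i j = φ (((g⁻¹ : SLn) : Matrix (Fin n) (Fin n) F) j.rev i.rev) := rfl

/-- The fixed points. -/
noncomputable def Fix : Subgroup SLn := MonoidHom.eqLocus (theta φ) (MonoidHom.id SLn)

theorem mem_fix {g : SLn} : g ∈ Fix φ ↔ theta φ g = g := Iff.rfl

theorem theta_theta (hφ : ∀ x, φ (φ x) = x) (g : SLn) : theta φ (theta φ g) = g := by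
  refine Subtype.ext (Matrix.ext fun i j => ?_)
  rw [theta_apply, ← map_inv, theta_apply, inv_inv, hφ, Fin.rev_rev, Fin.rev_rev]

theorem theta_mem_rad {u : SLn} (hu : u ∈ UT) : theta φ u ∈ UT := by
  refine mem_rad.2 fun r s hrs => ?_
  have hrev : (r.rev : Fin n).val ≤ (s.rev : Fin n).val := by
    simp only [Fin.val_rev]; simp only [lbl] at hrs; omega
  have h := mem_rad.1 (inv_mem hu) s.rev r.rev hrev
  rw [Matrix.sub_apply, sub_eq_zero] at h
  rw [Matrix.sub_apply, theta_apply, h, sub_eq_zero]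
  simp [Matrix.one_apply, eq_comm]

theorem theta_mem_par {b : SLn} (hb : b ∈ BT) : theta φ b ∈ BT := by
  refine mem_par.2 fun r s hrs => ?_
  rw [theta_apply, mem_par.1 (inv_mem hb) s.rev r.rev (by
    simp only [lbl, Fin.val_rev] at hrs ⊢; omega), map_zero]

theorem mono_inv {σ : Equiv.Perm (Fin n)} {m : SLn} (h : IsMono σ m) : IsMono σ⁻¹ (m⁻¹ : SLn) := by
  intro r c hrc
  have h1 := congrArg (fun g : SLn => (g : Matrix (Fin n) (Fin n) F) r (σ⁻¹ c)) (inv_mul_cancel m)
  simp only [Matrix.SpecialLinearGroup.coe_mul, Matrix.mul_apply, Matrix.SpecialLinearGroup.coe_one] at h1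
  rw [Finset.sum_eq_single c, Matrix.one_apply_ne hrc] at h1
  · have := h.ne_zero (σ⁻¹ c)
    rw [show σ (σ⁻¹ c) = c from σ.apply_symm_apply c] at this
    exact (mul_eq_zero.1 h1).resolve_right this
  · intro k _ hk
    rw [h k (σ⁻¹ c) (by rw [show σ (σ⁻¹ c) = c from σ.apply_symm_apply c]; exact hk), mul_zero]
  · simp

theorem theta_mono {σ : Equiv.Perm (Fin n)} {m : SLn} (h : IsMono σ m) :
    IsMono ((Fin.revPerm : Equiv.Perm (Fin n)) * σ * Fin.revPerm) (theta φ m) := by
  intro r c hrc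
  rw [theta_apply, mono_inv h c.rev r.rev, map_zero]
  intro e
  apply hrc
  have : σ c.rev = r.rev := by rw [e]; exact σ.apply_symm_apply _
  simp [this]

/-- **The monomial part of a Bruhat decomposition is unique.** -/
theorem mono_unique {σ τ : Equiv.Perm (Fin n)} {m m' u v : SLn} (hm : IsMono σ m) (hm' : IsMono τ m')
    (hu : u ∈ UT) (hv : v ∈ UT) (h : m' = u * m * v) : m' = m := by
  have hU : ∀ {w : SLn}, w ∈ UT → ∀ r s : Fin n, s.val ≤ r.val →
      (w : Matrix (Fin n) (Fin n) F) r s = if r = s then 1 else 0 := fun {w} hw r s hrs => by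
    have := mem_rad.1 hw r s hrs
    rw [Matrix.sub_apply, sub_eq_zero, Matrix.one_apply] at this
    exact this
  have h' : u⁻¹ * m' = m * v := by rw [h]; group
  have key : ∀ c, (m : Matrix (Fin n) (Fin n) F) (σ c) c =
      ((u⁻¹ : SLn) : Matrix (Fin n) (Fin n) F) (σ c) (τ c) * (m' : Matrix (Fin n) (Fin n) F) (τ c) c := by
    intro c
    have h1 := congrArg (fun g : SLn => (g : Matrix (Fin n) (Fin n) F) (σ c) c) h'
    simp only [Matrix.SpecialLinearGroup.coe_mul, Matrix.mul_apply] at h1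
    rw [Finset.sum_eq_single (τ c), Finset.sum_eq_single c] at h1
    · rw [h1, hU hv c c le_rfl, if_pos rfl, mul_one]
    · intro k _ hk
      rw [hm (σ c) k (σ.injective.ne hk.symm), zero_mul]
    · simp
    · intro k _ hk
      rw [hm' k c hk, mul_zero]
    · simp
  have hle : ∀ c, (σ c).val ≤ (τ c).val := fun c => by
    by_contra hlt
    push Not at hlt
    refine hm.ne_zero c ?_
    rw [key c, hU (inv_mem hu) _ _ hlt.le, if_neg (fun e => (ne_of_gt hlt) (congrArg Fin.val e)), zero_mul]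
  have heq : σ = τ := by
    have hsum : ∑ c, (σ c).val = ∑ c, (τ c).val := by
      rw [Equiv.sum_comp σ (fun i => i.val), Equiv.sum_comp τ (fun i => i.val)]
    ext c
    exact (Finset.sum_eq_sum_iff_of_le fun i _ => hle i).1 hsum c (Finset.mem_univ c)
  subst heq
  refine Subtype.ext (Matrix.ext fun r c => ?_)
  by_cases hr : r = σ c
  · rw [hr, key c, hU (inv_mem hu) _ _ le_rfl, if_pos rfl, one_mul]
  · rw [hm r c hr, hm' r c hr]

section Layers

/-- The unitriangular matrices vanishing on the first layers. -/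
def Deep (k : ℕ) (g : SLn) : Prop :=
  g ∈ UT ∧ ∀ r s : Fin n, r.val < s.val → s.val < r.val + k → (g : Matrix (Fin n) (Fin n) F) r s = 0

theorem mul_entry {k : ℕ} {x y : SLn} (hx : Deep k x) (hy : Deep k y) {r s : Fin n} (hrs : r.val < s.val)
    (hk : s.val ≤ r.val + k) : ((x * y : SLn) : Matrix (Fin n) (Fin n) F) r s =
      (x : Matrix (Fin n) (Fin n) F) r s + (y : Matrix (Fin n) (Fin n) F) r s := by
  have hU : ∀ {w : SLn}, w ∈ UT → ∀ r s : Fin n, s.val ≤ r.val →
      (w : Matrix (Fin n) (Fin n) F) r s = if r = s then 1 else 0 := fun {w} hw r s hrs => by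
    have := mem_rad.1 hw r s hrs
    rw [Matrix.sub_apply, sub_eq_zero, Matrix.one_apply] at this
    exact this
  rw [Matrix.SpecialLinearGroup.coe_mul, Matrix.mul_apply, Fintype.sum_eq_add r s (Fin.ne_of_val_ne (by omega))]
  · rw [hU hx.1 r r le_rfl, hU hy.1 s s le_rfl, if_pos rfl, if_pos rfl, one_mul, mul_one, add_comm]
  · rintro l ⟨hlr, hls⟩
    rcases Nat.lt_or_ge r.val l.val with h1 | h1
    · rcases Nat.lt_or_ge l.val s.val with h2 | h2
      · rw [hx.2 r l h1 (by omega), zero_mul]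
      · rw [hU hy.1 l s h2, if_neg hls, mul_zero]
    · rw [hU hx.1 r l h1, if_neg (Ne.symm hlr), zero_mul]

theorem deep_mul {k : ℕ} {x y : SLn} (hx : Deep k x) (hy : Deep k y) : Deep k (x * y) :=
  ⟨mul_mem hx.1 hy.1, fun r s h1 h2 => by rw [mul_entry hx hy h1 h2.le, hx.2 r s h1 h2, hy.2 r s h1 h2, add_zero]⟩

theorem deep_one (k : ℕ) : Deep k (1 : SLn) :=
  ⟨one_mem _, fun r s h _ => Matrix.one_apply_ne (Fin.ne_of_val_ne (by omega))⟩

theorem deep_inv {k : ℕ} {x : SLn} (hx : Deep k x) : Deep k x⁻¹ :=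
  inv_mem_of_mul (S := {g : SLn | Deep k g}) (deep_one k) (fun _ _ ha hb => deep_mul ha hb) hx

theorem inv_entry {k : ℕ} {x : SLn} (hx : Deep k x) {r s : Fin n} (hrs : r.val < s.val) (hk : s.val ≤ r.val + k) :
    ((x⁻¹ : SLn) : Matrix (Fin n) (Fin n) F) r s = -(x : Matrix (Fin n) (Fin n) F) r s := by
  have h := mul_entry hx (deep_inv hx) hrs hk
  rw [mul_inv_cancel, Matrix.SpecialLinearGroup.coe_one, Matrix.one_apply_ne (Fin.ne_of_val_ne (by omega))] at h
  linear_combination (-1 : F) * h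

theorem deep_theta {k : ℕ} {x : SLn} (hx : Deep k x) : Deep k (theta φ x) := by
  refine ⟨theta_mem_rad φ hx.1, fun r s h1 h2 => ?_⟩
  rw [theta_apply, (deep_inv hx).2 s.rev r.rev, map_zero] <;> simp only [Fin.val_rev] <;> omega

theorem deep_tx {k : ℕ} {r s : Fin n} (hne : r ≠ s) (hrs : s.val = r.val + k) (c : F) : Deep k (tx hne c : SLn) := by
  have hlt : r.val < s.val := by
    rcases Nat.eq_zero_or_pos k with rfl | h
    · exact absurd (Fin.ext (by omega)) hne
    · omega
  refine ⟨tx_mem_rad hne hlt c, fun a b h1 h2 => ?_⟩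
  rw [coe_tx]
  simp only [twoMat]
  by_cases ha : a = r
  · subst ha
    rw [if_pos rfl, if_neg (Fin.ne_of_val_ne (by omega)), if_neg (Fin.ne_of_val_ne (by omega))]
  · rw [if_neg ha]
    by_cases ha' : a = s
    · subst ha'
      rw [if_pos rfl, if_neg (Fin.ne_of_val_ne (by omega)), if_neg (Fin.ne_of_val_ne (by omega))]
    · rw [if_neg ha', if_neg (Fin.ne_of_val_ne (by omega))]

/-- The part of the unitriangular matrices carried into itself by a monomial matrix. -/
noncomputable def Part (m : SLn) : Subgroup SLn := UT ⊓ Subgroup.comap (MulAut.conj m⁻¹).toMonoidHom UT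

theorem mem_part {m u : SLn} : u ∈ Part m ↔ u ∈ UT ∧ m⁻¹ * u * m ∈ UT := by
  simp [Part, MulAut.conj_apply]

/-- Any prescribed layer in the part. -/
theorem exists_layer {σ : Equiv.Perm (Fin n)} {m : SLn} (hm : IsMono σ m) {k : ℕ} (hk : 0 < k)
    (f : Fin n → Fin n → F) (T : Finset (Fin n × Fin n))
    (hsupp : ∀ p ∈ T, p.2.val = p.1.val + k ∧ (σ.symm p.1).val < (σ.symm p.2).val) :
    ∃ c : SLn, c ∈ Part m ∧ Deep k c ∧ ∀ r s : Fin n, s.val = r.val + k →
      (c : Matrix (Fin n) (Fin n) F) r s = if (r, s) ∈ T then f r s else 0 := by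
  classical
  induction T using Finset.induction with
  | empty =>
    exact ⟨1, one_mem _, deep_one k, fun r s h => by simp [Matrix.one_apply_ne (Fin.ne_of_val_ne (by omega) : r ≠ s)]⟩
  | insert p T hp ih =>
    obtain ⟨c, hc, hcd, hce⟩ := ih fun q hq => hsupp q (Finset.mem_insert_of_mem hq)
    obtain ⟨hpk, hpσ⟩ := hsupp p (Finset.mem_insert_self p T)
    have hne : p.1 ≠ p.2 := Fin.ne_of_val_ne (by omega)
    refine ⟨tx hne (f p.1 p.2) * c, mul_mem (mem_part.2 ⟨tx_mem_rad hne (by omega) _, ?_⟩) hc,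
      deep_mul (deep_tx hne hpk _) hcd, fun r s hrs => ?_⟩
    · obtain ⟨a, ha⟩ : ∃ a, p.1 = σ a := ⟨_, (σ.apply_symm_apply _).symm⟩
      obtain ⟨b, hb⟩ : ∃ b, p.2 = σ b := ⟨_, (σ.apply_symm_apply _).symm⟩
      rw [ha, hb, Equiv.symm_apply_apply, Equiv.symm_apply_apply] at hpσ
      have hab : a ≠ b := Fin.ne_of_val_ne (by omega)
      have h := mono_mul_tx hm hab
        (f p.1 p.2 * (m : Matrix (Fin n) (Fin n) F) (σ b) b / (m : Matrix (Fin n) (Fin n) F) (σ a) a)
      have hx : ((m : Matrix (Fin n) (Fin n) F) (σ a) a *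
          (f p.1 p.2 * (m : Matrix (Fin n) (Fin n) F) (σ b) b / (m : Matrix (Fin n) (Fin n) F) (σ a) a) /
          (m : Matrix (Fin n) (Fin n) F) (σ b) b) = f p.1 p.2 := by
        have := hm.ne_zero a
        have := hm.ne_zero b
        field_simp
      rw [hx] at h
      have e : (tx hne (f p.1 p.2) : SLn) = tx (σ.injective.ne hab) (f p.1 p.2) := by
        refine Subtype.ext ?_
        rw [coe_tx, coe_tx, ← ha, ← hb]
      rw [e, mul_assoc, ← h, inv_mul_cancel_left]
      exact tx_mem_rad hab hpσ _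
    · rw [mul_entry (deep_tx hne hpk _) hcd (by omega) hrs.le, hce r s hrs, coe_tx]
      by_cases hr : (r, s) = p
      · subst hr
        simp [twoMat, hp, hne.symm]
      · rw [show twoMat p.1 p.2 1 (f p.1 p.2) 0 1 r s = 0 from ?_, zero_add]
        · simp [hr]
        simp only [twoMat]
        by_cases h1 : r = p.1
        · subst h1
          rw [if_pos rfl, if_neg (Fin.ne_of_val_ne (by omega)), if_neg (fun e => hr (by rw [e]))]
        · rw [if_neg h1]
          by_cases h2 : r = p.2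
          · subst h2
            rw [if_pos rfl, if_neg (Fin.ne_of_val_ne (by omega)), if_neg (Fin.ne_of_val_ne (by omega))]
          · rw [if_neg h2, if_neg (Fin.ne_of_val_ne (by omega))]

theorem part_support {σ : Equiv.Perm (Fin n)} {m a : SLn} (hm : IsMono σ m) (ha : a ∈ Part m) {r s : Fin n}
    (hrs : r.val < s.val) (h : (a : Matrix (Fin n) (Fin n) F) r s ≠ 0) : (σ.symm r).val < (σ.symm s).val := by
  obtain ⟨i, rfl⟩ : ∃ i, r = σ i := ⟨_, (σ.apply_symm_apply _).symm⟩
  obtain ⟨j, rfl⟩ : ∃ j, s = σ j := ⟨_, (σ.apply_symm_apply _).symm⟩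
  rw [Equiv.symm_apply_apply, Equiv.symm_apply_apply]
  by_contra hle
  push Not at hle
  have h2 := mem_rad.1 (mem_part.1 ha).2 i j hle
  have hij : i ≠ j := fun e => by rw [e] at hrs; omega
  rw [Matrix.sub_apply, Matrix.one_apply_ne hij, sub_zero, Matrix.SpecialLinearGroup.coe_mul,
    Matrix.SpecialLinearGroup.coe_mul, Matrix.mul_apply, Finset.sum_eq_single (σ j), Matrix.mul_apply,
    Finset.sum_eq_single (σ i)] at h2
  · have hi : ((m⁻¹ : SLn) : Matrix (Fin n) (Fin n) F) i (σ i) ≠ 0 := by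
      have := (mono_inv hm).ne_zero (σ i)
      rwa [show σ⁻¹ (σ i) = i from σ.symm_apply_apply i] at this
    exact mul_ne_zero (mul_ne_zero hi h) (hm.ne_zero j) h2
  · intro k _ hk
    rw [mono_inv hm i k (fun e => hk (by rw [e]; exact (σ.apply_symm_apply k).symm)), zero_mul]
  · simp
  · intro k _ hk
    rw [hm k j hk, mul_zero]
  · simp

theorem theta_part {m : SLn} (hfix : theta φ m = m) {c : SLn} (hc : c ∈ Part m) : theta φ c ∈ Part m := by
  obtain ⟨h1, h2⟩ := mem_part.1 hc
  refine mem_part.2 ⟨theta_mem_rad φ h1, ?_⟩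
  have := theta_mem_rad φ h2
  rwa [map_mul, map_mul, map_inv, hfix] at this

theorem rev_rev_eq {σ : Equiv.Perm (Fin n)} {m : SLn} (hm : IsMono σ m) (hfix : theta φ m = m) (i : Fin n) :
    σ i.rev = (σ i).rev := by
  have h := theta_mono φ hm
  rw [hfix] at h
  by_contra hne
  refine hm.ne_zero i (h (σ i) i fun e => hne ?_)
  simp only [Equiv.Perm.mul_apply, Fin.revPerm_apply] at e
  rw [e, Fin.rev_rev]

/-- **The cocycles of the involution in such a part are coboundaries.** -/
theorem exists_coboundary (hφ : ∀ x, φ (φ x) = x) (hne : ∃ x, φ x ≠ x) (h2 : (2 : F) = 0)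
    {σ : Equiv.Perm (Fin n)} {m : SLn} (hm : IsMono σ m) (hfix : theta φ m = m) {a : SLn} (ha : a ∈ Part m)
    (hco : theta φ a = a⁻¹) : ∃ c ∈ Part m, a = c * (theta φ c)⁻¹ := by
  classical
  have hneg : ∀ x : F, -x = x := fun x => neg_eq_of_add_eq_zero_left (by rw [← two_mul, h2, zero_mul])
  obtain ⟨w, hw⟩ : ∃ w, w + φ w = 1 := by
    obtain ⟨x, hx⟩ := hne
    have hs : x + φ x ≠ 0 := fun h => hx (by rw [eq_neg_of_add_eq_zero_right h, hneg])
    refine ⟨x / (x + φ x), ?_⟩
    rw [map_div₀, map_add, hφ, add_comm (φ x) x, ← add_div, div_self hs]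
  suffices key : ∀ (d k : ℕ) (a : SLn), n ≤ k + d → 0 < k → a ∈ Part m → theta φ a = a⁻¹ → Deep k a →
      ∃ c ∈ Part m, a = c * (theta φ c)⁻¹ from
    key n 1 a (by omega) one_pos ha hco ⟨(mem_part.1 ha).1, fun r s h1 h2 => by omega⟩
  intro d
  induction d with
  | zero =>
    intro k a hn hk ha _ hd
    refine ⟨1, one_mem _, ?_⟩
    rw [map_one, inv_one, mul_one]
    refine Subtype.ext (Matrix.ext fun r s => ?_)
    rw [Matrix.SpecialLinearGroup.coe_one]
    rcases Nat.lt_or_ge r.val s.val with h | h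
    · rw [hd.2 r s h (by omega), Matrix.one_apply_ne (Fin.ne_of_val_ne (by omega))]
    · have := mem_rad.1 hd.1 r s h
      rwa [Matrix.sub_apply, sub_eq_zero] at this
  | succ d ih =>
    intro k a hn hk ha hco hd
    have hsymm : ∀ r s : Fin n, s.val = r.val + k →
        φ ((a : Matrix (Fin n) (Fin n) F) s.rev r.rev) = (a : Matrix (Fin n) (Fin n) F) r s := by
      intro r s hrs
      have h1 := congrArg (fun g : SLn => (g : Matrix (Fin n) (Fin n) F) r s) hco
      simp only [theta_apply] at h1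
      rw [inv_entry hd (by omega) hrs.le, inv_entry hd (by simp only [Fin.val_rev]; omega)
        (by simp only [Fin.val_rev]; omega), hneg, hneg] at h1
      exact h1
    let f : Fin n → Fin n → F := fun r s =>
      if r.val + s.val + 1 < n then (a : Matrix (Fin n) (Fin n) F) r s
      else if r.val + s.val + 1 = n then w * (a : Matrix (Fin n) (Fin n) F) r s else 0
    let T : Finset (Fin n × Fin n) := Finset.univ.filter fun p =>
      p.2.val = p.1.val + k ∧ (σ.symm p.1).val < (σ.symm p.2).val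
    obtain ⟨c, hc, hcd, hce⟩ := exists_layer hm hk f T fun p hp => (Finset.mem_filter.1 hp).2
    have hcf : ∀ r s : Fin n, s.val = r.val + k → (c : Matrix (Fin n) (Fin n) F) r s = f r s := by
      intro r s hrs
      rw [hce r s hrs]
      split_ifs with h
      · rfl
      · have h0 : (a : Matrix (Fin n) (Fin n) F) r s = 0 := by
          by_contra hne'
          exact h (Finset.mem_filter.2 ⟨Finset.mem_univ _, hrs, part_support hm ha (r := r) (s := s) (by omega) hne'⟩)
        simp only [f, h0, mul_zero, ite_self]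
    obtain ⟨a', ha'⟩ : ∃ a', a' = c⁻¹ * a * theta φ c := ⟨_, rfl⟩
    have ha'm : a' ∈ Part m := ha' ▸ mul_mem (mul_mem (inv_mem hc) ha) (theta_part φ hfix hc)
    have hco' : theta φ a' = a'⁻¹ := by
      rw [ha', map_mul, map_mul, map_inv, theta_theta φ hφ, hco]; group
    have hd' : Deep (k + 1) a' := by
      refine ⟨(mem_part.1 ha'm).1, fun r s h1 h2' => ?_⟩
      have hdeep : Deep k (c⁻¹ * a) := deep_mul (deep_inv hcd) hd
      rcases Nat.lt_or_ge s.val (r.val + k) with h3 | h3
      · rw [ha']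
        exact (deep_mul hdeep (deep_theta φ hcd)).2 r s h1 h3
      have hrs : s.val = r.val + k := by omega
      rw [ha', mul_entry hdeep (deep_theta φ hcd) h1 hrs.le, mul_entry (deep_inv hcd) hd h1 hrs.le,
        inv_entry hcd h1 hrs.le, theta_apply, inv_entry hcd (by simp only [Fin.val_rev]; omega)
          (by simp only [Fin.val_rev]; omega), hneg, hneg, hcf r s hrs, hcf s.rev r.rev (by simp only [Fin.val_rev]; omega)]
      have hs := hsymm r s hrs
      simp only [f]
      have e1 : s.rev.val + r.rev.val + 1 = 2 * n - (r.val + s.val + 1) := by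
        simp only [Fin.val_rev]; omega
      rcases Nat.lt_trichotomy (r.val + s.val + 1) n with h | h | h
      · rw [if_pos h, if_neg (by omega), if_neg (by omega), map_zero, add_zero, ← two_mul, h2, zero_mul]
      · rw [if_neg (by omega), if_pos h, if_neg (by omega), if_pos (by omega), map_mul, hs]
        linear_combination ((a : Matrix (Fin n) (Fin n) F) r s) * hw + ((a : Matrix (Fin n) (Fin n) F) r s) * h2
      · rw [if_neg (by omega), if_neg (by omega), if_pos (by omega), hs, zero_add, ← two_mul, h2, zero_mul]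
    obtain ⟨c', hc', he⟩ := ih (k + 1) a' (by omega) (by omega) ha'm hco' hd'
    refine ⟨c * c', mul_mem hc hc', ?_⟩
    rw [map_mul, _root_.mul_inv_rev, show c * c' * ((theta φ c')⁻¹ * (theta φ c)⁻¹) =
      c * (c' * (theta φ c')⁻¹) * (theta φ c)⁻¹ by group, ← he, ha']
    group

end Layers

/-- **The Bruhat decomposition of the fixed group.** -/
theorem exists_bruhat (hφ : ∀ x, φ (φ x) = x) (hne : ∃ x, φ x ≠ x) (h2 : (2 : F) = 0) {g : SLn}
    (hg : g ∈ Fix φ) : ∃ σ : Equiv.Perm (Fin n), ∃ m u v : SLn, IsMono σ m ∧ m ∈ Fix φ ∧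
      (u ∈ UT ∧ u ∈ Fix φ) ∧ (v ∈ UT ∧ v ∈ Fix φ) ∧ g = u * m * v := by
  obtain ⟨σ, m, u, hu, v, hv, hm, rfl⟩ := exists_mono g
  have hg' : theta φ u * theta φ m * theta φ v = u * m * v := by rw [← map_mul, ← map_mul]; exact hg
  have hfix : theta φ m = m := mono_unique hm (theta_mono φ hm)
    (mul_mem (inv_mem (theta_mem_rad φ hu)) hu) (mul_mem hv (inv_mem (theta_mem_rad φ hv))) (by
      rw [show (theta φ u)⁻¹ * u * m * (v * (theta φ v)⁻¹) = (theta φ u)⁻¹ * (u * m * v) * (theta φ v)⁻¹ by group,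
        ← hg']
      group)
  rw [hfix] at hg'
  have ha : u⁻¹ * theta φ u ∈ Part m := by
    refine mem_part.2 ⟨mul_mem (inv_mem hu) (theta_mem_rad φ hu), ?_⟩
    rw [show m⁻¹ * (u⁻¹ * theta φ u) * m = v * (theta φ v)⁻¹ by
      calc m⁻¹ * (u⁻¹ * theta φ u) * m = (u * m)⁻¹ * (theta φ u * m * theta φ v) * (theta φ v)⁻¹ := by group
        _ = v * (theta φ v)⁻¹ := by rw [hg']; group]
    exact mul_mem hv (inv_mem (theta_mem_rad φ hv))
  obtain ⟨c, hc, hce⟩ := exists_coboundary φ hφ hne h2 hm hfix ha (by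
    rw [map_mul, map_inv, theta_theta φ hφ]; group)
  have hu' : theta φ (u * c) = u * c := by
    rw [map_mul]
    calc theta φ u * theta φ c = u * (u⁻¹ * theta φ u) * theta φ c := by group
      _ = u * c := by rw [hce]; group
  obtain ⟨hc1, hc2⟩ := mem_part.1 hc
  refine ⟨σ, m, u * c, (m⁻¹ * c * m)⁻¹ * v, hm, hfix, ⟨mul_mem hu hc1, hu'⟩, ⟨mul_mem (inv_mem hc2) hv, ?_⟩, by group⟩
  rw [mem_fix, show (m⁻¹ * c * m)⁻¹ * v = m⁻¹ * (u * c)⁻¹ * (u * m * v) by group, map_mul, map_mul, map_inv, map_inv,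
    hu', hfix]
  have : theta φ (u * m * v) = u * m * v := hg
  rw [this]

end Cfsg.Lib.Linear.Pronormal.Twisted
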