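import Mathlib

/-!
# A wreath product with the group of order two in the general linear group of a doubled space

If a `2`-subgroup `W` of `GL U` is irreducible and only scalars of odd order normalise it, the same holds for
`W ≀ 2` on `U × U`, and for its intersection with the special linear group.
-/

set_option autoImplicit false

namespace Cfsg.Lib.Linear.Pronormal

open Module

variable {F : Type*} [Field F] {U : Type*} [AddCommGroup U] [Module F U]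

/-- Scalar automorphisms. -/
def IsScalar (g : U ≃ₗ[F] U) : Prop := ∃ c : F, ∀ u, g u = c • u

/-- A set of automorphisms without proper invariant subspace. -/
def Irr (S : Set (U ≃ₗ[F] U)) : Prop :=
  ∀ A : Submodule F U, (∀ g ∈ S, ∀ u ∈ A, g u ∈ A) → A = ⊥ ∨ A = ⊤

theorem Irr.mono {S T : Set (U ≃ₗ[F] U)} (h : Irr S) (hST : S ⊆ T) : Irr T :=
  fun A hA => h A fun g hg => hA g (hST hg)

/-- Automorphisms acting on the two summands. -/
noncomputable def pr : (U ≃ₗ[F] U) × (U ≃ₗ[F] U) →* ((U × U) ≃ₗ[F] (U × U)) where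
  toFun g := g.1.prodCongr g.2
  map_one' := LinearEquiv.ext fun _ => rfl
  map_mul' _ _ := LinearEquiv.ext fun _ => rfl

/-- The exchange of the summands. -/
noncomputable def sigma : (U × U) ≃ₗ[F] (U × U) := LinearEquiv.prodComm F U U

@[simp] theorem pr_apply (a b : U ≃ₗ[F] U) (u v : U) : pr (a, b) (u, v) = (a u, b v) := rfl

@[simp] theorem sigma_apply (u v : U) : (sigma : (U × U) ≃ₗ[F] (U × U)) (u, v) = (v, u) := rfl

theorem sigma_mul_self : (sigma : (U × U) ≃ₗ[F] (U × U)) * sigma = 1 := LinearEquiv.ext fun _ => rfl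

theorem sigma_pr (a b : U ≃ₗ[F] U) : sigma * pr (a, b) = pr (b, a) * sigma := LinearEquiv.ext fun _ => rfl

theorem sigma_inv : (sigma : (U × U) ≃ₗ[F] (U × U))⁻¹ = sigma := inv_eq_of_mul_eq_one_right sigma_mul_self

theorem swap_conj (p q a b : U ≃ₗ[F] U) :
    pr (p, q) * sigma * pr (a, b) * (pr (p, q) * sigma)⁻¹ = pr (p * b * p⁻¹, q * a * q⁻¹) := by
  rw [mul_inv_rev, sigma_inv, mul_assoc (pr (p, q)) sigma, sigma_pr,
    show pr (p, q) * (pr (b, a) * sigma) * (sigma * (pr (p, q))⁻¹) =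
      pr (p, q) * pr (b, a) * (sigma * sigma) * (pr (p, q))⁻¹ by group,
    sigma_mul_self, mul_one, ← map_inv, ← map_mul, ← map_mul]
  rfl

theorem pr_injective : Function.Injective (pr : (U ≃ₗ[F] U) × (U ≃ₗ[F] U) →* _) := by
  intro g h e
  refine Prod.ext (LinearEquiv.ext fun u => ?_) (LinearEquiv.ext fun u => ?_)
  · exact congrArg Prod.fst (LinearEquiv.congr_fun e (u, 0))
  · exact congrArg Prod.snd (LinearEquiv.congr_fun e (0, u))

theorem pr_ne_swap [Nontrivial U] (a b c d : U ≃ₗ[F] U) : pr (a, b) ≠ pr (c, d) * sigma := by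
  intro e
  obtain ⟨u, hu⟩ := exists_ne (0 : U)
  have h := congrArg Prod.fst (LinearEquiv.congr_fun e (u, 0))
  change a u = c 0 at h
  rw [map_zero] at h
  exact hu (a.injective (h.trans (map_zero a).symm))

/-- The wreath product with the exchange. -/
def wr (W : Subgroup (U ≃ₗ[F] U)) : Subgroup ((U × U) ≃ₗ[F] (U × U)) where
  carrier := {g | ∃ a ∈ W, ∃ b ∈ W, g = pr (a, b) ∨ g = pr (a, b) * sigma}
  one_mem' := ⟨1, one_mem _, 1, one_mem _, Or.inl (map_one pr).symm⟩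
  mul_mem' := by
    rintro g h ⟨a, ha, b, hb, rfl | rfl⟩ ⟨c, hc, d, hd, rfl | rfl⟩
    · exact ⟨a * c, mul_mem ha hc, b * d, mul_mem hb hd, Or.inl (by rw [← map_mul]; rfl)⟩
    · exact ⟨a * c, mul_mem ha hc, b * d, mul_mem hb hd, Or.inr (by rw [← mul_assoc, ← map_mul]; rfl)⟩
    · exact ⟨a * d, mul_mem ha hd, b * c, mul_mem hb hc, Or.inr (by
        rw [mul_assoc, sigma_pr, ← mul_assoc, ← map_mul]; rfl)⟩
    · exact ⟨a * d, mul_mem ha hd, b * c, mul_mem hb hc, Or.inl (by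
        rw [mul_assoc, ← mul_assoc sigma, sigma_pr, mul_assoc (pr (d, c)), sigma_mul_self, mul_one, ← map_mul]; rfl)⟩
  inv_mem' := by
    rintro g ⟨a, ha, b, hb, rfl | rfl⟩
    · exact ⟨a⁻¹, inv_mem ha, b⁻¹, inv_mem hb, Or.inl (by rw [← map_inv]; rfl)⟩
    · refine ⟨b⁻¹, inv_mem hb, a⁻¹, inv_mem ha, Or.inr ?_⟩
      rw [mul_inv_rev, sigma_inv, ← map_inv]
      exact sigma_pr a⁻¹ b⁻¹

theorem pr_mem_wr {W : Subgroup (U ≃ₗ[F] U)} {a b : U ≃ₗ[F] U} (ha : a ∈ W) (hb : b ∈ W) : pr (a, b) ∈ wr W :=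
  ⟨a, ha, b, hb, Or.inl rfl⟩

theorem swap_mem_wr {W : Subgroup (U ≃ₗ[F] U)} {a b : U ≃ₗ[F] U} (ha : a ∈ W) (hb : b ∈ W) :
    pr (a, b) * sigma ∈ wr W :=
  ⟨a, ha, b, hb, Or.inr rfl⟩

theorem pr_mem_wr_iff [Nontrivial U] {W : Subgroup (U ≃ₗ[F] U)} {a b : U ≃ₗ[F] U} :
    pr (a, b) ∈ wr W ↔ a ∈ W ∧ b ∈ W := by
  refine ⟨?_, fun h => pr_mem_wr h.1 h.2⟩
  rintro ⟨c, hc, d, hd, h | h⟩
  · obtain ⟨rfl, rfl⟩ := Prod.ext_iff.1 (pr_injective h)
    exact ⟨hc, hd⟩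
  · exact absurd h (pr_ne_swap a b c d)

/-- The order of the wreath product. -/
theorem card_wr [Nontrivial U] (W : Subgroup (U ≃ₗ[F] U)) [Finite W] : Nat.card (wr W) = 2 * Nat.card W ^ 2 := by
  let f : W × W ⊕ W × W → wr W := Sum.elim (fun g => ⟨pr ((g.1 : U ≃ₗ[F] U), (g.2 : U ≃ₗ[F] U)), pr_mem_wr g.1.2 g.2.2⟩)
    (fun g => ⟨pr ((g.1 : U ≃ₗ[F] U), (g.2 : U ≃ₗ[F] U)) * sigma, swap_mem_wr g.1.2 g.2.2⟩)
  have hf : Function.Bijective f := by
    constructor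
    · rintro (g | g) (h | h) e <;> have e' := congrArg Subtype.val e <;> simp only [f, Sum.elim_inl, Sum.elim_inr] at e'
      · exact congrArg Sum.inl (Prod.ext (Subtype.ext (congrArg Prod.fst (pr_injective e')))
          (Subtype.ext (congrArg Prod.snd (pr_injective e'))))
      · exact absurd e' (pr_ne_swap _ _ _ _)
      · exact absurd e'.symm (pr_ne_swap _ _ _ _)
      · have e'' := pr_injective (mul_right_cancel e')
        exact congrArg Sum.inr (Prod.ext (Subtype.ext (congrArg Prod.fst e'')) (Subtype.ext (congrArg Prod.snd e'')))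
    · rintro ⟨g, a, ha, b, hb, rfl | rfl⟩
      · exact ⟨Sum.inl (⟨a, ha⟩, ⟨b, hb⟩), rfl⟩
      · exact ⟨Sum.inr (⟨a, ha⟩, ⟨b, hb⟩), rfl⟩
  rw [← Nat.card_eq_of_bijective f hf, Nat.card_sum, Nat.card_prod]
  ring

variable {S : Set ((U × U) ≃ₗ[F] (U × U))}

/-- The invariant subspaces of a group preserving the summands with irreducible projections. -/
theorem invariant_cases {c : U ≃ₗ[F] U} (hc : c ≠ 1) (hcS : pr (c, 1) ∈ S)
    (h1 : Irr {a : U ≃ₗ[F] U | ∃ b, pr (a, b) ∈ S}) (h2 : Irr {b : U ≃ₗ[F] U | ∃ a, pr (a, b) ∈ S})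
    (A : Submodule F (U × U)) (hA : ∀ g ∈ S, ∀ u ∈ A, g u ∈ A) :
    A = ⊥ ∨ A = ⊤ ∨ A = (⊤ : Submodule F U).prod ⊥ ∨ A = (⊥ : Submodule F U).prod ⊤ := by
  rcases h1 (A.comap (LinearMap.inl F U U)) (fun a ⟨b, hab⟩ u hu => by
      rw [Submodule.mem_comap] at hu ⊢
      have := hA _ hab _ hu
      simpa using this) with h | h
  · have hfix : ∀ u ∈ A, c u.1 = u.1 := fun u hu => by
      have h3 : c u.1 - u.1 ∈ A.comap (LinearMap.inl F U U) := by
        rw [Submodule.mem_comap]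
        have := sub_mem (hA _ hcS u hu) hu
        obtain ⟨x, y⟩ := u
        simpa using this
      rw [h, Submodule.mem_bot, sub_eq_zero] at h3
      exact h3
    rcases h1 (A.map (LinearMap.fst F U U)) (fun a ⟨b, hab⟩ u hu => by
        obtain ⟨w, hw, rfl⟩ := Submodule.mem_map.1 hu
        exact Submodule.mem_map.2 ⟨_, hA _ hab _ hw, rfl⟩) with h4 | h4
    swap
    · refine absurd (LinearEquiv.ext fun u => ?_) hc
      obtain ⟨w, hw, rfl⟩ := Submodule.mem_map.1 (show u ∈ A.map (LinearMap.fst F U U) from h4 ▸ Submodule.mem_top)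
      exact hfix w hw
    have hfst : ∀ u ∈ A, u.1 = 0 := fun u hu => by
      have := Submodule.mem_map_of_mem (f := LinearMap.fst F U U) hu
      rw [h4, Submodule.mem_bot] at this
      exact this
    rcases h2 (A.comap (LinearMap.inr F U U)) (fun b ⟨a, hab⟩ u hu => by
        rw [Submodule.mem_comap] at hu ⊢
        have := hA _ hab _ hu
        simpa using this) with h5 | h5
    · left
      rw [eq_bot_iff]
      rintro ⟨x, y⟩ hu
      have hx : x = 0 := hfst _ hu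
      subst hx
      have hy : y ∈ A.comap (LinearMap.inr F U U) := hu
      rw [h5, Submodule.mem_bot] at hy
      rw [Submodule.mem_bot, hy]
      rfl
    · right; right; right
      refine le_antisymm (fun u hu => ⟨hfst u hu, Submodule.mem_top⟩) ?_
      rintro ⟨x, y⟩ ⟨hx, -⟩
      have hx' : x = 0 := hx
      subst hx'
      exact (show y ∈ A.comap (LinearMap.inr F U U) from h5 ▸ Submodule.mem_top)
  · have hin : ∀ x : U, (x, (0 : U)) ∈ A := fun x =>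
      (show x ∈ A.comap (LinearMap.inl F U U) from h ▸ Submodule.mem_top)
    have hsnd : ∀ x y : U, (x, y) ∈ A → (0, y) ∈ A := fun x y hxy => by simpa using sub_mem hxy (hin x)
    rcases h2 (A.comap (LinearMap.inr F U U)) (fun b ⟨a, hab⟩ u hu => by
        rw [Submodule.mem_comap] at hu ⊢
        have := hA _ hab _ hu
        simpa using this) with h5 | h5
    · right; right; left
      refine le_antisymm ?_ ?_
      · rintro ⟨x, y⟩ hu
        refine ⟨Submodule.mem_top, ?_⟩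
        have hy : y ∈ A.comap (LinearMap.inr F U U) := hsnd x y hu
        rw [h5] at hy
        exact hy
      · rintro ⟨x, y⟩ ⟨-, hy⟩
        have hy' : y = 0 := hy
        subst hy'
        exact hin x
    · right; left
      rw [eq_top_iff]
      rintro ⟨x, y⟩ -
      have hy : (0, y) ∈ A := (show y ∈ A.comap (LinearMap.inr F U U) from h5 ▸ Submodule.mem_top)
      simpa using add_mem (hin x) hy

theorem not_invariant [Nontrivial U] (p q : U ≃ₗ[F] U) :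
    ¬ (∀ u ∈ (⊤ : Submodule F U).prod (⊥ : Submodule F U),
        (pr (p, q) * sigma : (U × U) ≃ₗ[F] (U × U)) u ∈ (⊤ : Submodule F U).prod (⊥ : Submodule F U)) ∧
    ¬ (∀ u ∈ (⊥ : Submodule F U).prod (⊤ : Submodule F U),
        (pr (p, q) * sigma : (U × U) ≃ₗ[F] (U × U)) u ∈ (⊥ : Submodule F U).prod (⊤ : Submodule F U)) := by
  obtain ⟨u, hu⟩ := exists_ne (0 : U)
  constructor
  · intro h
    have h1 : q u = 0 := (h (u, 0) ⟨Submodule.mem_top, rfl⟩).2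
    exact hu (q.injective (h1.trans (map_zero q).symm))
  · intro h
    have h1 : p u = 0 := (h (0, u) ⟨rfl, Submodule.mem_top⟩).1
    exact hu (p.injective (h1.trans (map_zero p).symm))

/-- With an exchange, such a group is irreducible. -/
theorem irr_of_swap [Nontrivial U] {c : U ≃ₗ[F] U} (hc : c ≠ 1) (hcS : pr (c, 1) ∈ S)
    (h1 : Irr {a : U ≃ₗ[F] U | ∃ b, pr (a, b) ∈ S}) (h2 : Irr {b : U ≃ₗ[F] U | ∃ a, pr (a, b) ∈ S})
    {p q : U ≃ₗ[F] U} (ht : pr (p, q) * sigma ∈ S) : Irr S := by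
  intro A hA
  rcases invariant_cases hc hcS h1 h2 A hA with h | h | h | h
  · exact Or.inl h
  · exact Or.inr h
  · exact absurd (fun u hu => h ▸ hA _ ht u (h ▸ hu)) (not_invariant p q).1
  · exact absurd (fun u hu => h ▸ hA _ ht u (h ▸ hu)) (not_invariant p q).2

theorem eq_one_of_two_power {G : Type*} [Group G] {g : G} (k : ℕ) (h : g ^ 2 ^ k = 1) {N : ℕ} (hN : Odd N)
    (h' : g ^ N = 1) : g = 1 := by
  have h1 := Nat.dvd_gcd (orderOf_dvd_of_pow_eq_one h) (orderOf_dvd_of_pow_eq_one h')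
  rw [Nat.Coprime.gcd_eq_one ((Nat.coprime_two_left.2 hN).pow_left k), Nat.dvd_one, orderOf_eq_one_iff] at h1
  exact h1

variable [Nontrivial U] [Finite ((U × U) ≃ₗ[F] (U × U))]

/-- **Only scalars of odd order normalise such a subgroup of the wreath product.** -/
theorem scalar_of_normalizes {W : Subgroup (U ≃ₗ[F] U)} (h2 : IsPGroup 2 (wr W))
    (hW : ∀ x : U ≃ₗ[F] U, Odd (orderOf x) → (∀ g ∈ W, x * g * x⁻¹ ∈ W) → IsScalar x) (hirr : Irr (W : Set (U ≃ₗ[F] U)))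
    {S : Subgroup ((U × U) ≃ₗ[F] (U × U))} (hS : S ≤ wr W)
    {p q : U ≃ₗ[F] U} (hp : p ∈ W) (hq : q ∈ W) (ht : pr (p, q) * sigma ∈ S)
    (hfull : ∀ a ∈ W, ∃ b ∈ W, pr (a, b) ∈ S)
    (hsq : ∃ a ∈ W, ∃ b ∈ W, pr (a, b) ∈ S ∧ a * a ≠ 1 ∧ b * b = 1)
    (hproj : ∀ L : Subgroup ((U × U) ≃ₗ[F] (U × U)), (∀ g ∈ L, ∃ a ∈ W, ∃ b ∈ W, g = pr (a, b) ∧ pr (a, b) ∈ S) →
      (∀ a ∈ W, ∀ b ∈ W, pr (a, b) ∈ S → pr (a, b) * pr (a, b) ∈ L) →
      (∀ a ∈ W, ∀ b ∈ W, ∀ c ∈ W, ∀ d ∈ W, pr (a, b) ∈ S → pr (c, d) ∈ S → pr (a, b) ∉ L → pr (c, d) ∉ L →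
        pr (a * c, b * d) ∈ L) →
      (∀ a b, pr (a, b) ∈ L → pr (p * b * p⁻¹, q * a * q⁻¹) ∈ L) →
      Irr {a : U ≃ₗ[F] U | ∃ b, pr (a, b) ∈ L})
    {x : (U × U) ≃ₗ[F] (U × U)} (hx : Odd (orderOf x)) (hn : ∀ g ∈ S, x * g * x⁻¹ ∈ S) : IsScalar x := by
  have hfull' : ∀ b ∈ W, ∃ a ∈ W, pr (a, b) ∈ S := by
    intro b hb
    obtain ⟨d, hd, hS'⟩ := hfull (q⁻¹ * b * q) (mul_mem (mul_mem (inv_mem hq) hb) hq)
    refine ⟨p * d * p⁻¹, mul_mem (mul_mem hp hd) (inv_mem hp), ?_⟩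
    have h := mul_mem (mul_mem ht hS') (inv_mem ht)
    rw [swap_conj] at h
    simpa [mul_assoc] using h
  have hn' : ∀ g ∈ S, x⁻¹ * g * x ∈ S := by
    have hk : ∀ (k : ℕ), ∀ g ∈ S, x ^ k * g * (x ^ k)⁻¹ ∈ S := by
      intro k
      induction k with
      | zero => intro g hg; simpa using hg
      | succ k ih => intro g hg; simpa [pow_succ', mul_assoc] using hn _ (ih g hg)
    intro g hg
    have e : x⁻¹ = x ^ (orderOf x - 1) := inv_eq_of_mul_eq_one_right (by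
      rw [← pow_succ', Nat.sub_add_cancel (orderOf_pos x), pow_orderOf_eq_one])
    have := hk (orderOf x - 1) g hg
    rwa [← e, inv_inv] at this
  let IsP : ((U × U) ≃ₗ[F] (U × U)) → Prop := fun g => ∃ a ∈ W, ∃ b ∈ W, g = pr (a, b)
  have hmulP : ∀ g h, g ∈ S → h ∈ S → ¬ IsP g → ¬ IsP h → IsP (g * h) := by
    intro g h hg hh hgp hhp
    obtain ⟨a, ha, b, hb, rfl | rfl⟩ := hS hg
    · exact absurd ⟨a, ha, b, hb, rfl⟩ hgp
    obtain ⟨c, hc, d, hd, rfl | rfl⟩ := hS hh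
    · exact absurd ⟨c, hc, d, hd, rfl⟩ hhp
    exact ⟨a * d, mul_mem ha hd, b * c, mul_mem hb hc, by
      rw [mul_assoc, ← mul_assoc sigma, sigma_pr, mul_assoc (pr (d, c)), sigma_mul_self, mul_one, ← map_mul]; rfl⟩
  have hconjP : ∀ g t, t ∈ S → IsP g → IsP (t * g * t⁻¹) := by
    rintro g t ht' ⟨a, ha, b, hb, rfl⟩
    obtain ⟨c, hc, d, hd, rfl | rfl⟩ := hS ht'
    · exact ⟨c * a * c⁻¹, mul_mem (mul_mem hc ha) (inv_mem hc), d * b * d⁻¹, mul_mem (mul_mem hd hb) (inv_mem hd), by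
        rw [← map_inv, ← map_mul, ← map_mul]; rfl⟩
    · exact ⟨_, mul_mem (mul_mem hc hb) (inv_mem hc), _, mul_mem (mul_mem hd ha) (inv_mem hd), swap_conj c d a b⟩
  -- pairs are carried to pairs
  have hpair : ∀ g ∈ S, IsP g → IsP (x * g * x⁻¹) := by
    by_contra hcon
    push Not at hcon
    obtain ⟨g₀, hg₀, hg₀p, hbad⟩ := hcon
    let L : Subgroup ((U × U) ≃ₗ[F] (U × U)) :=
      { carrier := {g | g ∈ S ∧ IsP g ∧ IsP (x⁻¹ * g * x)}
        one_mem' := ⟨one_mem _, ⟨1, one_mem _, 1, one_mem _, (map_one pr).symm⟩, ⟨1, one_mem _, 1, one_mem _, by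
          rw [mul_one, inv_mul_cancel]; exact (map_one pr).symm⟩⟩
        mul_mem' := by
          rintro g h ⟨hg, ⟨a, ha, b, hb, e1⟩, ⟨a', ha', b', hb', e1'⟩⟩ ⟨hh, ⟨c, hc, d, hd, e2⟩, ⟨c', hc', d', hd', e2'⟩⟩
          refine ⟨mul_mem hg hh, ⟨a * c, mul_mem ha hc, b * d, mul_mem hb hd, by rw [e1, e2, ← map_mul]; rfl⟩,
            ⟨a' * c', mul_mem ha' hc', b' * d', mul_mem hb' hd', ?_⟩⟩
          rw [show x⁻¹ * (g * h) * x = (x⁻¹ * g * x) * (x⁻¹ * h * x) by group, e1', e2', ← map_mul]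
          rfl
        inv_mem' := by
          rintro g ⟨hg, ⟨a, ha, b, hb, e1⟩, ⟨a', ha', b', hb', e1'⟩⟩
          refine ⟨inv_mem hg, ⟨a⁻¹, inv_mem ha, b⁻¹, inv_mem hb, by rw [e1, ← map_inv]; rfl⟩,
            ⟨a'⁻¹, inv_mem ha', b'⁻¹, inv_mem hb', ?_⟩⟩
          rw [show x⁻¹ * g⁻¹ * x = (x⁻¹ * g * x)⁻¹ by group, e1', ← map_inv]
          rfl }
    have hirr1 : Irr {a : U ≃ₗ[F] U | ∃ b, pr (a, b) ∈ L} := by
      refine hproj L (fun g ⟨hg, ⟨a, ha, b, hb, e⟩, _⟩ => ⟨a, ha, b, hb, e, e ▸ hg⟩) (fun a ha b hb hab => ?_)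
        (fun a ha b hb c hc d hd hab hcd hna hnc => ?_) (fun a b hab => ?_)
      · refine ⟨mul_mem hab hab, ⟨a * a, mul_mem ha ha, b * b, mul_mem hb hb, by rw [← map_mul]; rfl⟩, ?_⟩
        rw [show x⁻¹ * (pr (a, b) * pr (a, b)) * x = (x⁻¹ * pr (a, b) * x) * (x⁻¹ * pr (a, b) * x) by group]
        by_cases h : IsP (x⁻¹ * pr (a, b) * x)
        · obtain ⟨a', ha', b', hb', e⟩ := h
          exact ⟨a' * a', mul_mem ha' ha', b' * b', mul_mem hb' hb', by rw [e, ← map_mul]; rfl⟩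
        · exact hmulP _ _ (hn' _ hab) (hn' _ hab) h h
      · have e : pr (a * c, b * d) = pr (a, b) * pr (c, d) := by rw [← map_mul]; rfl
        rw [e]
        refine ⟨mul_mem hab hcd, ⟨a * c, mul_mem ha hc, b * d, mul_mem hb hd, e.symm⟩, ?_⟩
        rw [show x⁻¹ * (pr (a, b) * pr (c, d)) * x = (x⁻¹ * pr (a, b) * x) * (x⁻¹ * pr (c, d) * x) by group]
        exact hmulP _ _ (hn' _ hab) (hn' _ hcd) (fun h => hna ⟨hab, ⟨a, ha, b, hb, rfl⟩, h⟩)
          (fun h => hnc ⟨hcd, ⟨c, hc, d, hd, rfl⟩, h⟩)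
      · obtain ⟨hab, hP1, hP2⟩ := hab
        rw [← swap_conj]
        refine ⟨mul_mem (mul_mem ht hab) (inv_mem ht), hconjP _ _ ht hP1, ?_⟩
        rw [show x⁻¹ * (pr (p, q) * sigma * pr (a, b) * (pr (p, q) * sigma)⁻¹) * x =
          (x⁻¹ * (pr (p, q) * sigma) * x) * (x⁻¹ * pr (a, b) * x) * (x⁻¹ * (pr (p, q) * sigma) * x)⁻¹ by group]
        exact hconjP _ _ (hn' _ ht) hP2
    have hirr2 : Irr {b : U ≃ₗ[F] U | ∃ a, pr (a, b) ∈ L} := by
      intro A hA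
      have hmap : A.map (p : U →ₗ[F] U) = ⊥ ∨ A.map (p : U →ₗ[F] U) = ⊤ := by
        refine hirr1 _ ?_
        rintro a ⟨b, hab⟩ u hu
        obtain ⟨w, hw, rfl⟩ := Submodule.mem_map.1 hu
        refine Submodule.mem_map.2 ⟨(p⁻¹ * a * p) w, hA _ ⟨q⁻¹ * b * q, ?_⟩ _ hw, ?_⟩
        · have h := hab
          obtain ⟨hS', hP1, hP2⟩ := h
          have e : pr (q⁻¹ * b * q, p⁻¹ * a * p) = (pr (p, q) * sigma)⁻¹ * pr (a, b) * (pr (p, q) * sigma) := by
            rw [show (pr (p, q) * sigma)⁻¹ = pr (q⁻¹, p⁻¹) * sigma by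
              rw [mul_inv_rev, sigma_inv, ← map_inv]; exact sigma_pr p⁻¹ q⁻¹,
              show pr (q⁻¹, p⁻¹) * sigma * pr (a, b) * (pr (p, q) * sigma) =
                pr (q⁻¹, p⁻¹) * (sigma * pr (a, b)) * pr (p, q) * sigma by group, sigma_pr,
              ← mul_assoc, mul_assoc _ sigma, sigma_pr, ← mul_assoc, mul_assoc _ sigma, sigma_mul_self, mul_one,
              ← map_mul, ← map_mul]
            rfl
          rw [e]
          refine ⟨mul_mem (mul_mem (inv_mem ht) hS') ht, ?_, ?_⟩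
          · simpa using hconjP _ _ (inv_mem ht) hP1
          · rw [show x⁻¹ * ((pr (p, q) * sigma)⁻¹ * pr (a, b) * (pr (p, q) * sigma)) * x =
              (x⁻¹ * (pr (p, q) * sigma)⁻¹ * x) * (x⁻¹ * pr (a, b) * x) *
                (x⁻¹ * (pr (p, q) * sigma)⁻¹ * x)⁻¹ by group]
            exact hconjP _ _ (hn' _ (inv_mem ht)) hP2
        · show p (p⁻¹ (a (p w))) = a (p w)
          exact p.apply_symm_apply _
      rcases hmap with h | h
      · refine Or.inl (eq_bot_iff.2 fun u hu => ?_)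
        have h' := Submodule.mem_map_of_mem (f := (p : U →ₗ[F] U)) hu
        rw [h, Submodule.mem_bot] at h'
        exact (Submodule.mem_bot F).2 (p.injective (h'.trans (map_zero p).symm))
      · refine Or.inr (eq_top_iff.2 fun u _ => ?_)
        obtain ⟨w, hw, e⟩ := Submodule.mem_map.1 (show p u ∈ A.map (p : U →ₗ[F] U) from h ▸ Submodule.mem_top)
        rwa [← p.injective e]
    -- the conjugate of a pair that is no pair exchanges the summands
    obtain ⟨r, hr, s, hs, e | e⟩ := hS (hn g₀ hg₀)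
    · exact hbad ⟨r, hr, s, hs, e⟩
    let Mx : Set ((U × U) ≃ₗ[F] (U × U)) := {g | g ∈ S ∧ IsP (x⁻¹ * g * x)}
    obtain ⟨a, ha, b, hb, hab, ha2, hb2⟩ := hsq
    have hsqL : pr (a * a, 1) ∈ L := by
      have e1 : pr (a * a, 1) = pr (a, b) * pr (a, b) := by
        rw [← map_mul]; exact congrArg pr (Prod.ext rfl hb2.symm)
      rw [e1]
      refine ⟨mul_mem hab hab, ⟨a * a, mul_mem ha ha, 1, one_mem _, e1.symm⟩, ?_⟩
      rw [show x⁻¹ * (pr (a, b) * pr (a, b)) * x = (x⁻¹ * pr (a, b) * x) * (x⁻¹ * pr (a, b) * x) by group]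
      by_cases h : IsP (x⁻¹ * pr (a, b) * x)
      · obtain ⟨a', ha', b', hb', e'⟩ := h
        exact ⟨a' * a', mul_mem ha' ha', b' * b', mul_mem hb' hb', by rw [e', ← map_mul]; rfl⟩
      · exact hmulP _ _ (hn' _ hab) (hn' _ hab) h h
    have hMirr : Irr Mx := by
      refine irr_of_swap (c := a * a) ha2 ⟨hsqL.1, hsqL.2.2⟩ ?_ ?_ (p := r) (q := s) ?_
      · exact hirr1.mono fun u ⟨v, huv⟩ => ⟨v, huv.1, huv.2.2⟩
      · exact hirr2.mono fun u ⟨v, huv⟩ => ⟨v, huv.1, huv.2.2⟩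
      · rw [← e]
        refine ⟨hn _ hg₀, ?_⟩
        rw [show x⁻¹ * (x * g₀ * x⁻¹) * x = g₀ by group]
        exact hg₀p
    rcases hMirr (((⊤ : Submodule F U).prod (⊥ : Submodule F U)).map (x : (U × U) →ₗ[F] (U × U))) (by
        rintro g ⟨-, c, hc, d, hd, e'⟩ u hu
        obtain ⟨w, hw, rfl⟩ := Submodule.mem_map.1 hu
        refine Submodule.mem_map.2 ⟨(x⁻¹ * g * x) w, ?_, x.apply_symm_apply _⟩
        rw [e']
        obtain ⟨w1, w2⟩ := w
        refine ⟨Submodule.mem_top, ?_⟩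
        have hw2 : w2 = 0 := hw.2
        subst hw2
        exact map_zero d) with h | h
    · obtain ⟨u, hu⟩ := exists_ne (0 : U)
      have h' := Submodule.mem_map_of_mem (f := (x : (U × U) →ₗ[F] (U × U)))
        (show (u, (0 : U)) ∈ (⊤ : Submodule F U).prod (⊥ : Submodule F U) from ⟨Submodule.mem_top, rfl⟩)
      rw [h, Submodule.mem_bot] at h'
      exact hu (congrArg Prod.fst (x.injective (h'.trans (map_zero x).symm)))
    · obtain ⟨u, hu⟩ := exists_ne (0 : U)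
      obtain ⟨w, hw, e'⟩ := Submodule.mem_map.1 (show x (0, u) ∈
        ((⊤ : Submodule F U).prod (⊥ : Submodule F U)).map (x : (U × U) →ₗ[F] (U × U)) from h ▸ Submodule.mem_top)
      rw [x.injective e'] at hw
      exact hu hw.2
  -- so the element permutes the two summands, and fixes them as its order is odd
  let e₁ : Submodule F (U × U) := (⊤ : Submodule F U).prod ⊥
  let e₂ : Submodule F (U × U) := (⊥ : Submodule F U).prod ⊤
  let Sp : Set ((U × U) ≃ₗ[F] (U × U)) := {g | g ∈ S ∧ IsP g}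
  obtain ⟨a₀, ha₀, b₀, hb₀, hab₀, ha₀2, hb₀2⟩ := hsq
  have hc₀ : pr (a₀ * a₀, 1) ∈ Sp := by
    have e1 : pr (a₀ * a₀, 1) = pr (a₀, b₀) * pr (a₀, b₀) := by
      rw [← map_mul]; exact congrArg pr (Prod.ext rfl hb₀2.symm)
    exact ⟨e1 ▸ mul_mem hab₀ hab₀, a₀ * a₀, mul_mem ha₀ ha₀, 1, one_mem _, rfl⟩
  have hpair' : ∀ g ∈ S, IsP g → IsP (x⁻¹ * g * x) := by
    intro g hg hgp
    have hk : ∀ k : ℕ, IsP (x ^ k * g * (x ^ k)⁻¹) ∧ x ^ k * g * (x ^ k)⁻¹ ∈ S := by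
      intro k
      induction k with
      | zero => simpa using ⟨hgp, hg⟩
      | succ k ih =>
        rw [show x ^ (k + 1) * g * (x ^ (k + 1))⁻¹ = x * (x ^ k * g * (x ^ k)⁻¹) * x⁻¹ by rw [pow_succ']; group]
        exact ⟨hpair _ ih.2 ih.1, hn _ ih.2⟩
    have e : x⁻¹ = x ^ (orderOf x - 1) := inv_eq_of_mul_eq_one_right (by
      rw [← pow_succ', Nat.sub_add_cancel (orderOf_pos x), pow_orderOf_eq_one])
    have := (hk (orderOf x - 1)).1
    rwa [← e, inv_inv] at this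
  have himage : ∀ A : Submodule F (U × U), (∀ g ∈ Sp, ∀ u ∈ A, g u ∈ A) →
      ∀ g ∈ Sp, ∀ u ∈ A.map (x : (U × U) →ₗ[F] (U × U)), g u ∈ A.map (x : (U × U) →ₗ[F] (U × U)) := by
    rintro A hA g ⟨hg, hgp⟩ u hu
    obtain ⟨w, hw, rfl⟩ := Submodule.mem_map.1 hu
    exact Submodule.mem_map.2 ⟨(x⁻¹ * g * x) w, hA _ ⟨hn' g hg, hpair' g hg hgp⟩ w hw, x.apply_symm_apply _⟩
  have hinv₁ : ∀ g ∈ Sp, ∀ u ∈ e₁, g u ∈ e₁ := by
    rintro g ⟨-, c, hc, d, hd, rfl⟩ ⟨u, v⟩ ⟨-, hv⟩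
    have hv' : v = 0 := hv
    subst hv'
    exact ⟨Submodule.mem_top, map_zero d⟩
  have hinv₂ : ∀ g ∈ Sp, ∀ u ∈ e₂, g u ∈ e₂ := by
    rintro g ⟨-, c, hc, d, hd, rfl⟩ ⟨u, v⟩ ⟨hv, -⟩
    have hv' : u = 0 := hv
    subst hv'
    exact ⟨map_zero c, Submodule.mem_top⟩
  have hfour : ∀ A : Submodule F (U × U), (∀ g ∈ Sp, ∀ u ∈ A, g u ∈ A) → A = ⊥ ∨ A = ⊤ ∨ A = e₁ ∨ A = e₂ :=
    fun A hA => invariant_cases ha₀2 hc₀ (hirr.mono fun a ha => by
      obtain ⟨b, hb, h⟩ := hfull a ha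
      exact ⟨b, h, a, ha, b, hb, rfl⟩) (hirr.mono fun b hb => by
      obtain ⟨a, ha, h⟩ := hfull' b hb
      exact ⟨a, h, a, ha, b, hb, rfl⟩) A hA
  obtain ⟨u₀, hu₀⟩ := exists_ne (0 : U)
  have hne : e₁ ≠ ⊥ ∧ e₁ ≠ ⊤ ∧ e₂ ≠ ⊥ ∧ e₂ ≠ ⊤ ∧ e₁ ≠ e₂ := by
    have m1 : ((u₀, 0) : U × U) ∈ e₁ := ⟨Submodule.mem_top, rfl⟩
    have m2 : ((0, u₀) : U × U) ∈ e₂ := ⟨rfl, Submodule.mem_top⟩
    refine ⟨fun h => hu₀ ?_, fun h => hu₀ ?_, fun h => hu₀ ?_, fun h => hu₀ ?_, fun h => hu₀ ?_⟩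
    · exact congrArg Prod.fst ((Submodule.mem_bot F).1 (h ▸ m1))
    · exact (show ((0, u₀) : U × U) ∈ e₁ from h ▸ Submodule.mem_top).2
    · exact congrArg Prod.snd ((Submodule.mem_bot F).1 (h ▸ m2))
    · exact (show ((u₀, 0) : U × U) ∈ e₂ from h ▸ Submodule.mem_top).1
    · exact (show ((u₀, 0) : U × U) ∈ e₂ from h ▸ m1).1
  have hmapne : ∀ A : Submodule F (U × U), A ≠ ⊥ → A ≠ ⊤ →
      A.map (x : (U × U) →ₗ[F] (U × U)) ≠ ⊥ ∧ A.map (x : (U × U) →ₗ[F] (U × U)) ≠ ⊤ := by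
    intro A h0 h1
    have hinj := Submodule.map_injective_of_injective (f := (x : (U × U) →ₗ[F] (U × U))) x.injective
    refine ⟨fun h => h0 (hinj (h.trans (Submodule.map_bot _).symm)), fun h => h1 (hinj (h.trans ?_))⟩
    rw [Submodule.map_top, LinearMap.range_eq_top.2 x.surjective]
  have hstep : ∀ A, A = e₁ ∨ A = e₂ → A.map (x : (U × U) →ₗ[F] (U × U)) = e₁ ∨ A.map (x : (U × U) →ₗ[F] (U × U)) = e₂ := by
    rintro A (rfl | rfl)
    · rcases hfour _ (himage _ hinv₁) with h | h | h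
      · exact absurd h (hmapne _ hne.1 hne.2.1).1
      · exact absurd h (hmapne _ hne.1 hne.2.1).2
      · exact h
    · rcases hfour _ (himage _ hinv₂) with h | h | h
      · exact absurd h (hmapne _ hne.2.2.1 hne.2.2.2.1).1
      · exact absurd h (hmapne _ hne.2.2.1 hne.2.2.2.1).2
      · exact h
  have hfix : e₁.map (x : (U × U) →ₗ[F] (U × U)) = e₁ := by
    rcases hstep e₁ (Or.inl rfl) with h | h
    · exact h
    exfalso
    have hinj := Submodule.map_injective_of_injective (f := (x : (U × U) →ₗ[F] (U × U))) x.injective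
    have h21 : e₂.map (x : (U × U) →ₗ[F] (U × U)) = e₁ := by
      rcases hstep e₂ (Or.inr rfl) with h' | h'
      · exact h'
      · exact absurd (hinj (h.trans h'.symm)) hne.2.2.2.2
    have hk : ∀ k : ℕ, e₁.map ((x ^ k : (U × U) ≃ₗ[F] (U × U)) : (U × U) →ₗ[F] (U × U)) = if Even k then e₁ else e₂ := by
      intro k
      induction k with
      | zero => simp
      | succ k ih =>
        rw [pow_succ', show ((x * x ^ k : (U × U) ≃ₗ[F] (U × U)) : (U × U) →ₗ[F] (U × U)) =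
          (x : (U × U) →ₗ[F] (U × U)) ∘ₗ ((x ^ k : (U × U) ≃ₗ[F] (U × U)) : (U × U) →ₗ[F] (U × U)) from rfl,
          Submodule.map_comp, ih]
        by_cases hev : Even k
        · rw [if_pos hev, h, if_neg (by simp [parity_simps, hev])]
        · rw [if_neg hev, h21, if_pos (by simp [parity_simps, hev])]
    have := hk (orderOf x)
    rw [pow_orderOf_eq_one, if_neg (Nat.not_even_iff_odd.2 hx)] at this
    refine hne.2.2.2.2 (Eq.trans ?_ this)
    exact (Submodule.map_id e₁).symm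
  have hfix₂ : e₂.map (x : (U × U) →ₗ[F] (U × U)) = e₂ := by
    rcases hstep e₂ (Or.inr rfl) with h | h
    · exact absurd (Submodule.map_injective_of_injective x.injective (hfix.trans h.symm)) hne.2.2.2.2
    · exact h
  -- the two components
  have hx1 : ∀ u : U, (x (u, 0)).2 = 0 := fun u => by
    have h := Submodule.mem_map_of_mem (f := (x : (U × U) →ₗ[F] (U × U)))
      (show ((u, 0) : U × U) ∈ e₁ from ⟨Submodule.mem_top, rfl⟩)
    rw [hfix] at h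
    exact h.2
  have hx2 : ∀ u : U, (x (0, u)).1 = 0 := fun u => by
    have h := Submodule.mem_map_of_mem (f := (x : (U × U) →ₗ[F] (U × U)))
      (show ((0, u) : U × U) ∈ e₂ from ⟨rfl, Submodule.mem_top⟩)
    rw [hfix₂] at h
    exact h.1
  let f₁ : U →ₗ[F] U := LinearMap.fst F U U ∘ₗ (x : (U × U) →ₗ[F] (U × U)) ∘ₗ LinearMap.inl F U U
  let f₂ : U →ₗ[F] U := LinearMap.snd F U U ∘ₗ (x : (U × U) →ₗ[F] (U × U)) ∘ₗ LinearMap.inr F U U
  have hxf : ∀ u v : U, x (u, v) = (f₁ u, f₂ v) := fun u v => by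
    have : x (u, v) = x (u, 0) + x (0, v) := by rw [← map_add]; simp
    rw [this]
    ext
    · simp [f₁, hx2 v]
    · simp [f₂, hx1 u]
  have hf₁ : Function.Bijective f₁ := by
    constructor
    · intro u v e
      have : x (u, 0) = x (v, 0) := by rw [hxf, hxf, e]
      exact congrArg Prod.fst (x.injective this)
    · intro w
      obtain ⟨⟨u, v⟩, e⟩ := x.surjective (w, 0)
      rw [hxf] at e
      exact ⟨u, congrArg Prod.fst e⟩
  have hf₂ : Function.Bijective f₂ := by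
    constructor
    · intro u v e
      have : x (0, u) = x (0, v) := by rw [hxf, hxf, e]
      exact congrArg Prod.snd (x.injective this)
    · intro w
      obtain ⟨⟨u, v⟩, e⟩ := x.surjective (0, w)
      rw [hxf] at e
      exact ⟨v, congrArg Prod.snd e⟩
  let x₁ : U ≃ₗ[F] U := LinearEquiv.ofBijective f₁ hf₁
  let x₂ : U ≃ₗ[F] U := LinearEquiv.ofBijective f₂ hf₂
  have hxe : x = pr (x₁, x₂) := LinearEquiv.ext fun w => hxf w.1 w.2
  have hord := pow_orderOf_eq_one x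
  rw [hxe, ← map_pow] at hord
  have hord' := pr_injective (hord.trans (map_one pr).symm)
  have ho₁ : x₁ ^ orderOf x = 1 := by rw [hxe]; exact congrArg Prod.fst hord'
  have ho₂ : x₂ ^ orderOf x = 1 := by rw [hxe]; exact congrArg Prod.snd hord'
  obtain ⟨c₁, hc₁⟩ := hW x₁ (hx.of_dvd_nat (orderOf_dvd_of_pow_eq_one ho₁)) (fun g hg => by
    obtain ⟨b, hb, hgb⟩ := hfull g hg
    have h := hS (hn _ hgb)
    rw [hxe, ← map_inv, ← map_mul, ← map_mul] at h
    exact (pr_mem_wr_iff.1 h).1)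
  obtain ⟨c₂, hc₂⟩ := hW x₂ (hx.of_dvd_nat (orderOf_dvd_of_pow_eq_one ho₂)) (fun g hg => by
    obtain ⟨a, ha, hga⟩ := hfull' g hg
    have h := hS (hn _ hga)
    rw [hxe, ← map_inv, ← map_mul, ← map_mul] at h
    exact (pr_mem_wr_iff.1 h).2)
  -- the commutator with the exchange
  have hcomm₁ : ∀ g : U ≃ₗ[F] U, x₁ * g = g * x₁ := fun g => LinearEquiv.ext fun u => by
    show x₁ (g u) = g (x₁ u)
    rw [hc₁, hc₁, map_smul]
  have hcomm₂ : ∀ g : U ≃ₗ[F] U, x₂ * g = g * x₂ := fun g => LinearEquiv.ext fun u => by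
    show x₂ (g u) = g (x₂ u)
    rw [hc₂, hc₂, map_smul]
  have hmem := hS (mul_mem (hn _ ht) (inv_mem ht))
  have e : x * (pr (p, q) * sigma) * x⁻¹ * (pr (p, q) * sigma)⁻¹ = pr (x₁ * x₂⁻¹, x₂ * x₁⁻¹) := by
    rw [show x * (pr (p, q) * sigma) * x⁻¹ * (pr (p, q) * sigma)⁻¹ =
      x * ((pr (p, q) * sigma) * x⁻¹ * (pr (p, q) * sigma)⁻¹) by group, hxe, ← map_inv]
    rw [show ((x₁, x₂) : (U ≃ₗ[F] U) × (U ≃ₗ[F] U))⁻¹ = (x₁⁻¹, x₂⁻¹) from rfl, swap_conj, ← map_mul]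
    refine congrArg pr (Prod.ext ?_ ?_)
    · show x₁ * (p * x₂⁻¹ * p⁻¹) = x₁ * x₂⁻¹
      rw [(Commute.inv_left (hcomm₂ p : Commute x₂ p)).symm.eq, mul_inv_cancel_right]
    · show x₂ * (q * x₁⁻¹ * q⁻¹) = x₂ * x₁⁻¹
      rw [(Commute.inv_left (hcomm₁ q : Commute x₁ q)).symm.eq, mul_inv_cancel_right]
  rw [e] at hmem
  obtain ⟨k, hk⟩ := h2 ⟨_, hmem⟩
  have hk' : (pr (x₁ * x₂⁻¹, x₂ * x₁⁻¹)) ^ 2 ^ k = 1 := congrArg Subtype.val hk
  have hodd : (pr (x₁ * x₂⁻¹, x₂ * x₁⁻¹)) ^ orderOf x = 1 := by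
    rw [← map_pow, Prod.pow_mk, Commute.mul_pow (hcomm₁ x₂⁻¹), Commute.mul_pow (hcomm₂ x₁⁻¹),
      inv_pow, inv_pow, ho₁, ho₂, inv_one, mul_one]
    exact map_one pr
  have h1 := congrArg Prod.fst (pr_injective ((eq_one_of_two_power k hk' hx hodd).trans (map_one pr).symm))
  have h12 : x₁ = x₂ := mul_inv_eq_one.1 h1
  refine ⟨c₁, fun w => ?_⟩
  rw [hxe]
  obtain ⟨u, v⟩ := w
  rw [pr_apply, ← h12, hc₁, hc₁]
  rfl

end Cfsg.Lib.Linear.Pronormal
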